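/-
Tables for the identification of the two models of the rank-24 even unimodular lattice without roots,
and for the scans bounding a centraliser of an element of order five (computed outside, checked in Iso and Scan).
-/
import Cfsg.Agent.Lib.HallJanko.Ico

set_option autoImplicit false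
set_option maxHeartbeats 4000000

namespace CfsgHJL

open CfsgHJ

/-- The scalar of order five. -/
def uFive : Ico := ⟨0,-1,0,1,0,0,0,0⟩

/-- Line and unit indices of the six base vectors. -/
def baseIdx : List (ℕ × ℕ) := [(0,0),(12,0),(0,2),(1,0),(1,2),(10,10)]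

/-- The scaling factor of `mapM`. -/
def den : ℤ := 4

/-- Coordinates of the generators of the lattice in the basis of base vectors. -/
def coefM : List (List ℤ) := [
  [0,0,-1,-1,0,0,0,0,1,0,0,0,-1,-1,-1,-1,0,-1,-1,-1,0,0,0,0],
  [1,0,-1,0,0,0,0,0,1,1,1,0,0,0,-1,0,0,0,0,0,0,0,0,0],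
  [1,2,1,1,0,0,0,0,0,0,1,1,0,1,0,0,0,0,0,0,0,0,0,0],
  [2,1,0,0,0,0,0,0,1,2,1,0,1,0,-1,0,1,1,0,0,0,0,0,0],
  [0,-1,-1,0,0,0,0,0,-1,-1,-1,-1,0,0,0,1,-1,-1,-1,0,0,0,0,0],
  [0,1,1,0,0,0,0,0,-1,1,1,1,1,1,1,0,0,1,1,1,0,0,0,0],
  [1,0,0,-1,0,0,0,0,0,1,1,0,1,0,0,0,0,0,0,0,0,0,0,0],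
  [-1,0,0,-1,0,0,0,0,0,1,1,0,0,0,0,-1,0,1,1,0,0,0,0,0],
  [1,3,4,2,-1,-3,-2,0,-1,1,3,2,2,2,1,0,-1,0,1,1,0,-2,-3,-2],
  [0,1,1,0,-1,0,2,1,0,0,-1,-1,-1,-1,0,0,0,1,0,0,-1,-1,0,0],
  [-1,-1,0,0,-1,-3,-2,-1,0,1,1,0,0,-1,-1,-1,-1,0,0,0,0,-1,-1,-1],
  [-2,0,2,2,-1,-1,-1,-1,-2,-3,-2,0,-1,1,2,1,-1,-1,-1,0,1,1,0,-1],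
  [2,3,1,-1,-2,-1,1,1,2,4,3,1,0,-1,-2,-2,1,2,2,1,-2,-3,-2,0],
  [-1,-3,-3,-1,0,1,1,1,2,0,-2,-2,-2,-3,-2,0,1,0,0,-1,0,1,2,2],
  [0,1,1,1,-2,-1,0,1,1,1,0,0,-1,-1,-1,0,1,1,1,1,-1,-1,-1,0],
  [-1,-3,-2,0,2,3,2,1,0,-3,-4,-2,-1,-1,1,2,1,-1,-1,-1,1,3,3,2],
  [2,1,1,0,-1,-1,1,2,3,3,2,0,0,-2,-2,-1,1,1,2,0,-1,-2,-1,1],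
  [-3,-5,-3,-1,1,1,1,0,-1,-4,-5,-4,-2,-2,0,1,-1,-1,-2,-2,1,2,3,1],
  [2,0,-2,-3,0,0,1,1,3,4,3,-1,0,-2,-3,-2,0,1,1,-1,-1,-2,0,1],
  [-3,-3,-2,0,-1,-2,-2,-1,-1,-1,-2,-2,-1,-1,-1,0,-1,0,-1,0,0,0,0,-1],
  [-1,-1,-2,-2,0,2,3,1,0,-1,-3,-3,-2,-2,-1,0,0,1,-1,-1,-1,0,2,1],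
  [-1,-3,-5,-2,1,2,0,-1,1,0,-2,-1,-1,-1,-1,0,1,0,-1,0,0,2,2,1],
  [-2,-4,-5,-2,0,1,1,0,1,0,-4,-3,-2,-3,-2,0,1,1,-1,0,-1,1,2,1],
  [-2,-3,-1,1,1,0,-2,-2,-1,-3,-2,1,0,1,2,1,0,-2,-1,0,2,3,1,0]]

/-- Images of the basis vectors. -/
def imgW : List (List ℤ) := [
  [2,0,0,0,-2,0,0,2,0,0,2,2,0,0,-2,-2,0,0,0,0,-2,0,0,0],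
  [0,0,0,0,0,0,0,-2,-2,-2,-2,-2,0,0,2,0,0,2,0,-2,0,0,0,0],
  [-1,1,-1,-1,1,-1,-1,1,1,1,1,1,-1,-1,-1,1,3,-1,-1,1,1,-1,1,1],
  [-1,-1,1,1,1,1,1,-1,-1,-1,1,1,-1,1,1,-1,-3,-1,-1,1,-1,1,-1,-1],
  [-1,3,-1,-1,1,1,-1,1,-1,-1,-1,-1,-1,-1,-1,1,1,1,-1,-1,1,1,-1,-1],
  [-1,-1,1,1,1,-1,1,-1,1,1,1,1,-1,1,1,-3,1,-1,-1,1,1,-1,1,1],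
  [0,0,0,0,0,0,0,0,0,0,0,0,0,0,0,4,-4,0,0,0,0,0,0,0],
  [0,0,0,0,0,0,0,2,0,2,0,0,2,0,0,-2,2,0,2,0,0,2,-2,0],
  [-1,-1,-1,1,1,-1,-1,-1,1,-3,-1,-1,-1,1,1,1,1,1,-1,-1,1,1,-1,1],
  [-2,2,0,-2,0,0,0,0,0,2,2,0,0,0,0,0,0,-2,0,2,0,-2,0,0],
  [2,-2,0,2,2,2,2,0,0,0,0,0,0,0,0,0,-2,0,0,0,0,2,0,0],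
  [-1,-1,1,-1,-3,-1,-1,1,1,1,-1,-1,1,1,-1,1,1,1,1,-1,1,-1,-1,-1],
  [-1,-1,-1,1,1,-1,-1,-1,-1,-1,-1,1,-1,1,3,1,-1,1,1,-1,1,-1,-1,-1],
  [-1,1,1,-1,1,-1,-1,1,1,1,1,-1,1,-1,-1,1,1,-3,1,1,-1,1,1,1],
  [1,-1,-1,1,-1,3,1,-1,1,-1,1,1,1,1,1,-1,-1,1,-1,1,-1,1,-1,-1],
  [0,0,0,-2,0,0,0,0,0,0,-2,-2,0,0,-2,0,0,0,2,-2,2,-2,0,0],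
  [1,1,1,-1,1,1,1,-1,1,1,1,-1,1,-3,-1,1,-1,-1,1,1,-1,1,1,-1],
  [1,-1,-1,1,-1,1,1,1,1,-1,-1,1,1,3,-1,-1,1,1,-1,-1,1,1,-1,-1],
  [-1,1,1,-1,-1,-1,-1,-1,-1,1,-1,-1,-1,-1,-1,-1,-1,1,1,-1,-1,-3,1,1],
  [1,1,-1,1,1,-1,1,1,-1,-1,1,1,-1,-1,1,1,1,1,-1,1,1,3,1,1],
  [3,1,1,-1,1,-1,1,-1,1,1,1,1,-1,1,-1,-1,-1,1,1,1,1,1,1,1],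
  [-1,-1,-1,1,-1,-1,1,3,-1,-1,-1,-1,1,1,1,1,-1,1,-1,-1,-1,-1,-1,1],
  [0,0,0,0,0,0,-2,-2,-2,2,2,0,0,-2,0,0,2,0,2,0,0,0,0,0],
  [1,-1,1,-1,1,1,1,1,1,-3,-1,1,-1,1,1,1,1,-1,-1,1,-1,1,1,-1]]

/-- The scaled isometry on doubled coordinates. -/
def mapM : List (List ℤ) := [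
  [0,2,2,0,2,2,-2,2,0,0,0,0,0,0,0,0,0,2,0,0,0,0,-2,0],
  [0,0,2,2,0,0,0,0,0,-2,2,0,2,0,0,0,0,0,0,0,2,-2,2,0],
  [1,1,-1,1,-1,1,-3,-1,-1,1,1,-1,-1,1,-1,1,-1,-1,-1,-1,1,1,1,-1],
  [0,0,0,0,0,0,0,2,2,0,0,-2,-2,0,2,-2,0,0,0,0,0,0,2,-2],
  [-1,-1,-1,1,1,-1,-1,-1,-1,1,1,-1,1,-1,-1,-3,1,1,1,1,1,1,-1,-1],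
  [1,-1,-1,-1,1,-1,-1,1,-1,-1,-1,-1,1,1,-1,1,-1,1,-1,3,-1,-1,1,-1],
  [-2,0,-2,0,0,0,0,2,0,0,0,0,2,-2,0,0,-2,0,-2,-2,0,0,0,0],
  [1,-1,1,-3,1,-1,-1,-1,1,1,1,1,1,1,1,-1,-1,1,-1,-1,1,1,1,1],
  [1,-1,-1,-1,1,-1,-1,1,-1,-1,1,1,-1,-1,1,1,-1,-1,3,-1,1,-1,-1,-1],
  [1,-1,1,1,-1,-1,-1,1,-1,1,1,-1,1,-1,3,1,1,-1,-1,1,-1,1,-1,1],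
  [0,0,-2,2,0,0,0,0,0,2,0,2,0,2,2,0,0,2,0,0,0,-2,0,0],
  [-1,1,1,1,1,-3,1,1,-1,1,1,-1,-1,1,-1,1,-1,1,1,-1,-1,1,1,1],
  [0,0,0,0,0,0,0,2,-2,0,-2,0,0,2,0,-2,0,-2,0,0,2,0,0,2],
  [0,0,0,0,-2,0,0,0,0,0,0,0,-2,-2,0,0,-2,2,0,2,2,0,0,2],
  [-1,1,-1,-1,-1,1,1,1,-1,-1,1,1,1,1,1,1,1,1,1,1,1,3,1,-1],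
  [-2,-2,0,0,0,2,-2,0,0,0,0,0,0,0,0,0,0,0,2,0,-2,0,2,2],
  [2,0,0,0,-2,0,0,2,0,0,2,2,0,0,-2,-2,0,0,0,0,-2,0,0,0],
  [2,0,0,0,-2,0,0,0,0,0,-2,-2,2,0,0,0,0,2,2,-2,0,0,0,0],
  [1,1,-1,-1,1,1,1,1,1,3,1,-1,1,-1,-1,1,1,-1,1,1,1,-1,1,1],
  [0,-2,0,0,0,2,2,0,0,0,2,-2,0,2,0,0,-2,0,0,0,0,0,-2,0],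
  [1,1,1,1,1,1,1,-1,-1,1,-1,1,1,-1,1,-1,-3,-1,1,1,-1,1,1,-1],
  [-1,-1,1,1,-1,-1,-1,1,3,1,-1,1,1,1,-1,1,-1,-1,1,1,1,1,-1,-1],
  [-2,0,2,-2,-2,0,0,0,-2,2,0,0,0,0,0,0,0,0,0,0,0,-2,0,-2],
  [1,-3,1,1,1,1,1,1,-1,1,-1,1,-1,-1,-1,1,1,1,-1,-1,1,1,1,-1]]

/-- Preimages of generators of the target lattice. -/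
def preC : List (List ℤ) := [
  [-1,-2,-2,-1,2,2,0,-1,-1,-1,-1,0,1,1,1,0,1,1,0,0,1,2,2,1],
  [-1,-1,-1,-1,1,2,1,0,-1,-2,-2,-1,0,1,2,1,0,0,0,0,1,2,2,1],
  [-2,-2,-2,-1,1,1,0,-1,-1,-1,-2,-1,0,1,1,0,0,1,0,0,1,2,2,1],
  [-2,-3,-3,-1,2,4,3,0,-1,-3,-4,-2,-1,1,2,2,0,1,0,0,1,3,4,2],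
  [-3,-3,-1,1,1,0,-2,-2,-2,-3,-2,0,1,3,3,1,0,1,1,1,2,3,2,0],
  [-4,-4,-1,1,2,2,0,-1,-2,-5,-5,-2,-1,1,3,2,0,0,-1,-1,3,5,4,1],
  [0,0,-1,-1,1,2,2,1,0,0,0,0,0,1,2,1,-1,0,1,1,0,0,1,1],
  [0,0,-1,-1,-1,0,1,1,1,2,1,0,0,0,0,0,0,1,2,2,-1,-1,0,1],
  [-3,-4,-2,0,2,2,0,-1,-2,-4,-4,-1,0,1,3,2,0,-1,-1,0,2,4,3,1],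
  [-1,-2,-2,-1,0,0,0,0,1,1,0,0,0,0,0,0,0,1,1,1,0,0,1,1],
  [-1,1,2,1,0,-1,-2,-1,-2,-1,1,2,1,2,2,0,-1,-1,0,1,1,0,-1,-1],
  [0,0,-1,-1,1,3,3,1,0,-1,-2,-1,-1,0,1,1,0,0,-1,0,0,1,2,1],
  [0,1,1,0,0,1,2,1,0,0,0,0,0,1,1,0,0,2,2,1,0,0,1,1],
  [0,0,0,0,0,-2,-3,-2,-1,0,1,1,1,0,-1,-1,0,-1,-2,-1,1,0,-1,-1],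
  [0,-1,-2,-1,1,0,-1,-1,0,1,0,0,1,0,-1,-1,1,1,0,0,0,0,0,0],
  [-1,-2,-2,0,2,2,0,-1,-1,-2,-2,0,0,0,0,0,1,0,-1,-1,1,2,2,1],
  [-1,-3,-3,-1,1,0,-2,-2,0,0,0,0,1,0,-1,-1,1,1,0,0,0,1,1,0],
  [-1,0,2,2,1,-1,-3,-2,-2,-2,0,1,2,2,1,0,1,0,-1,-1,2,2,0,-1],
  [0,0,0,0,1,0,-1,-1,-1,0,1,1,1,1,1,0,0,0,0,0,0,0,0,0],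
  [1,1,0,0,-1,-1,-1,0,1,3,2,1,1,-1,-2,-1,2,2,1,1,-1,-1,-1,0],
  [0,0,1,1,1,-1,-3,-2,-2,-1,1,2,2,2,1,0,0,-1,-1,0,1,1,-1,-1],
  [1,1,1,0,0,-1,-2,-1,0,1,2,2,2,1,0,-1,1,0,0,0,0,-1,-2,-1],
  [1,3,3,1,-1,-3,-3,-1,-1,2,4,3,2,1,-1,-2,0,0,0,0,0,-2,-3,-2],
  [1,1,1,1,1,0,-2,-2,-1,0,1,2,2,2,1,0,1,0,-1,0,1,1,0,-1],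
  [0,0,1,1,0,0,0,0,-1,-1,-1,0,1,0,0,0,1,1,0,0,0,0,0,0],
  [-2,-1,1,2,1,0,-2,-2,-3,-4,-3,0,1,2,2,1,1,0,-2,-1,2,3,1,-1],
  [0,1,1,1,0,-2,-3,-2,-1,1,2,2,2,2,0,-1,0,1,0,0,1,0,-1,-1],
  [1,2,1,0,0,-1,-2,-1,-1,1,2,2,2,1,0,-1,0,-1,-1,0,0,-1,-2,-1],
  [0,0,0,0,0,-1,-1,-1,0,1,1,1,1,0,-1,-1,1,1,0,0,0,0,0,0],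
  [0,0,0,0,0,-1,-2,-1,0,1,1,1,1,0,-1,-1,1,1,0,0,0,0,0,0],
  [-1,0,2,2,1,-1,-3,-2,-2,-2,0,2,2,2,2,0,1,0,0,0,2,2,0,-1],
  [0,-1,-1,0,0,-1,-2,-1,0,1,1,1,2,1,0,0,1,1,1,1,0,0,0,0],
  [-3,-3,0,2,0,-3,-5,-3,-2,-2,-1,1,1,1,1,0,0,-1,-1,0,2,2,0,-1],
  [-1,-1,0,1,1,0,-2,-2,-2,-2,-1,1,1,1,1,1,0,-1,-2,0,1,1,0,-1],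
  [1,3,3,2,-1,-3,-3,-1,-1,1,3,3,2,2,0,-1,0,0,0,1,0,-2,-3,-2],
  [0,2,3,2,0,-2,-4,-3,-3,-1,2,3,3,4,2,0,0,0,0,1,1,0,-2,-2],
  [0,0,0,0,0,0,0,0,0,0,0,0,0,0,0,0,0,0,0,0,0,0,0,0],
  [0,-1,-2,-2,0,3,5,3,2,0,-2,-3,-3,-2,0,1,-1,0,1,0,-1,0,2,2]]

/-- Doubled coordinates of the units. -/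
def unitDd : List Ico := [
  ⟨2,0,0,0,0,0,0,0⟩,⟨-2,0,0,0,0,0,0,0⟩,⟨-1,0,-1,0,-1,0,-1,0⟩,⟨-1,0,-1,0,-1,0,1,0⟩,
  ⟨-1,0,-1,0,1,0,-1,0⟩,⟨-1,0,-1,0,1,0,1,0⟩,⟨-1,0,-1,1,0,0,0,-1⟩,⟨-1,0,-1,1,0,0,0,1⟩,
  ⟨-1,0,0,-1,-1,1,0,0⟩,⟨-1,0,0,-1,1,-1,0,0⟩,⟨-1,0,0,0,0,-1,-1,1⟩,⟨-1,0,0,0,0,-1,1,-1⟩,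
  ⟨-1,0,0,0,0,1,-1,1⟩,⟨-1,0,0,0,0,1,1,-1⟩,⟨-1,0,0,1,-1,1,0,0⟩,⟨-1,0,0,1,1,-1,0,0⟩,
  ⟨-1,0,1,-1,0,0,0,-1⟩,⟨-1,0,1,-1,0,0,0,1⟩,⟨-1,0,1,0,-1,0,-1,0⟩,⟨-1,0,1,0,-1,0,1,0⟩,
  ⟨-1,0,1,0,1,0,-1,0⟩,⟨-1,0,1,0,1,0,1,0⟩,⟨-1,1,-1,0,0,-1,0,0⟩,⟨-1,1,-1,0,0,1,0,0⟩,
  ⟨-1,1,0,-1,0,0,-1,0⟩,⟨-1,1,0,-1,0,0,1,0⟩,⟨-1,1,0,0,-1,0,0,-1⟩,⟨-1,1,0,0,-1,0,0,1⟩,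
  ⟨-1,1,0,0,1,0,0,-1⟩,⟨-1,1,0,0,1,0,0,1⟩,⟨-1,1,0,1,0,0,-1,0⟩,⟨-1,1,0,1,0,0,1,0⟩,
  ⟨-1,1,1,0,0,-1,0,0⟩,⟨-1,1,1,0,0,1,0,0⟩,⟨0,-1,-1,0,0,0,-1,1⟩,⟨0,-1,-1,0,0,0,1,-1⟩,
  ⟨0,-1,-1,1,-1,0,0,0⟩,⟨0,-1,-1,1,1,0,0,0⟩,⟨0,-1,0,0,-1,1,-1,0⟩,⟨0,-1,0,0,-1,1,1,0⟩,
  ⟨0,-1,0,0,1,-1,-1,0⟩,⟨0,-1,0,0,1,-1,1,0⟩,⟨0,-1,1,-1,-1,0,0,0⟩,⟨0,-1,1,-1,1,0,0,0⟩,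
  ⟨0,-1,1,0,0,0,-1,1⟩,⟨0,-1,1,0,0,0,1,-1⟩,⟨0,0,-2,0,0,0,0,0⟩,⟨0,0,-1,0,-1,1,0,-1⟩,
  ⟨0,0,-1,0,-1,1,0,1⟩,⟨0,0,-1,0,1,-1,0,-1⟩,⟨0,0,-1,0,1,-1,0,1⟩,⟨0,0,-1,1,0,-1,-1,0⟩,
  ⟨0,0,-1,1,0,-1,1,0⟩,⟨0,0,-1,1,0,1,-1,0⟩,⟨0,0,-1,1,0,1,1,0⟩,⟨0,0,0,-1,-1,0,-1,1⟩,
  ⟨0,0,0,-1,-1,0,1,-1⟩,⟨0,0,0,-1,1,0,-1,1⟩,⟨0,0,0,-1,1,0,1,-1⟩,⟨0,0,0,0,-2,0,0,0⟩,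
  ⟨0,0,0,0,0,0,-2,0⟩,⟨0,0,0,0,0,0,2,0⟩,⟨0,0,0,0,2,0,0,0⟩,⟨0,0,0,1,-1,0,-1,1⟩,
  ⟨0,0,0,1,-1,0,1,-1⟩,⟨0,0,0,1,1,0,-1,1⟩,⟨0,0,0,1,1,0,1,-1⟩,⟨0,0,1,-1,0,-1,-1,0⟩,
  ⟨0,0,1,-1,0,-1,1,0⟩,⟨0,0,1,-1,0,1,-1,0⟩,⟨0,0,1,-1,0,1,1,0⟩,⟨0,0,1,0,-1,1,0,-1⟩,
  ⟨0,0,1,0,-1,1,0,1⟩,⟨0,0,1,0,1,-1,0,-1⟩,⟨0,0,1,0,1,-1,0,1⟩,⟨0,0,2,0,0,0,0,0⟩,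
  ⟨0,1,-1,0,0,0,-1,1⟩,⟨0,1,-1,0,0,0,1,-1⟩,⟨0,1,-1,1,-1,0,0,0⟩,⟨0,1,-1,1,1,0,0,0⟩,
  ⟨0,1,0,0,-1,1,-1,0⟩,⟨0,1,0,0,-1,1,1,0⟩,⟨0,1,0,0,1,-1,-1,0⟩,⟨0,1,0,0,1,-1,1,0⟩,
  ⟨0,1,1,-1,-1,0,0,0⟩,⟨0,1,1,-1,1,0,0,0⟩,⟨0,1,1,0,0,0,-1,1⟩,⟨0,1,1,0,0,0,1,-1⟩,
  ⟨1,-1,-1,0,0,-1,0,0⟩,⟨1,-1,-1,0,0,1,0,0⟩,⟨1,-1,0,-1,0,0,-1,0⟩,⟨1,-1,0,-1,0,0,1,0⟩,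
  ⟨1,-1,0,0,-1,0,0,-1⟩,⟨1,-1,0,0,-1,0,0,1⟩,⟨1,-1,0,0,1,0,0,-1⟩,⟨1,-1,0,0,1,0,0,1⟩,
  ⟨1,-1,0,1,0,0,-1,0⟩,⟨1,-1,0,1,0,0,1,0⟩,⟨1,-1,1,0,0,-1,0,0⟩,⟨1,-1,1,0,0,1,0,0⟩,
  ⟨1,0,-1,0,-1,0,-1,0⟩,⟨1,0,-1,0,-1,0,1,0⟩,⟨1,0,-1,0,1,0,-1,0⟩,⟨1,0,-1,0,1,0,1,0⟩,
  ⟨1,0,-1,1,0,0,0,-1⟩,⟨1,0,-1,1,0,0,0,1⟩,⟨1,0,0,-1,-1,1,0,0⟩,⟨1,0,0,-1,1,-1,0,0⟩,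
  ⟨1,0,0,0,0,-1,-1,1⟩,⟨1,0,0,0,0,-1,1,-1⟩,⟨1,0,0,0,0,1,-1,1⟩,⟨1,0,0,0,0,1,1,-1⟩,
  ⟨1,0,0,1,-1,1,0,0⟩,⟨1,0,0,1,1,-1,0,0⟩,⟨1,0,1,-1,0,0,0,-1⟩,⟨1,0,1,-1,0,0,0,1⟩,
  ⟨1,0,1,0,-1,0,-1,0⟩,⟨1,0,1,0,-1,0,1,0⟩,⟨1,0,1,0,1,0,-1,0⟩,⟨1,0,1,0,1,0,1,0⟩]

/-- Part 0 of the table of stage 0. -/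
def ker0_0 : List (List Ico) := [
  [⟨8,0,0,0,0,0,0,0⟩,⟨-4,4,-4,0,0,-4,0,0⟩,⟨0,-4,4,-4,-4,0,0,0⟩,⟨0,-4,-4,4,4,0,0,0⟩],
  [⟨-4,0,4,0,0,0,0,0⟩,⟨4,-2,0,2,0,2,0,2⟩,⟨-2,4,-2,0,2,0,2,0⟩,⟨2,0,2,-4,-2,0,-2,0⟩],
  [⟨0,0,0,0,4,0,-4,0⟩,⟨0,2,0,2,-4,2,0,-2⟩,⟨2,0,2,0,2,-4,2,0⟩,⟨-2,0,-2,0,-2,0,-2,4⟩],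
  [⟨0,0,0,0,-4,0,-4,0⟩,⟨0,-2,0,2,0,-2,4,-2⟩,⟨-2,0,2,0,2,0,-2,4⟩,⟨2,0,-2,0,-2,4,2,0⟩],
  [⟨-4,0,-4,0,0,0,0,0⟩,⟨0,-2,4,-2,0,2,0,-2⟩,⟨2,0,-2,4,2,0,-2,0⟩,⟨-2,4,2,0,-2,0,2,0⟩],
  [⟨4,0,4,0,0,0,0,0⟩,⟨0,2,-4,2,0,-2,0,2⟩,⟨-2,0,2,-4,-2,0,2,0⟩,⟨2,-4,-2,0,2,0,-2,0⟩],
  [⟨0,0,0,0,4,0,4,0⟩,⟨0,2,0,-2,0,2,-4,2⟩,⟨2,0,-2,0,-2,0,2,-4⟩,⟨-2,0,2,0,2,-4,-2,0⟩],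
  [⟨0,0,0,0,-4,0,4,0⟩,⟨0,-2,0,-2,4,-2,0,2⟩,⟨-2,0,-2,0,-2,4,-2,0⟩,⟨2,0,2,0,2,0,2,-4⟩],
  [⟨4,0,-4,0,0,0,0,0⟩,⟨-4,2,0,-2,0,-2,0,-2⟩,⟨2,-4,2,0,-2,0,-2,0⟩,⟨-2,0,-2,4,2,0,2,0⟩],
  [⟨0,0,0,0,0,0,0,0⟩,⟨0,0,0,0,0,0,0,0⟩,⟨0,0,0,0,0,0,0,0⟩,⟨0,0,0,0,0,0,0,0⟩],
  [⟨0,-2,2,0,0,0,-2,2⟩,⟨0,0,-2,2,0,2,2,0⟩,⟨0,2,2,-2,2,0,0,0⟩,⟨2,0,-2,0,-2,0,-2,0⟩],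
  [⟨0,2,-2,0,0,0,2,-2⟩,⟨0,0,2,-2,0,-2,-2,0⟩,⟨0,-2,-2,2,-2,0,0,0⟩,⟨-2,0,2,0,2,0,2,0⟩],
  [⟨-2,0,0,2,2,2,0,0⟩,⟨2,2,2,0,0,2,0,0⟩,⟨2,2,-2,0,0,-2,0,0⟩,⟨-2,0,0,-2,-2,-2,0,0⟩],
  [⟨2,0,0,-2,-2,-2,0,0⟩,⟨-2,-2,-2,0,0,-2,0,0⟩,⟨-2,-2,2,0,0,2,0,0⟩,⟨2,0,0,2,2,2,0,0⟩],
  [⟨-2,-2,0,0,-2,0,0,-2⟩,⟨0,-2,2,2,2,0,0,0⟩,⟨0,2,0,2,0,2,0,2⟩,⟨2,2,0,-2,0,0,2,0⟩],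
  [⟨2,2,0,0,2,0,0,2⟩,⟨0,2,-2,-2,-2,0,0,0⟩,⟨0,-2,0,-2,0,-2,0,-2⟩,⟨-2,-2,0,2,0,0,-2,0⟩],
  [⟨0,0,-2,2,0,-2,-2,0⟩,⟨-2,0,2,0,-2,0,2,0⟩,⟨2,-2,0,0,2,0,0,2⟩,⟨-2,2,-2,0,0,2,0,0⟩],
  [⟨0,0,2,-2,0,2,2,0⟩,⟨2,0,-2,0,2,0,-2,0⟩,⟨-2,2,0,0,-2,0,0,-2⟩,⟨2,-2,2,0,0,-2,0,0⟩],
  [⟨-2,2,0,0,-2,0,0,2⟩,⟨2,-2,0,-2,0,0,2,0⟩,⟨-2,0,-2,0,2,0,-2,0⟩,⟨0,0,2,0,-2,2,0,-2⟩],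
  [⟨2,-2,0,0,2,0,0,-2⟩,⟨-2,2,0,2,0,0,-2,0⟩,⟨2,0,2,0,-2,0,2,0⟩,⟨0,0,-2,0,2,-2,0,2⟩],
  [⟨2,0,0,2,-2,2,0,0⟩,⟨0,2,0,0,2,-2,2,0⟩,⟨0,0,0,-2,-2,0,-2,2⟩,⟨0,-2,-2,0,0,0,2,-2⟩]]

/-- Part 1 of the table of stage 0. -/
def ker0_1 : List (List Ico) := [
  [⟨-2,0,0,-2,2,-2,0,0⟩,⟨0,-2,0,0,-2,2,-2,0⟩,⟨0,0,0,2,2,0,2,-2⟩,⟨0,2,2,0,0,0,-2,2⟩],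
  [⟨0,0,2,2,0,-2,2,0⟩,⟨0,0,0,0,0,0,0,4⟩,⟨0,0,-2,-2,0,2,2,0⟩,⟨0,0,0,-2,2,0,-2,-2⟩],
  [⟨0,0,-2,-2,0,2,-2,0⟩,⟨0,0,0,0,0,0,0,-4⟩,⟨0,0,2,2,0,-2,-2,0⟩,⟨0,0,0,2,-2,0,2,2⟩],
  [⟨0,2,2,0,0,0,-2,-2⟩,⟨2,0,0,2,-2,-2,0,0⟩,⟨-2,0,0,0,0,-2,2,2⟩,⟨0,-2,0,-2,0,2,0,2⟩],
  [⟨0,-2,-2,0,0,0,2,2⟩,⟨-2,0,0,-2,2,2,0,0⟩,⟨2,0,0,0,0,2,-2,-2⟩,⟨0,2,0,2,0,-2,0,-2⟩],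
  [⟨0,2,2,0,0,0,-2,-2⟩,⟨2,0,0,2,-2,-2,0,0⟩,⟨-2,0,0,0,0,-2,2,2⟩,⟨0,-2,0,-2,0,2,0,2⟩],
  [⟨0,-2,-2,0,0,0,2,2⟩,⟨-2,0,0,-2,2,2,0,0⟩,⟨2,0,0,0,0,2,-2,-2⟩,⟨0,2,0,2,0,-2,0,-2⟩],
  [⟨0,0,2,2,0,-2,2,0⟩,⟨0,0,0,0,0,0,0,4⟩,⟨0,0,-2,-2,0,2,2,0⟩,⟨0,0,0,-2,2,0,-2,-2⟩],
  [⟨0,0,-2,-2,0,2,-2,0⟩,⟨0,0,0,0,0,0,0,-4⟩,⟨0,0,2,2,0,-2,-2,0⟩,⟨0,0,0,2,-2,0,2,2⟩],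
  [⟨2,0,0,2,-2,2,0,0⟩,⟨0,2,0,0,2,-2,2,0⟩,⟨0,0,0,-2,-2,0,-2,2⟩,⟨0,-2,-2,0,0,0,2,-2⟩],
  [⟨-2,0,0,-2,2,-2,0,0⟩,⟨0,-2,0,0,-2,2,-2,0⟩,⟨0,0,0,2,2,0,2,-2⟩,⟨0,2,2,0,0,0,-2,2⟩],
  [⟨-2,2,0,0,-2,0,0,2⟩,⟨2,-2,0,-2,0,0,2,0⟩,⟨-2,0,-2,0,2,0,-2,0⟩,⟨0,0,2,0,-2,2,0,-2⟩],
  [⟨2,-2,0,0,2,0,0,-2⟩,⟨-2,2,0,2,0,0,-2,0⟩,⟨2,0,2,0,-2,0,2,0⟩,⟨0,0,-2,0,2,-2,0,2⟩],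
  [⟨0,0,-2,2,0,-2,-2,0⟩,⟨-2,0,2,0,-2,0,2,0⟩,⟨2,-2,0,0,2,0,0,2⟩,⟨-2,2,-2,0,0,2,0,0⟩],
  [⟨0,0,2,-2,0,2,2,0⟩,⟨2,0,-2,0,2,0,-2,0⟩,⟨-2,2,0,0,-2,0,0,-2⟩,⟨2,-2,2,0,0,-2,0,0⟩],
  [⟨-2,-2,0,0,-2,0,0,-2⟩,⟨0,-2,2,2,2,0,0,0⟩,⟨0,2,0,2,0,2,0,2⟩,⟨2,2,0,-2,0,0,2,0⟩],
  [⟨2,2,0,0,2,0,0,2⟩,⟨0,2,-2,-2,-2,0,0,0⟩,⟨0,-2,0,-2,0,-2,0,-2⟩,⟨-2,-2,0,2,0,0,-2,0⟩],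
  [⟨-2,0,0,2,2,2,0,0⟩,⟨2,2,2,0,0,2,0,0⟩,⟨2,2,-2,0,0,-2,0,0⟩,⟨-2,0,0,-2,-2,-2,0,0⟩],
  [⟨2,0,0,-2,-2,-2,0,0⟩,⟨-2,-2,-2,0,0,-2,0,0⟩,⟨-2,-2,2,0,0,2,0,0⟩,⟨2,0,0,2,2,2,0,0⟩],
  [⟨0,-2,2,0,0,0,-2,2⟩,⟨0,0,-2,2,0,2,2,0⟩,⟨0,2,2,-2,2,0,0,0⟩,⟨2,0,-2,0,-2,0,-2,0⟩],
  [⟨0,2,-2,0,0,0,2,-2⟩,⟨0,0,2,-2,0,-2,-2,0⟩,⟨0,-2,-2,2,-2,0,0,0⟩,⟨-2,0,2,0,2,0,2,0⟩]]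

/-- Part 2 of the table of stage 0. -/
def ker0_2 : List (List Ico) := [
  [⟨0,0,0,0,0,0,-4,0⟩,⟨0,0,0,2,-2,0,2,-2⟩,⟨0,0,2,0,2,-2,0,2⟩,⟨0,0,-2,0,-2,2,0,2⟩],
  [⟨0,0,0,0,0,0,4,0⟩,⟨0,0,0,-2,2,0,-2,2⟩,⟨0,0,-2,0,-2,2,0,-2⟩,⟨0,0,2,0,2,-2,0,-2⟩],
  [⟨0,0,4,0,0,0,0,0⟩,⟨2,0,-2,2,0,0,0,2⟩,⟨-2,2,0,-2,0,0,2,0⟩,⟨2,-2,0,-2,0,0,-2,0⟩],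
  [⟨0,0,-4,0,0,0,0,0⟩,⟨-2,0,2,-2,0,0,0,-2⟩,⟨2,-2,0,2,0,0,-2,0⟩,⟨-2,2,0,2,0,0,2,0⟩],
  [⟨0,0,0,0,4,0,0,0⟩,⟨0,2,0,0,-2,2,-2,0⟩,⟨2,0,0,0,0,-2,2,-2⟩,⟨-2,0,0,0,0,-2,-2,2⟩],
  [⟨0,0,0,0,-4,0,0,0⟩,⟨0,-2,0,0,2,-2,2,0⟩,⟨-2,0,0,0,0,2,-2,2⟩,⟨2,0,0,0,0,2,2,-2⟩],
  [⟨0,2,0,2,0,-2,0,-2⟩,⟨0,0,2,0,-2,-2,0,2⟩,⟨0,-2,-2,0,0,0,2,2⟩,⟨-2,0,0,-2,2,2,0,0⟩],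
  [⟨0,-2,0,-2,0,2,0,2⟩,⟨0,0,-2,0,2,2,0,-2⟩,⟨0,2,2,0,0,0,-2,-2⟩,⟨2,0,0,2,-2,-2,0,0⟩],
  [⟨0,0,0,0,4,0,0,0⟩,⟨0,2,0,0,-2,2,-2,0⟩,⟨2,0,0,0,0,-2,2,-2⟩,⟨-2,0,0,0,0,-2,-2,2⟩],
  [⟨0,0,0,0,-4,0,0,0⟩,⟨0,-2,0,0,2,-2,2,0⟩,⟨-2,0,0,0,0,2,-2,2⟩,⟨2,0,0,0,0,2,2,-2⟩],
  [⟨0,0,4,0,0,0,0,0⟩,⟨2,0,-2,2,0,0,0,2⟩,⟨-2,2,0,-2,0,0,2,0⟩,⟨2,-2,0,-2,0,0,-2,0⟩],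
  [⟨0,0,-4,0,0,0,0,0⟩,⟨-2,0,2,-2,0,0,0,-2⟩,⟨2,-2,0,2,0,0,-2,0⟩,⟨-2,2,0,2,0,0,2,0⟩],
  [⟨2,-2,2,-2,2,-2,-2,2⟩,⟨-2,0,-4,2,-2,2,0,0⟩,⟨0,0,4,-2,2,0,2,-2⟩,⟨2,0,-2,2,0,0,-4,2⟩],
  [⟨-2,2,-2,2,-2,2,2,-2⟩,⟨2,0,4,-2,2,-2,0,0⟩,⟨0,0,-4,2,-2,0,-2,2⟩,⟨-2,0,2,-2,0,0,4,-2⟩],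
  [⟨2,0,2,0,-2,4,-2,0⟩,⟨2,2,-2,2,2,-2,2,-2⟩,⟨-2,2,2,-2,-2,-2,-2,2⟩,⟨2,-4,-2,0,-2,0,2,0⟩],
  [⟨2,0,-2,0,2,0,-2,4⟩,⟨-2,2,-2,-2,-2,2,2,-2⟩,⟨2,-2,2,-2,2,-2,-2,-2⟩,⟨-2,0,-2,4,-2,0,-2,0⟩],
  [⟨2,0,-2,4,-2,0,2,0⟩,⟨-2,2,2,-2,2,-2,2,2⟩,⟨2,-2,-2,-2,-2,2,-2,2⟩,⟨-2,0,-2,0,2,0,2,-4⟩],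
  [⟨2,-4,2,0,2,0,2,0⟩,⟨-2,2,-2,2,2,2,-2,2⟩,⟨2,2,2,-2,-2,2,2,-2⟩,⟨2,0,-2,0,2,-4,-2,0⟩],
  [⟨-2,4,-2,0,-2,0,-2,0⟩,⟨2,-2,2,-2,-2,-2,2,-2⟩,⟨-2,-2,-2,2,2,-2,-2,2⟩,⟨-2,0,2,0,-2,4,2,0⟩],
  [⟨-2,0,2,-4,2,0,-2,0⟩,⟨2,-2,-2,2,-2,2,-2,-2⟩,⟨-2,2,2,2,2,-2,2,-2⟩,⟨2,0,2,0,-2,0,-2,4⟩],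
  [⟨-2,0,2,0,-2,0,2,-4⟩,⟨2,-2,2,2,2,-2,-2,2⟩,⟨-2,2,-2,2,-2,2,2,2⟩,⟨2,0,2,-4,2,0,2,0⟩]]

/-- Part 3 of the table of stage 0. -/
def ker0_3 : List (List Ico) := [
  [⟨-2,0,-2,0,2,-4,2,0⟩,⟨-2,-2,2,-2,-2,2,-2,2⟩,⟨2,-2,-2,2,2,2,2,-2⟩,⟨-2,4,2,0,2,0,-2,0⟩],
  [⟨-2,0,-2,4,-2,0,-2,0⟩,⟨0,0,4,0,0,0,4,0⟩,⟨2,0,-2,0,2,0,-2,4⟩,⟨-2,2,-2,-2,-2,2,2,-2⟩],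
  [⟨-2,4,2,0,2,0,-2,0⟩,⟨4,0,0,0,-4,0,0,0⟩,⟨-2,0,-2,0,2,-4,2,0⟩,⟨-2,-2,2,-2,-2,2,-2,2⟩],
  [⟨2,0,2,0,-2,0,-2,4⟩,⟨0,0,-4,0,0,0,4,0⟩,⟨-2,0,2,-4,2,0,-2,0⟩,⟨2,-2,-2,2,-2,2,-2,-2⟩],
  [⟨-2,0,2,0,-2,4,2,0⟩,⟨4,0,0,0,4,0,0,0⟩,⟨-2,4,-2,0,-2,0,-2,0⟩,⟨2,-2,2,-2,-2,-2,2,-2⟩],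
  [⟨2,0,-2,0,2,-4,-2,0⟩,⟨-4,0,0,0,-4,0,0,0⟩,⟨2,-4,2,0,2,0,2,0⟩,⟨-2,2,-2,2,2,2,-2,2⟩],
  [⟨-2,0,-2,0,2,0,2,-4⟩,⟨0,0,4,0,0,0,-4,0⟩,⟨2,0,-2,4,-2,0,2,0⟩,⟨-2,2,2,-2,2,-2,2,2⟩],
  [⟨2,-4,-2,0,-2,0,2,0⟩,⟨-4,0,0,0,4,0,0,0⟩,⟨2,0,2,0,-2,4,-2,0⟩,⟨2,2,-2,2,2,-2,2,-2⟩],
  [⟨2,0,2,-4,2,0,2,0⟩,⟨0,0,-4,0,0,0,-4,0⟩,⟨-2,0,2,0,-2,0,2,-4⟩,⟨2,-2,2,2,2,-2,-2,2⟩],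
  [⟨-2,2,2,-2,-2,2,-2,2⟩,⟨4,-2,-2,0,0,0,2,-2⟩,⟨-4,2,0,0,2,-2,-2,0⟩,⟨2,-2,2,0,-4,2,0,0⟩],
  [⟨2,-2,-2,2,2,-2,2,-2⟩,⟨-4,2,2,0,0,0,-2,2⟩,⟨4,-2,0,0,-2,2,2,0⟩,⟨-2,2,-2,0,4,-2,0,0⟩],
  [⟨0,0,0,0,4,0,0,0⟩,⟨0,2,0,0,-2,2,-2,0⟩,⟨2,0,0,0,0,-2,2,-2⟩,⟨-2,0,0,0,0,-2,-2,2⟩],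
  [⟨0,0,0,0,-4,0,0,0⟩,⟨0,-2,0,0,2,-2,2,0⟩,⟨-2,0,0,0,0,2,-2,2⟩,⟨2,0,0,0,0,2,2,-2⟩],
  [⟨0,0,4,0,0,0,0,0⟩,⟨2,0,-2,2,0,0,0,2⟩,⟨-2,2,0,-2,0,0,2,0⟩,⟨2,-2,0,-2,0,0,-2,0⟩],
  [⟨0,0,-4,0,0,0,0,0⟩,⟨-2,0,2,-2,0,0,0,-2⟩,⟨2,-2,0,2,0,0,-2,0⟩,⟨-2,2,0,2,0,0,2,0⟩],
  [⟨0,2,0,2,0,2,0,2⟩,⟨2,2,0,-2,0,0,2,0⟩,⟨0,0,-2,-2,0,-2,-2,0⟩,⟨-2,-2,0,0,-2,0,0,-2⟩],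
  [⟨0,-2,0,-2,0,-2,0,-2⟩,⟨-2,-2,0,2,0,0,-2,0⟩,⟨0,0,2,2,0,2,2,0⟩,⟨2,2,0,0,2,0,0,2⟩],
  [⟨0,0,4,0,0,0,0,0⟩,⟨2,0,-2,2,0,0,0,2⟩,⟨-2,2,0,-2,0,0,2,0⟩,⟨2,-2,0,-2,0,0,-2,0⟩],
  [⟨0,0,-4,0,0,0,0,0⟩,⟨-2,0,2,-2,0,0,0,-2⟩,⟨2,-2,0,2,0,0,-2,0⟩,⟨-2,2,0,2,0,0,2,0⟩],
  [⟨0,0,0,0,4,0,0,0⟩,⟨0,2,0,0,-2,2,-2,0⟩,⟨2,0,0,0,0,-2,2,-2⟩,⟨-2,0,0,0,0,-2,-2,2⟩],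
  [⟨0,0,0,0,-4,0,0,0⟩,⟨0,-2,0,0,2,-2,2,0⟩,⟨-2,0,0,0,0,2,-2,2⟩,⟨2,0,0,0,0,2,2,-2⟩]]

/-- Part 4 of the table of stage 0. -/
def ker0_4 : List (List Ico) := [
  [⟨0,0,0,0,0,0,-4,0⟩,⟨0,0,0,2,-2,0,2,-2⟩,⟨0,0,2,0,2,-2,0,2⟩,⟨0,0,-2,0,-2,2,0,2⟩],
  [⟨0,0,0,0,0,0,4,0⟩,⟨0,0,0,-2,2,0,-2,2⟩,⟨0,0,-2,0,-2,2,0,-2⟩,⟨0,0,2,0,2,-2,0,-2⟩],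
  [⟨-2,0,2,0,2,0,-2,4⟩,⟨2,0,-2,0,-2,4,2,0⟩,⟨0,2,0,-2,4,-2,0,-2⟩,⟨0,0,0,0,-4,0,-4,0⟩],
  [⟨2,0,-2,4,2,0,-2,0⟩,⟨-2,4,2,0,-2,0,2,0⟩,⟨4,-2,0,-2,0,-2,0,2⟩,⟨-4,0,-4,0,0,0,0,0⟩],
  [⟨2,-4,2,0,-2,0,-2,0⟩,⟨-2,0,-2,4,2,0,2,0⟩,⟨0,2,4,-2,0,2,0,2⟩,⟨4,0,-4,0,0,0,0,0⟩],
  [⟨-2,0,-2,0,-2,4,-2,0⟩,⟨2,0,2,0,2,0,2,-4⟩,⟨0,2,0,2,0,-2,-4,2⟩,⟨0,0,0,0,-4,0,4,0⟩],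
  [⟨2,0,2,0,2,-4,2,0⟩,⟨-2,0,-2,0,-2,0,-2,4⟩,⟨0,-2,0,-2,0,2,4,-2⟩,⟨0,0,0,0,4,0,-4,0⟩],
  [⟨-2,4,-2,0,2,0,2,0⟩,⟨2,0,2,-4,-2,0,-2,0⟩,⟨0,-2,-4,2,0,-2,0,-2⟩,⟨-4,0,4,0,0,0,0,0⟩],
  [⟨-2,0,2,-4,-2,0,2,0⟩,⟨2,-4,-2,0,2,0,-2,0⟩,⟨-4,2,0,2,0,2,0,-2⟩,⟨4,0,4,0,0,0,0,0⟩],
  [⟨2,0,-2,0,-2,0,2,-4⟩,⟨-2,0,2,0,2,-4,-2,0⟩,⟨0,-2,0,2,-4,2,0,2⟩,⟨0,0,0,0,4,0,4,0⟩],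
  [⟨2,-2,-2,2,-2,2,-2,2⟩,⟨-2,2,0,0,2,0,4,-2⟩,⟨2,0,2,-2,0,0,-4,2⟩,⟨0,0,-4,2,-2,0,2,-2⟩],
  [⟨-2,2,2,-2,2,-2,2,-2⟩,⟨2,-2,0,0,-2,0,-4,2⟩,⟨-2,0,-2,2,0,0,4,-2⟩,⟨0,0,4,-2,2,0,-2,2⟩],
  [⟨-2,2,-2,2,2,-2,-2,2⟩,⟨0,0,2,-2,-4,2,2,0⟩,⟨2,-2,-2,0,4,-2,0,0⟩,⟨-4,2,0,0,-2,2,-2,0⟩],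
  [⟨2,-2,2,-2,-2,2,2,-2⟩,⟨0,0,-2,2,4,-2,-2,0⟩,⟨-2,2,2,0,-4,2,0,0⟩,⟨4,-2,0,0,2,-2,2,0⟩],
  [⟨-2,0,2,0,2,-4,-2,0⟩,⟨0,-2,0,2,-4,2,0,2⟩,⟨0,0,0,0,4,0,4,0⟩,⟨0,2,0,-2,0,2,-4,2⟩],
  [⟨-2,0,-2,4,2,0,2,0⟩,⟨0,2,4,-2,0,2,0,2⟩,⟨4,0,-4,0,0,0,0,0⟩,⟨-4,2,0,-2,0,-2,0,-2⟩],
  [⟨-2,0,-2,0,-2,0,-2,4⟩,⟨0,-2,0,-2,0,2,4,-2⟩,⟨0,0,0,0,4,0,-4,0⟩,⟨0,2,0,2,-4,2,0,-2⟩],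
  [⟨2,-4,-2,0,2,0,-2,0⟩,⟨-4,2,0,2,0,2,0,-2⟩,⟨4,0,4,0,0,0,0,0⟩,⟨0,2,-4,2,0,-2,0,2⟩],
  [⟨-2,4,2,0,-2,0,2,0⟩,⟨4,-2,0,-2,0,-2,0,2⟩,⟨-4,0,-4,0,0,0,0,0⟩,⟨0,-2,4,-2,0,2,0,-2⟩],
  [⟨2,0,2,0,2,0,2,-4⟩,⟨0,2,0,2,0,-2,-4,2⟩,⟨0,0,0,0,-4,0,4,0⟩,⟨0,-2,0,-2,4,-2,0,2⟩],
  [⟨2,0,2,-4,-2,0,-2,0⟩,⟨0,-2,-4,2,0,-2,0,-2⟩,⟨-4,0,4,0,0,0,0,0⟩,⟨4,-2,0,2,0,2,0,2⟩]]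

/-- Part 5 of the table of stage 0. -/
def ker0_5 : List (List Ico) := [
  [⟨2,0,-2,0,-2,4,2,0⟩,⟨0,2,0,-2,4,-2,0,-2⟩,⟨0,0,0,0,-4,0,-4,0⟩,⟨0,-2,0,2,0,-2,4,-2⟩],
  [⟨0,0,0,0,0,0,-4,0⟩,⟨0,0,0,2,-2,0,2,-2⟩,⟨0,0,2,0,2,-2,0,2⟩,⟨0,0,-2,0,-2,2,0,2⟩],
  [⟨0,0,0,0,0,0,4,0⟩,⟨0,0,0,-2,2,0,-2,2⟩,⟨0,0,-2,0,-2,2,0,-2⟩,⟨0,0,2,0,2,-2,0,-2⟩],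
  [⟨0,-2,0,2,0,2,0,-2⟩,⟨0,2,2,2,2,0,0,0⟩,⟨2,2,0,0,-2,0,0,2⟩,⟨0,0,-2,-2,0,-2,2,0⟩],
  [⟨0,2,0,-2,0,-2,0,2⟩,⟨0,-2,-2,-2,-2,0,0,0⟩,⟨-2,-2,0,0,2,0,0,-2⟩,⟨0,0,2,2,0,2,-2,0⟩],
  [⟨0,0,0,0,0,0,-4,0⟩,⟨0,0,0,2,-2,0,2,-2⟩,⟨0,0,2,0,2,-2,0,2⟩,⟨0,0,-2,0,-2,2,0,2⟩],
  [⟨0,0,0,0,0,0,4,0⟩,⟨0,0,0,-2,2,0,-2,2⟩,⟨0,0,-2,0,-2,2,0,-2⟩,⟨0,0,2,0,2,-2,0,-2⟩],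
  [⟨0,-2,0,2,0,-2,0,2⟩,⟨-2,0,0,0,0,2,2,2⟩,⟨2,0,0,-2,2,2,0,0⟩,⟨0,2,-2,0,0,0,-2,-2⟩],
  [⟨0,2,0,-2,0,2,0,-2⟩,⟨2,0,0,0,0,-2,-2,-2⟩,⟨-2,0,0,2,-2,-2,0,0⟩,⟨0,-2,2,0,0,0,2,2⟩],
  [⟨-4,0,0,0,0,0,0,0⟩,⟨2,-2,2,0,0,2,0,0⟩,⟨0,2,-2,2,2,0,0,0⟩,⟨0,2,2,-2,-2,0,0,0⟩],
  [⟨4,0,0,0,0,0,0,0⟩,⟨-2,2,-2,0,0,-2,0,0⟩,⟨0,-2,2,-2,-2,0,0,0⟩,⟨0,-2,-2,2,2,0,0,0⟩],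
  [⟨-4,0,0,0,0,0,0,0⟩,⟨2,-2,2,0,0,2,0,0⟩,⟨0,2,-2,2,2,0,0,0⟩,⟨0,2,2,-2,-2,0,0,0⟩],
  [⟨4,0,0,0,0,0,0,0⟩,⟨-2,2,-2,0,0,-2,0,0⟩,⟨0,-2,2,-2,-2,0,0,0⟩,⟨0,-2,-2,2,2,0,0,0⟩],
  [⟨-4,0,0,0,0,0,0,0⟩,⟨2,-2,2,0,0,2,0,0⟩,⟨0,2,-2,2,2,0,0,0⟩,⟨0,2,2,-2,-2,0,0,0⟩],
  [⟨4,0,0,0,0,0,0,0⟩,⟨-2,2,-2,0,0,-2,0,0⟩,⟨0,-2,2,-2,-2,0,0,0⟩,⟨0,-2,-2,2,2,0,0,0⟩],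
  [⟨-4,0,0,0,0,0,0,0⟩,⟨2,-2,2,0,0,2,0,0⟩,⟨0,2,-2,2,2,0,0,0⟩,⟨0,2,2,-2,-2,0,0,0⟩],
  [⟨4,0,0,0,0,0,0,0⟩,⟨-2,2,-2,0,0,-2,0,0⟩,⟨0,-2,2,-2,-2,0,0,0⟩,⟨0,-2,-2,2,2,0,0,0⟩],
  [⟨-4,0,0,0,0,0,0,0⟩,⟨2,-2,2,0,0,2,0,0⟩,⟨0,2,-2,2,2,0,0,0⟩,⟨0,2,2,-2,-2,0,0,0⟩],
  [⟨4,0,0,0,0,0,0,0⟩,⟨-2,2,-2,0,0,-2,0,0⟩,⟨0,-2,2,-2,-2,0,0,0⟩,⟨0,-2,-2,2,2,0,0,0⟩],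
  [⟨-4,0,0,0,0,0,0,0⟩,⟨2,-2,2,0,0,2,0,0⟩,⟨0,2,-2,2,2,0,0,0⟩,⟨0,2,2,-2,-2,0,0,0⟩],
  [⟨4,0,0,0,0,0,0,0⟩,⟨-2,2,-2,0,0,-2,0,0⟩,⟨0,-2,2,-2,-2,0,0,0⟩,⟨0,-2,-2,2,2,0,0,0⟩]]

/-- Part 6 of the table of stage 0. -/
def ker0_6 : List (List Ico) := [
  [⟨-4,0,0,0,0,0,0,0⟩,⟨2,-2,2,0,0,2,0,0⟩,⟨0,2,-2,2,2,0,0,0⟩,⟨0,2,2,-2,-2,0,0,0⟩],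
  [⟨4,0,0,0,0,0,0,0⟩,⟨-2,2,-2,0,0,-2,0,0⟩,⟨0,-2,2,-2,-2,0,0,0⟩,⟨0,-2,-2,2,2,0,0,0⟩],
  [⟨-4,0,0,0,0,0,0,0⟩,⟨2,-2,2,0,0,2,0,0⟩,⟨0,2,-2,2,2,0,0,0⟩,⟨0,2,2,-2,-2,0,0,0⟩],
  [⟨4,0,0,0,0,0,0,0⟩,⟨-2,2,-2,0,0,-2,0,0⟩,⟨0,-2,2,-2,-2,0,0,0⟩,⟨0,-2,-2,2,2,0,0,0⟩],
  [⟨0,-2,0,2,0,-2,0,2⟩,⟨-2,0,0,0,0,2,2,2⟩,⟨2,0,0,-2,2,2,0,0⟩,⟨0,2,-2,0,0,0,-2,-2⟩],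
  [⟨0,2,0,-2,0,2,0,-2⟩,⟨2,0,0,0,0,-2,-2,-2⟩,⟨-2,0,0,2,-2,-2,0,0⟩,⟨0,-2,2,0,0,0,2,2⟩],
  [⟨0,0,0,0,0,0,-4,0⟩,⟨0,0,0,2,-2,0,2,-2⟩,⟨0,0,2,0,2,-2,0,2⟩,⟨0,0,-2,0,-2,2,0,2⟩],
  [⟨0,0,0,0,0,0,4,0⟩,⟨0,0,0,-2,2,0,-2,2⟩,⟨0,0,-2,0,-2,2,0,-2⟩,⟨0,0,2,0,2,-2,0,-2⟩],
  [⟨0,-2,0,2,0,2,0,-2⟩,⟨0,2,2,2,2,0,0,0⟩,⟨2,2,0,0,-2,0,0,2⟩,⟨0,0,-2,-2,0,-2,2,0⟩],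
  [⟨0,2,0,-2,0,-2,0,2⟩,⟨0,-2,-2,-2,-2,0,0,0⟩,⟨-2,-2,0,0,2,0,0,-2⟩,⟨0,0,2,2,0,2,-2,0⟩],
  [⟨0,0,0,0,0,0,-4,0⟩,⟨0,0,0,2,-2,0,2,-2⟩,⟨0,0,2,0,2,-2,0,2⟩,⟨0,0,-2,0,-2,2,0,2⟩],
  [⟨0,0,0,0,0,0,4,0⟩,⟨0,0,0,-2,2,0,-2,2⟩,⟨0,0,-2,0,-2,2,0,-2⟩,⟨0,0,2,0,2,-2,0,-2⟩],
  [⟨-2,0,2,0,2,-4,-2,0⟩,⟨0,-2,0,2,-4,2,0,2⟩,⟨0,0,0,0,4,0,4,0⟩,⟨0,2,0,-2,0,2,-4,2⟩],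
  [⟨-2,0,-2,4,2,0,2,0⟩,⟨0,2,4,-2,0,2,0,2⟩,⟨4,0,-4,0,0,0,0,0⟩,⟨-4,2,0,-2,0,-2,0,-2⟩],
  [⟨-2,0,-2,0,-2,0,-2,4⟩,⟨0,-2,0,-2,0,2,4,-2⟩,⟨0,0,0,0,4,0,-4,0⟩,⟨0,2,0,2,-4,2,0,-2⟩],
  [⟨2,-4,-2,0,2,0,-2,0⟩,⟨-4,2,0,2,0,2,0,-2⟩,⟨4,0,4,0,0,0,0,0⟩,⟨0,2,-4,2,0,-2,0,2⟩],
  [⟨-2,4,2,0,-2,0,2,0⟩,⟨4,-2,0,-2,0,-2,0,2⟩,⟨-4,0,-4,0,0,0,0,0⟩,⟨0,-2,4,-2,0,2,0,-2⟩],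
  [⟨2,0,2,0,2,0,2,-4⟩,⟨0,2,0,2,0,-2,-4,2⟩,⟨0,0,0,0,-4,0,4,0⟩,⟨0,-2,0,-2,4,-2,0,2⟩],
  [⟨2,0,2,-4,-2,0,-2,0⟩,⟨0,-2,-4,2,0,-2,0,-2⟩,⟨-4,0,4,0,0,0,0,0⟩,⟨4,-2,0,2,0,2,0,2⟩],
  [⟨2,0,-2,0,-2,4,2,0⟩,⟨0,2,0,-2,4,-2,0,-2⟩,⟨0,0,0,0,-4,0,-4,0⟩,⟨0,-2,0,2,0,-2,4,-2⟩],
  [⟨-2,2,-2,2,2,-2,-2,2⟩,⟨0,0,2,-2,-4,2,2,0⟩,⟨2,-2,-2,0,4,-2,0,0⟩,⟨-4,2,0,0,-2,2,-2,0⟩]]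

/-- Part 7 of the table of stage 0. -/
def ker0_7 : List (List Ico) := [
  [⟨2,-2,2,-2,-2,2,2,-2⟩,⟨0,0,-2,2,4,-2,-2,0⟩,⟨-2,2,2,0,-4,2,0,0⟩,⟨4,-2,0,0,2,-2,2,0⟩],
  [⟨2,-2,-2,2,-2,2,-2,2⟩,⟨-2,2,0,0,2,0,4,-2⟩,⟨2,0,2,-2,0,0,-4,2⟩,⟨0,0,-4,2,-2,0,2,-2⟩],
  [⟨-2,2,2,-2,2,-2,2,-2⟩,⟨2,-2,0,0,-2,0,-4,2⟩,⟨-2,0,-2,2,0,0,4,-2⟩,⟨0,0,4,-2,2,0,-2,2⟩],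
  [⟨-2,0,2,0,2,0,-2,4⟩,⟨2,0,-2,0,-2,4,2,0⟩,⟨0,2,0,-2,4,-2,0,-2⟩,⟨0,0,0,0,-4,0,-4,0⟩],
  [⟨2,0,-2,4,2,0,-2,0⟩,⟨-2,4,2,0,-2,0,2,0⟩,⟨4,-2,0,-2,0,-2,0,2⟩,⟨-4,0,-4,0,0,0,0,0⟩],
  [⟨2,-4,2,0,-2,0,-2,0⟩,⟨-2,0,-2,4,2,0,2,0⟩,⟨0,2,4,-2,0,2,0,2⟩,⟨4,0,-4,0,0,0,0,0⟩],
  [⟨-2,0,-2,0,-2,4,-2,0⟩,⟨2,0,2,0,2,0,2,-4⟩,⟨0,2,0,2,0,-2,-4,2⟩,⟨0,0,0,0,-4,0,4,0⟩],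
  [⟨2,0,2,0,2,-4,2,0⟩,⟨-2,0,-2,0,-2,0,-2,4⟩,⟨0,-2,0,-2,0,2,4,-2⟩,⟨0,0,0,0,4,0,-4,0⟩],
  [⟨-2,4,-2,0,2,0,2,0⟩,⟨2,0,2,-4,-2,0,-2,0⟩,⟨0,-2,-4,2,0,-2,0,-2⟩,⟨-4,0,4,0,0,0,0,0⟩],
  [⟨-2,0,2,-4,-2,0,2,0⟩,⟨2,-4,-2,0,2,0,-2,0⟩,⟨-4,2,0,2,0,2,0,-2⟩,⟨4,0,4,0,0,0,0,0⟩],
  [⟨2,0,-2,0,-2,0,2,-4⟩,⟨-2,0,2,0,2,-4,-2,0⟩,⟨0,-2,0,2,-4,2,0,2⟩,⟨0,0,0,0,4,0,4,0⟩],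
  [⟨0,0,0,0,0,0,-4,0⟩,⟨0,0,0,2,-2,0,2,-2⟩,⟨0,0,2,0,2,-2,0,2⟩,⟨0,0,-2,0,-2,2,0,2⟩],
  [⟨0,0,0,0,0,0,4,0⟩,⟨0,0,0,-2,2,0,-2,2⟩,⟨0,0,-2,0,-2,2,0,-2⟩,⟨0,0,2,0,2,-2,0,-2⟩],
  [⟨0,0,0,0,4,0,0,0⟩,⟨0,2,0,0,-2,2,-2,0⟩,⟨2,0,0,0,0,-2,2,-2⟩,⟨-2,0,0,0,0,-2,-2,2⟩],
  [⟨0,0,0,0,-4,0,0,0⟩,⟨0,-2,0,0,2,-2,2,0⟩,⟨-2,0,0,0,0,2,-2,2⟩,⟨2,0,0,0,0,2,2,-2⟩],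
  [⟨0,0,4,0,0,0,0,0⟩,⟨2,0,-2,2,0,0,0,2⟩,⟨-2,2,0,-2,0,0,2,0⟩,⟨2,-2,0,-2,0,0,-2,0⟩],
  [⟨0,0,-4,0,0,0,0,0⟩,⟨-2,0,2,-2,0,0,0,-2⟩,⟨2,-2,0,2,0,0,-2,0⟩,⟨-2,2,0,2,0,0,2,0⟩],
  [⟨0,2,0,2,0,2,0,2⟩,⟨2,2,0,-2,0,0,2,0⟩,⟨0,0,-2,-2,0,-2,-2,0⟩,⟨-2,-2,0,0,-2,0,0,-2⟩],
  [⟨0,-2,0,-2,0,-2,0,-2⟩,⟨-2,-2,0,2,0,0,-2,0⟩,⟨0,0,2,2,0,2,2,0⟩,⟨2,2,0,0,2,0,0,2⟩],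
  [⟨0,0,4,0,0,0,0,0⟩,⟨2,0,-2,2,0,0,0,2⟩,⟨-2,2,0,-2,0,0,2,0⟩,⟨2,-2,0,-2,0,0,-2,0⟩],
  [⟨0,0,-4,0,0,0,0,0⟩,⟨-2,0,2,-2,0,0,0,-2⟩,⟨2,-2,0,2,0,0,-2,0⟩,⟨-2,2,0,2,0,0,2,0⟩]]

/-- Part 8 of the table of stage 0. -/
def ker0_8 : List (List Ico) := [
  [⟨0,0,0,0,4,0,0,0⟩,⟨0,2,0,0,-2,2,-2,0⟩,⟨2,0,0,0,0,-2,2,-2⟩,⟨-2,0,0,0,0,-2,-2,2⟩],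
  [⟨0,0,0,0,-4,0,0,0⟩,⟨0,-2,0,0,2,-2,2,0⟩,⟨-2,0,0,0,0,2,-2,2⟩,⟨2,0,0,0,0,2,2,-2⟩],
  [⟨-2,2,2,-2,-2,2,-2,2⟩,⟨4,-2,-2,0,0,0,2,-2⟩,⟨-4,2,0,0,2,-2,-2,0⟩,⟨2,-2,2,0,-4,2,0,0⟩],
  [⟨2,-2,-2,2,2,-2,2,-2⟩,⟨-4,2,2,0,0,0,-2,2⟩,⟨4,-2,0,0,-2,2,2,0⟩,⟨-2,2,-2,0,4,-2,0,0⟩],
  [⟨-2,0,-2,4,-2,0,-2,0⟩,⟨0,0,4,0,0,0,4,0⟩,⟨2,0,-2,0,2,0,-2,4⟩,⟨-2,2,-2,-2,-2,2,2,-2⟩],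
  [⟨-2,4,2,0,2,0,-2,0⟩,⟨4,0,0,0,-4,0,0,0⟩,⟨-2,0,-2,0,2,-4,2,0⟩,⟨-2,-2,2,-2,-2,2,-2,2⟩],
  [⟨2,0,2,0,-2,0,-2,4⟩,⟨0,0,-4,0,0,0,4,0⟩,⟨-2,0,2,-4,2,0,-2,0⟩,⟨2,-2,-2,2,-2,2,-2,-2⟩],
  [⟨-2,0,2,0,-2,4,2,0⟩,⟨4,0,0,0,4,0,0,0⟩,⟨-2,4,-2,0,-2,0,-2,0⟩,⟨2,-2,2,-2,-2,-2,2,-2⟩],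
  [⟨2,0,-2,0,2,-4,-2,0⟩,⟨-4,0,0,0,-4,0,0,0⟩,⟨2,-4,2,0,2,0,2,0⟩,⟨-2,2,-2,2,2,2,-2,2⟩],
  [⟨-2,0,-2,0,2,0,2,-4⟩,⟨0,0,4,0,0,0,-4,0⟩,⟨2,0,-2,4,-2,0,2,0⟩,⟨-2,2,2,-2,2,-2,2,2⟩],
  [⟨2,-4,-2,0,-2,0,2,0⟩,⟨-4,0,0,0,4,0,0,0⟩,⟨2,0,2,0,-2,4,-2,0⟩,⟨2,2,-2,2,2,-2,2,-2⟩],
  [⟨2,0,2,-4,2,0,2,0⟩,⟨0,0,-4,0,0,0,-4,0⟩,⟨-2,0,2,0,-2,0,2,-4⟩,⟨2,-2,2,2,2,-2,-2,2⟩],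
  [⟨2,0,2,0,-2,4,-2,0⟩,⟨2,2,-2,2,2,-2,2,-2⟩,⟨-2,2,2,-2,-2,-2,-2,2⟩,⟨2,-4,-2,0,-2,0,2,0⟩],
  [⟨2,0,-2,0,2,0,-2,4⟩,⟨-2,2,-2,-2,-2,2,2,-2⟩,⟨2,-2,2,-2,2,-2,-2,-2⟩,⟨-2,0,-2,4,-2,0,-2,0⟩],
  [⟨2,0,-2,4,-2,0,2,0⟩,⟨-2,2,2,-2,2,-2,2,2⟩,⟨2,-2,-2,-2,-2,2,-2,2⟩,⟨-2,0,-2,0,2,0,2,-4⟩],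
  [⟨2,-4,2,0,2,0,2,0⟩,⟨-2,2,-2,2,2,2,-2,2⟩,⟨2,2,2,-2,-2,2,2,-2⟩,⟨2,0,-2,0,2,-4,-2,0⟩],
  [⟨-2,4,-2,0,-2,0,-2,0⟩,⟨2,-2,2,-2,-2,-2,2,-2⟩,⟨-2,-2,-2,2,2,-2,-2,2⟩,⟨-2,0,2,0,-2,4,2,0⟩],
  [⟨-2,0,2,-4,2,0,-2,0⟩,⟨2,-2,-2,2,-2,2,-2,-2⟩,⟨-2,2,2,2,2,-2,2,-2⟩,⟨2,0,2,0,-2,0,-2,4⟩],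
  [⟨-2,0,2,0,-2,0,2,-4⟩,⟨2,-2,2,2,2,-2,-2,2⟩,⟨-2,2,-2,2,-2,2,2,2⟩,⟨2,0,2,-4,2,0,2,0⟩],
  [⟨-2,0,-2,0,2,-4,2,0⟩,⟨-2,-2,2,-2,-2,2,-2,2⟩,⟨2,-2,-2,2,2,2,2,-2⟩,⟨-2,4,2,0,2,0,-2,0⟩],
  [⟨2,-2,2,-2,2,-2,-2,2⟩,⟨-2,0,-4,2,-2,2,0,0⟩,⟨0,0,4,-2,2,0,2,-2⟩,⟨2,0,-2,2,0,0,-4,2⟩]]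

/-- Part 9 of the table of stage 0. -/
def ker0_9 : List (List Ico) := [
  [⟨-2,2,-2,2,-2,2,2,-2⟩,⟨2,0,4,-2,2,-2,0,0⟩,⟨0,0,-4,2,-2,0,-2,2⟩,⟨-2,0,2,-2,0,0,4,-2⟩],
  [⟨0,0,4,0,0,0,0,0⟩,⟨2,0,-2,2,0,0,0,2⟩,⟨-2,2,0,-2,0,0,2,0⟩,⟨2,-2,0,-2,0,0,-2,0⟩],
  [⟨0,0,-4,0,0,0,0,0⟩,⟨-2,0,2,-2,0,0,0,-2⟩,⟨2,-2,0,2,0,0,-2,0⟩,⟨-2,2,0,2,0,0,2,0⟩],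
  [⟨0,0,0,0,4,0,0,0⟩,⟨0,2,0,0,-2,2,-2,0⟩,⟨2,0,0,0,0,-2,2,-2⟩,⟨-2,0,0,0,0,-2,-2,2⟩],
  [⟨0,0,0,0,-4,0,0,0⟩,⟨0,-2,0,0,2,-2,2,0⟩,⟨-2,0,0,0,0,2,-2,2⟩,⟨2,0,0,0,0,2,2,-2⟩],
  [⟨0,2,0,2,0,-2,0,-2⟩,⟨0,0,2,0,-2,-2,0,2⟩,⟨0,-2,-2,0,0,0,2,2⟩,⟨-2,0,0,-2,2,2,0,0⟩],
  [⟨0,-2,0,-2,0,2,0,2⟩,⟨0,0,-2,0,2,2,0,-2⟩,⟨0,2,2,0,0,0,-2,-2⟩,⟨2,0,0,2,-2,-2,0,0⟩],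
  [⟨0,0,0,0,4,0,0,0⟩,⟨0,2,0,0,-2,2,-2,0⟩,⟨2,0,0,0,0,-2,2,-2⟩,⟨-2,0,0,0,0,-2,-2,2⟩],
  [⟨0,0,0,0,-4,0,0,0⟩,⟨0,-2,0,0,2,-2,2,0⟩,⟨-2,0,0,0,0,2,-2,2⟩,⟨2,0,0,0,0,2,2,-2⟩],
  [⟨0,0,4,0,0,0,0,0⟩,⟨2,0,-2,2,0,0,0,2⟩,⟨-2,2,0,-2,0,0,2,0⟩,⟨2,-2,0,-2,0,0,-2,0⟩],
  [⟨0,0,-4,0,0,0,0,0⟩,⟨-2,0,2,-2,0,0,0,-2⟩,⟨2,-2,0,2,0,0,-2,0⟩,⟨-2,2,0,2,0,0,2,0⟩],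
  [⟨0,0,0,0,0,0,-4,0⟩,⟨0,0,0,2,-2,0,2,-2⟩,⟨0,0,2,0,2,-2,0,2⟩,⟨0,0,-2,0,-2,2,0,2⟩],
  [⟨0,0,0,0,0,0,4,0⟩,⟨0,0,0,-2,2,0,-2,2⟩,⟨0,0,-2,0,-2,2,0,-2⟩,⟨0,0,2,0,2,-2,0,-2⟩],
  [⟨0,-2,-2,2,2,0,0,0⟩,⟨-2,2,2,0,0,2,0,0⟩,⟨4,0,0,0,0,0,0,0⟩,⟨-2,2,-2,0,0,-2,0,0⟩],
  [⟨0,2,2,-2,-2,0,0,0⟩,⟨2,-2,-2,0,0,-2,0,0⟩,⟨-4,0,0,0,0,0,0,0⟩,⟨2,-2,2,0,0,2,0,0⟩],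
  [⟨-2,2,0,2,0,0,-2,0⟩,⟨2,0,2,0,-2,0,2,0⟩,⟨0,0,-2,0,2,-2,0,2⟩,⟨-2,0,0,-2,-2,2,0,0⟩],
  [⟨2,-2,0,-2,0,0,2,0⟩,⟨-2,0,-2,0,2,0,-2,0⟩,⟨0,0,2,0,-2,2,0,-2⟩,⟨2,0,0,2,2,-2,0,0⟩],
  [⟨2,0,0,0,0,2,-2,2⟩,⟨0,2,-2,0,0,0,2,-2⟩,⟨0,0,2,-2,0,-2,-2,0⟩,⟨0,-2,-2,2,-2,0,0,0⟩],
  [⟨-2,0,0,0,0,-2,2,-2⟩,⟨0,-2,2,0,0,0,-2,2⟩,⟨0,0,-2,2,0,2,2,0⟩,⟨0,2,2,-2,2,0,0,0⟩],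
  [⟨0,0,2,0,2,-2,0,2⟩,⟨0,0,-2,0,-2,2,0,2⟩,⟨0,0,0,-2,2,0,2,-2⟩,⟨0,0,0,0,0,0,-4,0⟩],
  [⟨0,0,-2,0,-2,2,0,-2⟩,⟨0,0,2,0,2,-2,0,-2⟩,⟨0,0,0,2,-2,0,-2,2⟩,⟨0,0,0,0,0,0,4,0⟩]]

/-- Part 10 of the table of stage 0. -/
def ker0_10 : List (List Ico) := [
  [⟨0,0,2,0,2,-2,0,2⟩,⟨0,0,-2,0,-2,2,0,2⟩,⟨0,0,0,-2,2,0,2,-2⟩,⟨0,0,0,0,0,0,-4,0⟩],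
  [⟨0,0,-2,0,-2,2,0,-2⟩,⟨0,0,2,0,2,-2,0,-2⟩,⟨0,0,0,2,-2,0,-2,2⟩,⟨0,0,0,0,0,0,4,0⟩],
  [⟨2,0,0,0,0,2,-2,2⟩,⟨0,2,-2,0,0,0,2,-2⟩,⟨0,0,2,-2,0,-2,-2,0⟩,⟨0,-2,-2,2,-2,0,0,0⟩],
  [⟨-2,0,0,0,0,-2,2,-2⟩,⟨0,-2,2,0,0,0,-2,2⟩,⟨0,0,-2,2,0,2,2,0⟩,⟨0,2,2,-2,2,0,0,0⟩],
  [⟨-2,2,0,2,0,0,-2,0⟩,⟨2,0,2,0,-2,0,2,0⟩,⟨0,0,-2,0,2,-2,0,2⟩,⟨-2,0,0,-2,-2,2,0,0⟩],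
  [⟨2,-2,0,-2,0,0,2,0⟩,⟨-2,0,-2,0,2,0,-2,0⟩,⟨0,0,2,0,-2,2,0,-2⟩,⟨2,0,0,2,2,-2,0,0⟩],
  [⟨0,-2,-2,2,2,0,0,0⟩,⟨-2,2,2,0,0,2,0,0⟩,⟨4,0,0,0,0,0,0,0⟩,⟨-2,2,-2,0,0,-2,0,0⟩],
  [⟨0,2,2,-2,-2,0,0,0⟩,⟨2,-2,-2,0,0,-2,0,0⟩,⟨-4,0,0,0,0,0,0,0⟩,⟨2,-2,2,0,0,2,0,0⟩],
  [⟨-2,0,2,-2,0,0,-4,2⟩,⟨2,-2,-2,2,-2,2,2,-2⟩,⟨-2,2,2,0,4,-2,0,0⟩,⟨2,0,0,0,-4,2,-2,2⟩],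
  [⟨2,0,-2,2,0,0,4,-2⟩,⟨-2,2,2,-2,2,-2,-2,2⟩,⟨2,-2,-2,0,-4,2,0,0⟩,⟨-2,0,0,0,4,-2,2,-2⟩],
  [⟨0,0,0,2,2,0,-2,2⟩,⟨0,2,0,0,-2,2,2,0⟩,⟨2,0,0,-2,2,-2,0,0⟩,⟨-2,0,-2,0,-2,0,-2,0⟩],
  [⟨0,0,0,-2,-2,0,2,-2⟩,⟨0,-2,0,0,2,-2,-2,0⟩,⟨-2,0,0,2,-2,2,0,0⟩,⟨2,0,2,0,2,0,2,0⟩],
  [⟨0,0,-4,2,-2,0,-2,2⟩,⟨-2,0,2,-2,0,0,4,-2⟩,⟨2,-2,0,0,2,0,-4,2⟩,⟨-2,2,-2,2,-2,2,2,-2⟩],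
  [⟨0,0,4,-2,2,0,2,-2⟩,⟨2,0,-2,2,0,0,-4,2⟩,⟨-2,2,0,0,-2,0,4,-2⟩,⟨2,-2,2,-2,2,-2,-2,2⟩],
  [⟨-2,0,-2,2,0,0,0,-2⟩,⟨0,0,4,0,0,0,0,0⟩,⟨2,0,-2,2,0,0,0,2⟩,⟨-2,2,0,-2,0,0,2,0⟩],
  [⟨2,0,2,-2,0,0,0,2⟩,⟨0,0,-4,0,0,0,0,0⟩,⟨-2,0,2,-2,0,0,0,-2⟩,⟨2,-2,0,2,0,0,-2,0⟩],
  [⟨-4,2,0,0,-2,2,2,0⟩,⟨4,-2,2,-2,2,0,0,0⟩,⟨-2,2,-4,2,0,0,-2,0⟩,⟨0,0,4,-2,-2,0,2,-2⟩],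
  [⟨4,-2,0,0,2,-2,-2,0⟩,⟨-4,2,-2,2,-2,0,0,0⟩,⟨2,-2,4,-2,0,0,2,0⟩,⟨0,0,-4,2,2,0,-2,2⟩],
  [⟨0,2,0,0,-2,2,-2,0⟩,⟨2,0,0,0,0,-2,2,-2⟩,⟨-2,0,0,0,0,-2,-2,2⟩,⟨0,-2,0,0,-2,2,2,0⟩],
  [⟨0,-2,0,0,2,-2,2,0⟩,⟨-2,0,0,0,0,2,-2,2⟩,⟨2,0,0,0,0,2,2,-2⟩,⟨0,2,0,0,2,-2,-2,0⟩],
  [⟨-2,2,2,0,0,-2,0,0⟩,⟨2,-2,0,0,-2,0,0,2⟩,⟨-2,0,-2,0,2,0,2,0⟩,⟨0,0,2,-2,0,2,-2,0⟩]]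

/-- Part 11 of the table of stage 0. -/
def ker0_11 : List (List Ico) := [
  [⟨2,-2,-2,0,0,2,0,0⟩,⟨-2,2,0,0,2,0,0,-2⟩,⟨2,0,2,0,-2,0,-2,0⟩,⟨0,0,-2,2,0,-2,2,0⟩],
  [⟨-2,2,-2,0,4,-2,0,0⟩,⟨0,0,2,-2,-4,2,-2,0⟩,⟨2,-2,-2,2,2,-2,2,-2⟩,⟨-4,2,2,0,0,0,-2,2⟩],
  [⟨2,-2,2,0,-4,2,0,0⟩,⟨0,0,-2,2,4,-2,2,0⟩,⟨-2,2,2,-2,-2,2,-2,2⟩,⟨4,-2,-2,0,0,0,2,-2⟩],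
  [⟨-2,2,-2,0,4,-2,0,0⟩,⟨0,0,2,-2,-4,2,-2,0⟩,⟨2,-2,-2,2,2,-2,2,-2⟩,⟨-4,2,2,0,0,0,-2,2⟩],
  [⟨2,-2,2,0,-4,2,0,0⟩,⟨0,0,-2,2,4,-2,2,0⟩,⟨-2,2,2,-2,-2,2,-2,2⟩,⟨4,-2,-2,0,0,0,2,-2⟩],
  [⟨-2,2,2,0,0,-2,0,0⟩,⟨2,-2,0,0,-2,0,0,2⟩,⟨-2,0,-2,0,2,0,2,0⟩,⟨0,0,2,-2,0,2,-2,0⟩],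
  [⟨2,-2,-2,0,0,2,0,0⟩,⟨-2,2,0,0,2,0,0,-2⟩,⟨2,0,2,0,-2,0,-2,0⟩,⟨0,0,-2,2,0,-2,2,0⟩],
  [⟨0,2,0,0,-2,2,-2,0⟩,⟨2,0,0,0,0,-2,2,-2⟩,⟨-2,0,0,0,0,-2,-2,2⟩,⟨0,-2,0,0,-2,2,2,0⟩],
  [⟨0,-2,0,0,2,-2,2,0⟩,⟨-2,0,0,0,0,2,-2,2⟩,⟨2,0,0,0,0,2,2,-2⟩,⟨0,2,0,0,2,-2,-2,0⟩],
  [⟨-4,2,0,0,-2,2,2,0⟩,⟨4,-2,2,-2,2,0,0,0⟩,⟨-2,2,-4,2,0,0,-2,0⟩,⟨0,0,4,-2,-2,0,2,-2⟩],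
  [⟨4,-2,0,0,2,-2,-2,0⟩,⟨-4,2,-2,2,-2,0,0,0⟩,⟨2,-2,4,-2,0,0,2,0⟩,⟨0,0,-4,2,2,0,-2,2⟩],
  [⟨-2,0,-2,2,0,0,0,-2⟩,⟨0,0,4,0,0,0,0,0⟩,⟨2,0,-2,2,0,0,0,2⟩,⟨-2,2,0,-2,0,0,2,0⟩],
  [⟨2,0,2,-2,0,0,0,2⟩,⟨0,0,-4,0,0,0,0,0⟩,⟨-2,0,2,-2,0,0,0,-2⟩,⟨2,-2,0,2,0,0,-2,0⟩],
  [⟨0,0,-4,2,-2,0,-2,2⟩,⟨-2,0,2,-2,0,0,4,-2⟩,⟨2,-2,0,0,2,0,-4,2⟩,⟨-2,2,-2,2,-2,2,2,-2⟩],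
  [⟨0,0,4,-2,2,0,2,-2⟩,⟨2,0,-2,2,0,0,-4,2⟩,⟨-2,2,0,0,-2,0,4,-2⟩,⟨2,-2,2,-2,2,-2,-2,2⟩],
  [⟨0,0,0,2,2,0,-2,2⟩,⟨0,2,0,0,-2,2,2,0⟩,⟨2,0,0,-2,2,-2,0,0⟩,⟨-2,0,-2,0,-2,0,-2,0⟩],
  [⟨0,0,0,-2,-2,0,2,-2⟩,⟨0,-2,0,0,2,-2,-2,0⟩,⟨-2,0,0,2,-2,2,0,0⟩,⟨2,0,2,0,2,0,2,0⟩],
  [⟨-2,0,2,-2,0,0,-4,2⟩,⟨2,-2,-2,2,-2,2,2,-2⟩,⟨-2,2,2,0,4,-2,0,0⟩,⟨2,0,0,0,-4,2,-2,2⟩],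
  [⟨2,0,-2,2,0,0,4,-2⟩,⟨-2,2,2,-2,2,-2,-2,2⟩,⟨2,-2,-2,0,-4,2,0,0⟩,⟨-2,0,0,0,4,-2,2,-2⟩],
  [⟨2,-2,0,2,0,0,2,0⟩,⟨-2,2,0,0,2,0,0,2⟩,⟨2,0,0,-2,-2,2,0,0⟩,⟨0,0,-2,0,2,-2,0,-2⟩],
  [⟨-2,2,0,-2,0,0,-2,0⟩,⟨2,-2,0,0,-2,0,0,-2⟩,⟨-2,0,0,2,2,-2,0,0⟩,⟨0,0,2,0,-2,2,0,2⟩]]

/-- Part 12 of the table of stage 0. -/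
def ker0_12 : List (List Ico) := [
  [⟨2,0,0,0,0,-2,-2,2⟩,⟨-2,0,-2,0,-2,0,2,0⟩,⟨0,-2,2,-2,2,0,0,0⟩,⟨0,0,-2,2,0,2,-2,0⟩],
  [⟨-2,0,0,0,0,2,2,-2⟩,⟨2,0,2,0,2,0,-2,0⟩,⟨0,2,-2,2,-2,0,0,0⟩,⟨0,0,2,-2,0,-2,2,0⟩],
  [⟨0,2,-2,2,2,0,0,0⟩,⟨0,2,2,-2,-2,0,0,0⟩,⟨2,-2,-2,0,0,-2,0,0⟩,⟨-4,0,0,0,0,0,0,0⟩],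
  [⟨0,-2,2,-2,-2,0,0,0⟩,⟨0,-2,-2,2,2,0,0,0⟩,⟨-2,2,2,0,0,2,0,0⟩,⟨4,0,0,0,0,0,0,0⟩],
  [⟨0,0,2,0,2,-2,0,-2⟩,⟨0,0,0,2,-2,0,-2,2⟩,⟨0,0,0,0,0,0,4,0⟩,⟨0,0,0,-2,2,0,-2,2⟩],
  [⟨0,0,-2,0,-2,2,0,2⟩,⟨0,0,0,-2,2,0,2,-2⟩,⟨0,0,0,0,0,0,-4,0⟩,⟨0,0,0,2,-2,0,2,-2⟩],
  [⟨0,0,2,0,2,-2,0,-2⟩,⟨0,0,0,2,-2,0,-2,2⟩,⟨0,0,0,0,0,0,4,0⟩,⟨0,0,0,-2,2,0,-2,2⟩],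
  [⟨0,0,-2,0,-2,2,0,2⟩,⟨0,0,0,-2,2,0,2,-2⟩,⟨0,0,0,0,0,0,-4,0⟩,⟨0,0,0,2,-2,0,2,-2⟩],
  [⟨0,2,-2,2,2,0,0,0⟩,⟨0,2,2,-2,-2,0,0,0⟩,⟨2,-2,-2,0,0,-2,0,0⟩,⟨-4,0,0,0,0,0,0,0⟩],
  [⟨0,-2,2,-2,-2,0,0,0⟩,⟨0,-2,-2,2,2,0,0,0⟩,⟨-2,2,2,0,0,2,0,0⟩,⟨4,0,0,0,0,0,0,0⟩],
  [⟨2,0,0,0,0,-2,-2,2⟩,⟨-2,0,-2,0,-2,0,2,0⟩,⟨0,-2,2,-2,2,0,0,0⟩,⟨0,0,-2,2,0,2,-2,0⟩],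
  [⟨-2,0,0,0,0,2,2,-2⟩,⟨2,0,2,0,2,0,-2,0⟩,⟨0,2,-2,2,-2,0,0,0⟩,⟨0,0,2,-2,0,-2,2,0⟩],
  [⟨2,-2,0,2,0,0,2,0⟩,⟨-2,2,0,0,2,0,0,2⟩,⟨2,0,0,-2,-2,2,0,0⟩,⟨0,0,-2,0,2,-2,0,-2⟩],
  [⟨-2,2,0,-2,0,0,-2,0⟩,⟨2,-2,0,0,-2,0,0,-2⟩,⟨-2,0,0,2,2,-2,0,0⟩,⟨0,0,2,0,-2,2,0,2⟩],
  [⟨2,-2,0,2,0,0,-2,0⟩,⟨-2,2,0,2,0,0,2,0⟩,⟨2,0,2,-2,0,0,0,2⟩,⟨0,0,-4,0,0,0,0,0⟩],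
  [⟨-2,2,0,-2,0,0,2,0⟩,⟨2,-2,0,-2,0,0,-2,0⟩,⟨-2,0,-2,2,0,0,0,-2⟩,⟨0,0,4,0,0,0,0,0⟩],
  [⟨-2,0,0,0,0,-2,-2,2⟩,⟨0,-2,0,0,-2,2,2,0⟩,⟨0,0,0,0,4,0,0,0⟩,⟨0,2,0,0,-2,2,-2,0⟩],
  [⟨2,0,0,0,0,2,2,-2⟩,⟨0,2,0,0,2,-2,-2,0⟩,⟨0,0,0,0,-4,0,0,0⟩,⟨0,-2,0,0,2,-2,2,0⟩],
  [⟨0,2,-2,2,-2,0,0,0⟩,⟨0,0,2,-2,0,-2,2,0⟩,⟨0,-2,-2,0,0,0,-2,2⟩,⟨-2,0,0,0,0,2,2,-2⟩],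
  [⟨0,-2,2,-2,2,0,0,0⟩,⟨0,0,-2,2,0,2,-2,0⟩,⟨0,2,2,0,0,0,2,-2⟩,⟨2,0,0,0,0,-2,-2,2⟩],
  [⟨0,0,2,0,-2,2,0,2⟩,⟨2,0,-2,0,2,0,2,0⟩,⟨-2,2,0,-2,0,0,-2,0⟩,⟨2,-2,0,0,-2,0,0,-2⟩]]

/-- Part 13 of the table of stage 0. -/
def ker0_13 : List (List Ico) := [
  [⟨0,0,-2,0,2,-2,0,-2⟩,⟨-2,0,2,0,-2,0,-2,0⟩,⟨2,-2,0,2,0,0,2,0⟩,⟨-2,2,0,0,2,0,0,2⟩],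
  [⟨0,0,2,0,-2,2,0,2⟩,⟨2,0,-2,0,2,0,2,0⟩,⟨-2,2,0,-2,0,0,-2,0⟩,⟨2,-2,0,0,-2,0,0,-2⟩],
  [⟨0,0,-2,0,2,-2,0,-2⟩,⟨-2,0,2,0,-2,0,-2,0⟩,⟨2,-2,0,2,0,0,2,0⟩,⟨-2,2,0,0,2,0,0,2⟩],
  [⟨0,2,-2,2,-2,0,0,0⟩,⟨0,0,2,-2,0,-2,2,0⟩,⟨0,-2,-2,0,0,0,-2,2⟩,⟨-2,0,0,0,0,2,2,-2⟩],
  [⟨0,-2,2,-2,2,0,0,0⟩,⟨0,0,-2,2,0,2,-2,0⟩,⟨0,2,2,0,0,0,2,-2⟩,⟨2,0,0,0,0,-2,-2,2⟩],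
  [⟨-2,0,0,0,0,-2,-2,2⟩,⟨0,-2,0,0,-2,2,2,0⟩,⟨0,0,0,0,4,0,0,0⟩,⟨0,2,0,0,-2,2,-2,0⟩],
  [⟨2,0,0,0,0,2,2,-2⟩,⟨0,2,0,0,2,-2,-2,0⟩,⟨0,0,0,0,-4,0,0,0⟩,⟨0,-2,0,0,2,-2,2,0⟩],
  [⟨2,-2,0,2,0,0,-2,0⟩,⟨-2,2,0,2,0,0,2,0⟩,⟨2,0,2,-2,0,0,0,2⟩,⟨0,0,-4,0,0,0,0,0⟩],
  [⟨-2,2,0,-2,0,0,2,0⟩,⟨2,-2,0,-2,0,0,-2,0⟩,⟨-2,0,-2,2,0,0,0,-2⟩,⟨0,0,4,0,0,0,0,0⟩],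
  [⟨-2,0,0,0,0,2,-2,2⟩,⟨2,0,0,0,0,2,2,-2⟩,⟨0,2,0,0,2,-2,-2,0⟩,⟨0,0,0,0,-4,0,0,0⟩],
  [⟨2,0,0,0,0,-2,2,-2⟩,⟨-2,0,0,0,0,-2,-2,2⟩,⟨0,-2,0,0,-2,2,2,0⟩,⟨0,0,0,0,4,0,0,0⟩],
  [⟨0,-2,-2,2,-2,0,0,0⟩,⟨-2,0,2,0,2,0,2,0⟩,⟨2,0,0,0,0,2,-2,2⟩,⟨0,2,-2,0,0,0,2,-2⟩],
  [⟨0,2,2,-2,2,0,0,0⟩,⟨2,0,-2,0,-2,0,-2,0⟩,⟨-2,0,0,0,0,-2,2,-2⟩,⟨0,-2,2,0,0,0,-2,2⟩],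
  [⟨-2,2,0,2,0,0,2,0⟩,⟨2,0,2,-2,0,0,0,2⟩,⟨0,0,-4,0,0,0,0,0⟩,⟨-2,0,2,-2,0,0,0,-2⟩],
  [⟨2,-2,0,-2,0,0,-2,0⟩,⟨-2,0,-2,2,0,0,0,-2⟩,⟨0,0,4,0,0,0,0,0⟩,⟨2,0,-2,2,0,0,0,2⟩],
  [⟨0,0,2,0,-2,2,0,-2⟩,⟨2,0,0,2,2,-2,0,0⟩,⟨-2,2,0,0,-2,0,0,2⟩,⟨2,-2,0,-2,0,0,2,0⟩],
  [⟨0,0,-2,0,2,-2,0,2⟩,⟨-2,0,0,-2,-2,2,0,0⟩,⟨2,-2,0,0,2,0,0,-2⟩,⟨-2,2,0,2,0,0,-2,0⟩],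
  [⟨0,0,2,0,-2,2,0,-2⟩,⟨2,0,0,2,2,-2,0,0⟩,⟨-2,2,0,0,-2,0,0,2⟩,⟨2,-2,0,-2,0,0,2,0⟩],
  [⟨0,0,-2,0,2,-2,0,2⟩,⟨-2,0,0,-2,-2,2,0,0⟩,⟨2,-2,0,0,2,0,0,-2⟩,⟨-2,2,0,2,0,0,-2,0⟩],
  [⟨-2,2,0,2,0,0,2,0⟩,⟨2,0,2,-2,0,0,0,2⟩,⟨0,0,-4,0,0,0,0,0⟩,⟨-2,0,2,-2,0,0,0,-2⟩],
  [⟨2,-2,0,-2,0,0,-2,0⟩,⟨-2,0,-2,2,0,0,0,-2⟩,⟨0,0,4,0,0,0,0,0⟩,⟨2,0,-2,2,0,0,0,2⟩]]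

/-- Part 14 of the table of stage 0. -/
def ker0_14 : List (List Ico) := [
  [⟨0,-2,-2,2,-2,0,0,0⟩,⟨-2,0,2,0,2,0,2,0⟩,⟨2,0,0,0,0,2,-2,2⟩,⟨0,2,-2,0,0,0,2,-2⟩],
  [⟨0,2,2,-2,2,0,0,0⟩,⟨2,0,-2,0,-2,0,-2,0⟩,⟨-2,0,0,0,0,-2,2,-2⟩,⟨0,-2,2,0,0,0,-2,2⟩],
  [⟨-2,0,0,0,0,2,-2,2⟩,⟨2,0,0,0,0,2,2,-2⟩,⟨0,2,0,0,2,-2,-2,0⟩,⟨0,0,0,0,-4,0,0,0⟩],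
  [⟨2,0,0,0,0,-2,2,-2⟩,⟨-2,0,0,0,0,-2,-2,2⟩,⟨0,-2,0,0,-2,2,2,0⟩,⟨0,0,0,0,4,0,0,0⟩],
  [⟨0,0,0,0,0,0,0,0⟩,⟨0,0,0,0,0,0,0,0⟩,⟨0,0,0,0,0,0,0,0⟩,⟨0,0,0,0,0,0,0,0⟩],
  [⟨0,0,0,0,0,0,0,0⟩,⟨0,0,0,0,0,0,0,0⟩,⟨0,0,0,0,0,0,0,0⟩,⟨0,0,0,0,0,0,0,0⟩],
  [⟨0,0,0,0,0,0,0,0⟩,⟨0,0,0,0,0,0,0,0⟩,⟨0,0,0,0,0,0,0,0⟩,⟨0,0,0,0,0,0,0,0⟩],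
  [⟨0,0,0,0,0,0,0,0⟩,⟨0,0,0,0,0,0,0,0⟩,⟨0,0,0,0,0,0,0,0⟩,⟨0,0,0,0,0,0,0,0⟩],
  [⟨-4,0,4,0,0,0,0,0⟩,⟨4,-2,0,2,0,2,0,2⟩,⟨-2,4,-2,0,2,0,2,0⟩,⟨2,0,2,-4,-2,0,-2,0⟩],
  [⟨0,0,0,0,4,0,-4,0⟩,⟨0,2,0,2,-4,2,0,-2⟩,⟨2,0,2,0,2,-4,2,0⟩,⟨-2,0,-2,0,-2,0,-2,4⟩],
  [⟨0,0,0,0,-4,0,-4,0⟩,⟨0,-2,0,2,0,-2,4,-2⟩,⟨-2,0,2,0,2,0,-2,4⟩,⟨2,0,-2,0,-2,4,2,0⟩],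
  [⟨-4,0,-4,0,0,0,0,0⟩,⟨0,-2,4,-2,0,2,0,-2⟩,⟨2,0,-2,4,2,0,-2,0⟩,⟨-2,4,2,0,-2,0,2,0⟩],
  [⟨4,0,4,0,0,0,0,0⟩,⟨0,2,-4,2,0,-2,0,2⟩,⟨-2,0,2,-4,-2,0,2,0⟩,⟨2,-4,-2,0,2,0,-2,0⟩],
  [⟨0,0,0,0,4,0,4,0⟩,⟨0,2,0,-2,0,2,-4,2⟩,⟨2,0,-2,0,-2,0,2,-4⟩,⟨-2,0,2,0,2,-4,-2,0⟩],
  [⟨0,0,0,0,-4,0,4,0⟩,⟨0,-2,0,-2,4,-2,0,2⟩,⟨-2,0,-2,0,-2,4,-2,0⟩,⟨2,0,2,0,2,0,2,-4⟩],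
  [⟨4,0,-4,0,0,0,0,0⟩,⟨-4,2,0,-2,0,-2,0,-2⟩,⟨2,-4,2,0,-2,0,-2,0⟩,⟨-2,0,-2,4,2,0,2,0⟩],
  [⟨0,0,0,0,0,0,0,0⟩,⟨0,0,0,0,0,0,0,0⟩,⟨0,0,0,0,0,0,0,0⟩,⟨0,0,0,0,0,0,0,0⟩],
  [⟨0,0,0,0,0,0,0,0⟩,⟨0,0,0,0,0,0,0,0⟩,⟨0,0,0,0,0,0,0,0⟩,⟨0,0,0,0,0,0,0,0⟩],
  [⟨0,0,0,0,0,0,0,0⟩,⟨0,0,0,0,0,0,0,0⟩,⟨0,0,0,0,0,0,0,0⟩,⟨0,0,0,0,0,0,0,0⟩],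
  [⟨0,0,0,0,0,0,0,0⟩,⟨0,0,0,0,0,0,0,0⟩,⟨0,0,0,0,0,0,0,0⟩,⟨0,0,0,0,0,0,0,0⟩],
  [⟨0,0,0,0,0,0,0,0⟩,⟨0,0,0,0,0,0,0,0⟩,⟨0,0,0,0,0,0,0,0⟩,⟨0,0,0,0,0,0,0,0⟩]]

/-- The table of stage 0. -/
def kerTab0 : List (List Ico) := ker0_0 ++ ker0_1 ++ ker0_2 ++ ker0_3 ++ ker0_4 ++ ker0_5 ++ ker0_6 ++ ker0_7 ++ ker0_8 ++ ker0_9 ++ ker0_10 ++ ker0_11 ++ ker0_12 ++ ker0_13 ++ ker0_14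

/-- Labels of base vector 1. -/
def tgt1 : List ℤ := [-4,4,4,-4]

/-- Candidates for base vector 1. -/
def cand1 : List (ℕ × ℕ) := [(12,0), (13,1), (14,65), (15,56), (22,48), (23,73), (24,52), (25,69), (26,52), (27,69), (28,48), (29,73), (36,65), (37,56), (38,0), (39,1), (48,93), (49,28), (78,107), (79,14), (108,86), (109,35), (112,70), (113,51), (130,70), (131,51), (134,86), (135,35), (164,107), (165,14), (194,93), (195,28)]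

/-- Part 0 of the table of stage 1. -/
def ker1_0 : List (List Ico) := [
  [⟨-2,0,0,-2,-2,-2,0,0⟩,⟨0,-4,0,0,0,0,0,0⟩,⟨-2,0,0,2,2,2,0,0⟩,⟨2,2,2,0,0,2,0,0⟩,⟨8,0,0,0,0,0,0,0⟩,⟨-4,4,-4,0,0,-4,0,0⟩,⟨0,-4,4,-4,-4,0,0,0⟩,⟨0,-4,-4,4,4,0,0,0⟩],
  [⟨0,0,-2,2,0,2,2,0⟩,⟨0,2,2,-2,2,0,0,0⟩,⟨2,0,-2,0,-2,0,-2,0⟩,⟨-2,0,0,0,0,-2,2,-2⟩,⟨-4,0,4,0,0,0,0,0⟩,⟨4,-2,0,2,0,2,0,2⟩,⟨-2,4,-2,0,2,0,2,0⟩,⟨2,0,2,-4,-2,0,-2,0⟩],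
  [⟨0,0,0,2,-2,0,2,-2⟩,⟨0,0,2,0,2,-2,0,2⟩,⟨0,0,-2,0,-2,2,0,2⟩,⟨0,0,0,-2,2,0,2,-2⟩,⟨0,0,0,0,4,0,-4,0⟩,⟨0,2,0,2,-4,2,0,-2⟩,⟨2,0,2,0,2,-4,2,0⟩,⟨-2,0,-2,0,-2,0,-2,4⟩],
  [⟨-2,-2,0,2,0,0,2,0⟩,⟨0,0,2,0,2,2,0,2⟩,⟨2,2,-2,0,0,2,0,0⟩,⟨0,2,0,-2,0,-2,0,-2⟩,⟨0,0,0,0,-4,0,-4,0⟩,⟨0,-2,0,2,0,-2,4,-2⟩,⟨-2,0,2,0,2,0,-2,4⟩,⟨2,0,-2,0,-2,4,2,0⟩],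
  [⟨0,-2,0,2,0,2,0,-2⟩,⟨0,2,2,2,2,0,0,0⟩,⟨2,2,0,0,-2,0,0,2⟩,⟨0,0,-2,-2,0,-2,2,0⟩,⟨-4,0,-4,0,0,0,0,0⟩,⟨0,-2,4,-2,0,2,0,-2⟩,⟨2,0,-2,4,2,0,-2,0⟩,⟨-2,4,2,0,-2,0,2,0⟩],
  [⟨-2,0,-2,0,-2,0,2,0⟩,⟨0,-2,2,-2,2,0,0,0⟩,⟨0,0,-2,2,0,2,-2,0⟩,⟨0,2,2,0,0,0,2,-2⟩,⟨4,0,4,0,0,0,0,0⟩,⟨0,2,-4,2,0,-2,0,2⟩,⟨-2,0,2,-4,-2,0,2,0⟩,⟨2,-4,-2,0,2,0,-2,0⟩],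
  [⟨0,0,-2,0,-2,2,0,-2⟩,⟨0,0,2,0,2,-2,0,-2⟩,⟨0,0,0,2,-2,0,-2,2⟩,⟨0,0,0,0,0,0,4,0⟩,⟨0,0,0,0,4,0,4,0⟩,⟨0,2,0,-2,0,2,-4,2⟩,⟨2,0,-2,0,-2,0,2,-4⟩,⟨-2,0,2,0,2,-4,-2,0⟩],
  [⟨-2,-2,-2,0,0,2,0,0⟩,⟨0,0,2,0,2,2,0,-2⟩,⟨2,2,0,2,0,0,-2,0⟩,⟨0,2,0,0,-2,-2,2,0⟩,⟨0,0,0,0,-4,0,4,0⟩,⟨0,-2,0,-2,4,-2,0,2⟩,⟨-2,0,-2,0,-2,4,-2,0⟩,⟨2,0,2,0,2,0,2,-4⟩],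
  [⟨-2,-2,0,0,-2,0,0,-2⟩,⟨0,-2,2,2,2,0,0,0⟩,⟨0,2,0,2,0,2,0,2⟩,⟨2,2,0,-2,0,0,2,0⟩,⟨4,0,-4,0,0,0,0,0⟩,⟨-4,2,0,-2,0,-2,0,-2⟩,⟨2,-4,2,0,-2,0,-2,0⟩,⟨-2,0,-2,4,2,0,2,0⟩],
  [⟨0,-2,-2,0,0,0,2,-2⟩,⟨-2,0,2,0,2,0,-2,0⟩,⟨2,0,0,2,-2,2,0,0⟩,⟨0,2,0,0,2,-2,2,0⟩,⟨0,0,0,0,0,0,0,0⟩,⟨0,0,0,0,0,0,0,0⟩,⟨0,0,0,0,0,0,0,0⟩,⟨0,0,0,0,0,0,0,0⟩],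
  [⟨4,0,0,0,0,0,0,0⟩,⟨-2,2,-2,0,0,-2,0,0⟩,⟨0,-2,2,-2,-2,0,0,0⟩,⟨0,-2,-2,2,2,0,0,0⟩,⟨0,-2,2,0,0,0,-2,2⟩,⟨0,0,-2,2,0,2,2,0⟩,⟨0,2,2,-2,2,0,0,0⟩,⟨2,0,-2,0,-2,0,-2,0⟩],
  [⟨4,-2,0,0,-2,-2,-2,0⟩,⟨-4,0,-2,2,0,-2,2,0⟩,⟨0,-2,4,-2,0,2,0,2⟩,⟨2,0,-4,2,2,2,0,0⟩,⟨0,2,-2,0,0,0,2,-2⟩,⟨0,0,2,-2,0,-2,-2,0⟩,⟨0,-2,-2,2,-2,0,0,0⟩,⟨-2,0,2,0,2,0,2,0⟩],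
  [⟨8,0,0,0,0,0,0,0⟩,⟨-4,4,-4,0,0,-4,0,0⟩,⟨0,-4,4,-4,-4,0,0,0⟩,⟨0,-4,-4,4,4,0,0,0⟩,⟨-2,0,0,2,2,2,0,0⟩,⟨2,2,2,0,0,2,0,0⟩,⟨2,2,-2,0,0,-2,0,0⟩,⟨-2,0,0,-2,-2,-2,0,0⟩],
  [⟨4,-4,0,0,0,0,0,0⟩,⟨-4,2,-2,2,2,0,0,0⟩,⟨2,0,4,-2,-2,2,0,0⟩,⟨2,0,-4,2,2,-2,0,0⟩,⟨2,0,0,-2,-2,-2,0,0⟩,⟨-2,-2,-2,0,0,-2,0,0⟩,⟨-2,-2,2,0,0,2,0,0⟩,⟨2,0,0,2,2,2,0,0⟩],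
  [⟨4,-2,0,2,0,2,0,2⟩,⟨-2,4,-2,0,2,0,2,0⟩,⟨2,0,2,-4,-2,0,-2,0⟩,⟨0,-2,-4,2,0,-2,0,-2⟩,⟨-2,-2,0,0,-2,0,0,-2⟩,⟨0,-2,2,2,2,0,0,0⟩,⟨0,2,0,2,0,2,0,2⟩,⟨2,2,0,-2,0,0,2,0⟩],
  [⟨4,-2,-2,-2,-2,0,0,0⟩,⟨-4,0,-2,0,2,-2,0,-2⟩,⟨0,-2,4,0,-2,2,-2,0⟩,⟨2,0,-2,4,2,0,2,0⟩,⟨2,2,0,0,2,0,0,2⟩,⟨0,2,-2,-2,-2,0,0,0⟩,⟨0,-2,0,-2,0,-2,0,-2⟩,⟨-2,-2,0,2,0,0,-2,0⟩],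
  [⟨4,-2,2,0,0,0,2,2⟩,⟨-2,2,-4,0,2,0,0,2⟩,⟨0,0,2,-4,-2,2,0,-2⟩,⟨2,-2,-2,2,2,-2,-2,-2⟩,⟨0,0,-2,2,0,-2,-2,0⟩,⟨-2,0,2,0,-2,0,2,0⟩,⟨2,-2,0,0,2,0,0,2⟩,⟨-2,2,-2,0,0,2,0,0⟩],
  [⟨4,0,0,0,0,0,0,0⟩,⟨-2,2,-2,0,0,-2,0,0⟩,⟨0,-2,2,-2,-2,0,0,0⟩,⟨0,-2,-2,2,2,0,0,0⟩,⟨0,0,2,-2,0,2,2,0⟩,⟨2,0,-2,0,2,0,-2,0⟩,⟨-2,2,0,0,-2,0,0,-2⟩,⟨2,-2,2,0,0,-2,0,0⟩],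
  [⟨4,-2,-2,-2,2,0,0,0⟩,⟨-4,2,-2,0,0,0,-2,-2⟩,⟨2,-2,4,0,-2,0,0,-2⟩,⟨0,0,-2,4,2,-2,0,2⟩,⟨-2,2,0,0,-2,0,0,2⟩,⟨2,-2,0,-2,0,0,2,0⟩,⟨-2,0,-2,0,2,0,-2,0⟩,⟨0,0,2,0,-2,2,0,-2⟩],
  [⟨4,0,0,0,0,0,0,0⟩,⟨-2,2,-2,0,0,-2,0,0⟩,⟨0,-2,2,-2,-2,0,0,0⟩,⟨0,-2,-2,2,2,0,0,0⟩,⟨2,-2,0,0,2,0,0,-2⟩,⟨-2,2,0,2,0,0,-2,0⟩,⟨2,0,2,0,-2,0,2,0⟩,⟨0,0,-2,0,2,-2,0,2⟩],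
  [⟨4,-2,0,-2,0,-2,0,2⟩,⟨-4,0,-4,0,0,0,0,0⟩,⟨0,-2,4,-2,0,2,0,-2⟩,⟨2,0,-2,4,2,0,-2,0⟩,⟨2,0,0,2,-2,2,0,0⟩,⟨0,2,0,0,2,-2,2,0⟩,⟨0,0,0,-2,-2,0,-2,2⟩,⟨0,-2,-2,0,0,0,2,-2⟩]]

/-- Part 1 of the table of stage 1. -/
def ker1_1 : List (List Ico) := [
  [⟨4,-4,0,0,0,0,0,0⟩,⟨-4,2,-2,2,2,0,0,0⟩,⟨2,0,4,-2,-2,2,0,0⟩,⟨2,0,-4,2,2,-2,0,0⟩,⟨-2,0,0,-2,2,-2,0,0⟩,⟨0,-2,0,0,-2,2,-2,0⟩,⟨0,0,0,2,2,0,2,-2⟩,⟨0,2,2,0,0,0,-2,2⟩],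
  [⟨4,-2,0,-2,0,2,0,2⟩,⟨-2,2,-4,0,2,0,0,-2⟩,⟨0,0,4,-2,-2,0,-2,-2⟩,⟨2,-2,-2,4,0,-2,0,0⟩,⟨0,0,2,2,0,-2,2,0⟩,⟨0,0,0,0,0,0,0,4⟩,⟨0,0,-2,-2,0,2,2,0⟩,⟨0,0,0,-2,2,0,-2,-2⟩],
  [⟨4,-2,2,0,0,0,-2,-2⟩,⟨-2,2,-2,4,0,-2,0,0⟩,⟨0,0,4,-2,-2,0,2,2⟩,⟨2,-2,-4,0,2,0,0,2⟩,⟨0,0,-2,-2,0,2,-2,0⟩,⟨0,0,0,0,0,0,0,-4⟩,⟨0,0,2,2,0,-2,-2,0⟩,⟨0,0,0,2,-2,0,2,2⟩],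
  [⟨4,-2,0,0,-2,-2,2,0⟩,⟨-4,0,-2,0,2,-2,0,2⟩,⟨0,-2,2,-2,-2,4,0,0⟩,⟨2,0,-2,2,4,0,0,-2⟩,⟨0,2,2,0,0,0,-2,-2⟩,⟨2,0,0,2,-2,-2,0,0⟩,⟨-2,0,0,0,0,-2,2,2⟩,⟨0,-2,0,-2,0,2,0,2⟩],
  [⟨4,-2,0,-2,0,2,0,-2⟩,⟨-2,2,-2,2,2,-2,-2,-2⟩,⟨0,0,4,0,-4,0,0,0⟩,⟨2,-2,-2,2,2,-2,2,2⟩,⟨0,-2,-2,0,0,0,2,2⟩,⟨-2,0,0,-2,2,2,0,0⟩,⟨2,0,0,0,0,2,-2,-2⟩,⟨0,2,0,2,0,-2,0,-2⟩],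
  [⟨4,-2,0,2,0,-2,0,2⟩,⟨-4,2,-2,0,0,0,2,2⟩,⟨2,-2,2,-4,0,2,0,0⟩,⟨0,0,-4,2,2,0,-2,-2⟩,⟨0,2,2,0,0,0,-2,-2⟩,⟨2,0,0,2,-2,-2,0,0⟩,⟨-2,0,0,0,0,-2,2,2⟩,⟨0,-2,0,-2,0,2,0,2⟩],
  [⟨4,-2,0,0,2,2,-2,0⟩,⟨-2,4,-2,2,0,0,0,-2⟩,⟨2,0,4,-2,-2,-2,0,0⟩,⟨0,-2,-4,2,0,-2,0,2⟩,⟨0,-2,-2,0,0,0,2,2⟩,⟨-2,0,0,-2,2,2,0,0⟩,⟨2,0,0,0,0,2,-2,-2⟩,⟨0,2,0,2,0,-2,0,-2⟩],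
  [⟨4,-2,-2,0,0,0,2,2⟩,⟨-4,2,-2,-2,2,0,0,0⟩,⟨2,-2,2,-2,-2,2,-2,-2⟩,⟨0,0,-2,4,2,-2,0,-2⟩,⟨0,0,2,2,0,-2,2,0⟩,⟨0,0,0,0,0,0,0,4⟩,⟨0,0,-2,-2,0,2,2,0⟩,⟨0,0,0,-2,2,0,-2,-2⟩],
  [⟨4,-2,0,2,0,-2,0,-2⟩,⟨-4,2,0,2,0,-2,0,2⟩,⟨2,-2,2,-2,-2,2,2,2⟩,⟨0,0,-4,0,4,0,0,0⟩,⟨0,0,-2,-2,0,2,-2,0⟩,⟨0,0,0,0,0,0,0,-4⟩,⟨0,0,2,2,0,-2,-2,0⟩,⟨0,0,0,2,-2,0,2,2⟩],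
  [⟨4,0,0,0,0,0,0,0⟩,⟨-2,2,-2,0,0,-2,0,0⟩,⟨0,-2,2,-2,-2,0,0,0⟩,⟨0,-2,-2,2,2,0,0,0⟩,⟨2,0,0,2,-2,2,0,0⟩,⟨0,2,0,0,2,-2,2,0⟩,⟨0,0,0,-2,-2,0,-2,2⟩,⟨0,-2,-2,0,0,0,2,-2⟩],
  [⟨4,-2,0,2,0,2,0,-2⟩,⟨-2,4,0,2,2,-2,0,0⟩,⟨2,0,2,-2,-4,0,0,2⟩,⟨0,-2,-4,0,2,-2,2,0⟩,⟨-2,0,0,-2,2,-2,0,0⟩,⟨0,-2,0,0,-2,2,-2,0⟩,⟨0,0,0,2,2,0,2,-2⟩,⟨0,2,2,0,0,0,-2,2⟩],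
  [⟨4,-4,0,0,0,0,0,0⟩,⟨-4,2,-2,2,2,0,0,0⟩,⟨2,0,4,-2,-2,2,0,0⟩,⟨2,0,-4,2,2,-2,0,0⟩,⟨-2,2,0,0,-2,0,0,2⟩,⟨2,-2,0,-2,0,0,2,0⟩,⟨-2,0,-2,0,2,0,-2,0⟩,⟨0,0,2,0,-2,2,0,-2⟩],
  [⟨4,-2,2,2,-2,0,0,0⟩,⟨-2,2,-2,2,2,-2,2,2⟩,⟨0,0,2,-4,-2,2,0,2⟩,⟨2,-2,-4,0,2,0,0,-2⟩,⟨2,-2,0,0,2,0,0,-2⟩,⟨-2,2,0,2,0,0,-2,0⟩,⟨2,0,2,0,-2,0,2,0⟩,⟨0,0,-2,0,2,-2,0,2⟩],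
  [⟨4,-4,0,0,0,0,0,0⟩,⟨-4,2,-2,2,2,0,0,0⟩,⟨2,0,4,-2,-2,2,0,0⟩,⟨2,0,-4,2,2,-2,0,0⟩,⟨0,0,-2,2,0,-2,-2,0⟩,⟨-2,0,2,0,-2,0,2,0⟩,⟨2,-2,0,0,2,0,0,2⟩,⟨-2,2,-2,0,0,2,0,0⟩],
  [⟨4,-2,-2,0,0,0,-2,-2⟩,⟨-4,2,0,2,0,-2,0,-2⟩,⟨2,-2,4,0,-2,0,0,2⟩,⟨0,0,-4,2,2,0,2,2⟩,⟨0,0,2,-2,0,2,2,0⟩,⟨2,0,-2,0,2,0,-2,0⟩,⟨-2,2,0,0,-2,0,0,-2⟩,⟨2,-2,2,0,0,-2,0,0⟩],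
  [⟨4,-2,2,2,2,0,0,0⟩,⟨-2,4,-2,2,0,0,0,2⟩,⟨2,0,2,-4,-2,0,2,0⟩,⟨0,-2,-4,0,2,-2,-2,0⟩,⟨-2,-2,0,0,-2,0,0,-2⟩,⟨0,-2,2,2,2,0,0,0⟩,⟨0,2,0,2,0,2,0,2⟩,⟨2,2,0,-2,0,0,2,0⟩],
  [⟨4,-2,0,-2,0,-2,0,-2⟩,⟨-4,0,-2,2,0,-2,-2,0⟩,⟨0,-2,4,0,-2,2,2,0⟩,⟨2,0,-2,2,4,0,0,2⟩,⟨2,2,0,0,2,0,0,2⟩,⟨0,2,-2,-2,-2,0,0,0⟩,⟨0,-2,0,-2,0,-2,0,-2⟩,⟨-2,-2,0,2,0,0,-2,0⟩],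
  [⟨4,0,0,0,0,0,0,0⟩,⟨-2,2,-2,0,0,-2,0,0⟩,⟨0,-2,2,-2,-2,0,0,0⟩,⟨0,-2,-2,2,2,0,0,0⟩,⟨-2,0,0,2,2,2,0,0⟩,⟨2,2,2,0,0,2,0,0⟩,⟨2,2,-2,0,0,-2,0,0⟩,⟨-2,0,0,-2,-2,-2,0,0⟩],
  [⟨0,-4,0,0,0,0,0,0⟩,⟨-2,0,0,2,2,2,0,0⟩,⟨2,2,2,0,0,2,0,0⟩,⟨2,2,-2,0,0,-2,0,0⟩,⟨2,0,0,-2,-2,-2,0,0⟩,⟨-2,-2,-2,0,0,-2,0,0⟩,⟨-2,-2,2,0,0,2,0,0⟩,⟨2,0,0,2,2,2,0,0⟩],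
  [⟨4,-2,0,0,2,2,2,0⟩,⟨-2,4,-2,0,2,0,-2,0⟩,⟨2,0,2,-2,-4,0,0,-2⟩,⟨0,-2,-2,2,2,-4,0,0⟩,⟨0,-2,2,0,0,0,-2,2⟩,⟨0,0,-2,2,0,2,2,0⟩,⟨0,2,2,-2,2,0,0,0⟩,⟨2,0,-2,0,-2,0,-2,0⟩],
  [⟨4,-4,0,0,0,0,0,0⟩,⟨-4,2,-2,2,2,0,0,0⟩,⟨2,0,4,-2,-2,2,0,0⟩,⟨2,0,-4,2,2,-2,0,0⟩,⟨0,2,-2,0,0,0,2,-2⟩,⟨0,0,2,-2,0,-2,-2,0⟩,⟨0,-2,-2,2,-2,0,0,0⟩,⟨-2,0,2,0,2,0,2,0⟩]]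

/-- Part 2 of the table of stage 1. -/
def ker1_2 : List (List Ico) := [
  [⟨2,0,2,0,-2,0,2,0⟩,⟨0,0,-2,0,2,-2,0,2⟩,⟨-2,0,0,-2,-2,2,0,0⟩,⟨2,-2,0,0,2,0,0,-2⟩,⟨0,0,0,0,0,0,-4,0⟩,⟨0,0,0,2,-2,0,2,-2⟩,⟨0,0,2,0,2,-2,0,2⟩,⟨0,0,-2,0,-2,2,0,2⟩],
  [⟨2,0,0,-2,-2,2,0,0⟩,⟨0,0,-2,0,2,-2,0,-2⟩,⟨-2,0,2,0,-2,0,-2,0⟩,⟨2,-2,0,2,0,0,2,0⟩,⟨0,0,0,0,0,0,4,0⟩,⟨0,0,0,-2,2,0,-2,2⟩,⟨0,0,-2,0,-2,2,0,-2⟩,⟨0,0,2,0,2,-2,0,-2⟩],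
  [⟨4,0,0,0,0,0,0,0⟩,⟨-2,2,-2,0,0,-2,0,0⟩,⟨0,-2,2,-2,-2,0,0,0⟩,⟨0,-2,-2,2,2,0,0,0⟩,⟨0,0,4,0,0,0,0,0⟩,⟨2,0,-2,2,0,0,0,2⟩,⟨-2,2,0,-2,0,0,2,0⟩,⟨2,-2,0,-2,0,0,-2,0⟩],
  [⟨4,-2,2,0,0,0,-2,-2⟩,⟨-2,2,-2,4,0,-2,0,0⟩,⟨0,0,4,-2,-2,0,2,2⟩,⟨2,-2,-4,0,2,0,0,2⟩,⟨0,0,-4,0,0,0,0,0⟩,⟨-2,0,2,-2,0,0,0,-2⟩,⟨2,-2,0,2,0,0,-2,0⟩,⟨-2,2,0,2,0,0,2,0⟩],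
  [⟨4,0,0,0,0,0,0,0⟩,⟨-2,2,-2,0,0,-2,0,0⟩,⟨0,-2,2,-2,-2,0,0,0⟩,⟨0,-2,-2,2,2,0,0,0⟩,⟨0,0,0,0,4,0,0,0⟩,⟨0,2,0,0,-2,2,-2,0⟩,⟨2,0,0,0,0,-2,2,-2⟩,⟨-2,0,0,0,0,-2,-2,2⟩],
  [⟨2,-2,0,0,2,0,0,2⟩,⟨-2,2,-2,0,0,2,0,0⟩,⟨2,0,2,-2,0,0,0,-2⟩,⟨0,0,-2,2,0,-2,-2,0⟩,⟨0,0,0,0,-4,0,0,0⟩,⟨0,-2,0,0,2,-2,2,0⟩,⟨-2,0,0,0,0,2,-2,2⟩,⟨2,0,0,0,0,2,2,-2⟩],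
  [⟨2,-2,0,0,-2,0,0,2⟩,⟨-2,0,-2,0,2,0,2,0⟩,⟨0,0,2,-2,0,2,-2,0⟩,⟨2,0,-2,2,0,0,0,-2⟩,⟨0,2,0,2,0,-2,0,-2⟩,⟨0,0,2,0,-2,-2,0,2⟩,⟨0,-2,-2,0,0,0,2,2⟩,⟨-2,0,0,-2,2,2,0,0⟩],
  [⟨2,0,0,0,0,2,-2,-2⟩,⟨0,2,0,2,0,-2,0,-2⟩,⟨0,0,2,0,-2,-2,0,2⟩,⟨0,-2,-2,0,0,0,2,2⟩,⟨0,-2,0,-2,0,2,0,2⟩,⟨0,0,-2,0,2,2,0,-2⟩,⟨0,2,2,0,0,0,-2,-2⟩,⟨2,0,0,2,-2,-2,0,0⟩],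
  [⟨2,2,0,0,-2,0,0,-2⟩,⟨0,0,0,0,0,-4,0,0⟩,⟨-2,-2,0,0,-2,0,0,2⟩,⟨0,-2,0,0,2,2,2,0⟩,⟨0,0,0,0,4,0,0,0⟩,⟨0,2,0,0,-2,2,-2,0⟩,⟨2,0,0,0,0,-2,2,-2⟩,⟨-2,0,0,0,0,-2,-2,2⟩],
  [⟨0,0,0,0,0,0,0,0⟩,⟨0,0,0,0,0,0,0,0⟩,⟨0,0,0,0,0,0,0,0⟩,⟨0,0,0,0,0,0,0,0⟩,⟨0,0,0,0,-4,0,0,0⟩,⟨0,-2,0,0,2,-2,2,0⟩,⟨-2,0,0,0,0,2,-2,2⟩,⟨2,0,0,0,0,2,2,-2⟩],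
  [⟨2,0,-2,0,-2,0,2,0⟩,⟨-2,0,0,-2,2,-2,0,0⟩,⟨0,-2,0,0,-2,2,-2,0⟩,⟨0,0,0,2,2,0,2,-2⟩,⟨0,0,4,0,0,0,0,0⟩,⟨2,0,-2,2,0,0,0,2⟩,⟨-2,2,0,-2,0,0,2,0⟩,⟨2,-2,0,-2,0,0,-2,0⟩],
  [⟨2,-2,0,0,-2,0,0,-2⟩,⟨-2,0,0,2,2,-2,0,0⟩,⟨0,0,2,0,-2,2,0,2⟩,⟨2,0,-2,0,2,0,2,0⟩,⟨0,0,-4,0,0,0,0,0⟩,⟨-2,0,2,-2,0,0,0,-2⟩,⟨2,-2,0,2,0,0,-2,0⟩,⟨-2,2,0,2,0,0,2,0⟩],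
  [⟨2,0,0,0,0,2,2,-2⟩,⟨0,2,0,0,2,-2,-2,0⟩,⟨0,0,0,0,-4,0,0,0⟩,⟨0,-2,0,0,2,-2,2,0⟩,⟨2,-2,2,-2,2,-2,-2,2⟩,⟨-2,0,-4,2,-2,2,0,0⟩,⟨0,0,4,-2,2,0,2,-2⟩,⟨2,0,-2,2,0,0,-4,2⟩],
  [⟨4,0,0,0,0,0,0,0⟩,⟨-2,2,-2,0,0,-2,0,0⟩,⟨0,-2,2,-2,-2,0,0,0⟩,⟨0,-2,-2,2,2,0,0,0⟩,⟨-2,2,-2,2,-2,2,2,-2⟩,⟨2,0,4,-2,2,-2,0,0⟩,⟨0,0,-4,2,-2,0,-2,2⟩,⟨-2,0,2,-2,0,0,4,-2⟩],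
  [⟨2,2,2,0,0,-2,0,0⟩,⟨0,0,-2,0,-2,-2,0,2⟩,⟨-2,-2,0,-2,0,0,2,0⟩,⟨0,-2,0,0,2,2,-2,0⟩,⟨2,0,2,0,-2,4,-2,0⟩,⟨2,2,-2,2,2,-2,2,-2⟩,⟨-2,2,2,-2,-2,-2,-2,2⟩,⟨2,-4,-2,0,-2,0,2,0⟩],
  [⟨2,0,2,-2,0,0,0,-2⟩,⟨0,0,-2,2,0,-2,-2,0⟩,⟨-2,0,2,0,-2,0,2,0⟩,⟨2,-2,0,0,2,0,0,2⟩,⟨2,0,-2,0,2,0,-2,4⟩,⟨-2,2,-2,-2,-2,2,2,-2⟩,⟨2,-2,2,-2,2,-2,-2,-2⟩,⟨-2,0,-2,4,-2,0,-2,0⟩],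
  [⟨2,0,2,-2,0,0,0,2⟩,⟨0,0,-4,0,0,0,0,0⟩,⟨-2,0,2,-2,0,0,0,-2⟩,⟨2,-2,0,2,0,0,-2,0⟩,⟨2,0,-2,4,-2,0,2,0⟩,⟨-2,2,2,-2,2,-2,2,2⟩,⟨2,-2,-2,-2,-2,2,-2,2⟩,⟨-2,0,-2,0,2,0,2,-4⟩],
  [⟨2,2,2,0,0,2,0,0⟩,⟨2,2,-2,0,0,-2,0,0⟩,⟨-2,0,0,-2,-2,-2,0,0⟩,⟨0,-4,0,0,0,0,0,0⟩,⟨2,-4,2,0,2,0,2,0⟩,⟨-2,2,-2,2,2,2,-2,2⟩,⟨2,2,2,-2,-2,2,2,-2⟩,⟨2,0,-2,0,2,-4,-2,0⟩],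
  [⟨2,-2,2,0,0,-2,0,0⟩,⟨-2,0,-2,2,0,0,0,2⟩,⟨0,0,2,-2,0,2,2,0⟩,⟨2,0,-2,0,2,0,-2,0⟩,⟨-2,4,-2,0,-2,0,-2,0⟩,⟨2,-2,2,-2,-2,-2,2,-2⟩,⟨-2,-2,-2,2,2,-2,-2,2⟩,⟨-2,0,2,0,-2,4,2,0⟩],
  [⟨2,0,2,2,0,0,0,-2⟩,⟨0,2,0,2,0,-2,0,2⟩,⟨0,0,0,-2,-2,0,2,2⟩,⟨0,-2,-2,-2,2,0,0,0⟩,⟨-2,0,2,-4,2,0,-2,0⟩,⟨2,-2,-2,2,-2,2,-2,-2⟩,⟨-2,2,2,2,2,-2,2,-2⟩,⟨2,0,2,0,-2,0,-2,4⟩],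
  [⟨2,0,2,2,0,0,0,2⟩,⟨0,2,-2,0,0,0,2,2⟩,⟨0,0,0,-4,0,0,0,0⟩,⟨0,-2,-2,0,0,0,-2,-2⟩,⟨-2,0,2,0,-2,0,2,-4⟩,⟨2,-2,2,2,2,-2,-2,2⟩,⟨-2,2,-2,2,-2,2,2,2⟩,⟨2,0,2,-4,2,0,2,0⟩]]

/-- Part 3 of the table of stage 1. -/
def ker1_3 : List (List Ico) := [
  [⟨2,-2,2,0,0,2,0,0⟩,⟨0,2,-2,2,2,0,0,0⟩,⟨0,2,2,-2,-2,0,0,0⟩,⟨2,-2,-2,0,0,-2,0,0⟩,⟨-2,0,-2,0,2,-4,2,0⟩,⟨-2,-2,2,-2,-2,2,-2,2⟩,⟨2,-2,-2,2,2,2,2,-2⟩,⟨-2,4,2,0,2,0,-2,0⟩],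
  [⟨4,-2,2,0,0,0,2,2⟩,⟨-2,2,-4,0,2,0,0,2⟩,⟨0,0,2,-4,-2,2,0,-2⟩,⟨2,-2,-2,2,2,-2,-2,-2⟩,⟨-2,0,-2,4,-2,0,-2,0⟩,⟨0,0,4,0,0,0,4,0⟩,⟨2,0,-2,0,2,0,-2,4⟩,⟨-2,2,-2,-2,-2,2,2,-2⟩],
  [⟨4,-2,0,0,-2,-2,2,0⟩,⟨-4,0,-2,0,2,-2,0,2⟩,⟨0,-2,2,-2,-2,4,0,0⟩,⟨2,0,-2,2,4,0,0,-2⟩,⟨-2,4,2,0,2,0,-2,0⟩,⟨4,0,0,0,-4,0,0,0⟩,⟨-2,0,-2,0,2,-4,2,0⟩,⟨-2,-2,2,-2,-2,2,-2,2⟩],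
  [⟨2,-2,0,-2,0,0,2,0⟩,⟨-2,0,-2,0,2,0,-2,0⟩,⟨0,0,2,0,-2,2,0,-2⟩,⟨2,0,0,2,2,-2,0,0⟩,⟨2,0,2,0,-2,0,-2,4⟩,⟨0,0,-4,0,0,0,4,0⟩,⟨-2,0,2,-4,2,0,-2,0⟩,⟨2,-2,-2,2,-2,2,-2,-2⟩],
  [⟨4,0,0,0,0,0,0,0⟩,⟨-2,2,-2,0,0,-2,0,0⟩,⟨0,-2,2,-2,-2,0,0,0⟩,⟨0,-2,-2,2,2,0,0,0⟩,⟨-2,0,2,0,-2,4,2,0⟩,⟨4,0,0,0,4,0,0,0⟩,⟨-2,4,-2,0,-2,0,-2,0⟩,⟨2,-2,2,-2,-2,-2,2,-2⟩],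
  [⟨2,-4,2,0,-2,0,2,0⟩,⟨-2,0,-2,2,4,0,0,2⟩,⟨0,2,2,-2,-2,4,0,0⟩,⟨4,0,-2,0,2,-2,0,-2⟩,⟨2,0,-2,0,2,-4,-2,0⟩,⟨-4,0,0,0,-4,0,0,0⟩,⟨2,-4,2,0,2,0,2,0⟩,⟨-2,2,-2,2,2,2,-2,2⟩],
  [⟨4,-2,2,2,-2,0,0,0⟩,⟨-2,2,-2,2,2,-2,2,2⟩,⟨0,0,2,-4,-2,2,0,2⟩,⟨2,-2,-4,0,2,0,0,-2⟩,⟨-2,0,-2,0,2,0,2,-4⟩,⟨0,0,4,0,0,0,-4,0⟩,⟨2,0,-2,4,-2,0,2,0⟩,⟨-2,2,2,-2,2,-2,2,2⟩],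
  [⟨2,-2,2,0,0,2,0,0⟩,⟨0,2,-2,2,2,0,0,0⟩,⟨0,2,2,-2,-2,0,0,0⟩,⟨2,-2,-2,0,0,-2,0,0⟩,⟨2,-4,-2,0,-2,0,2,0⟩,⟨-4,0,0,0,4,0,0,0⟩,⟨2,0,2,0,-2,4,-2,0⟩,⟨2,2,-2,2,2,-2,2,-2⟩],
  [⟨2,-2,0,0,-2,0,0,-2⟩,⟨-2,0,0,2,2,-2,0,0⟩,⟨0,0,2,0,-2,2,0,2⟩,⟨2,0,-2,0,2,0,2,0⟩,⟨2,0,2,-4,2,0,2,0⟩,⟨0,0,-4,0,0,0,-4,0⟩,⟨-2,0,2,0,-2,0,2,-4⟩,⟨2,-2,2,2,2,-2,-2,2⟩],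
  [⟨2,0,0,0,0,-2,2,-2⟩,⟨-2,0,0,0,0,-2,-2,2⟩,⟨0,-2,0,0,-2,2,2,0⟩,⟨0,0,0,0,4,0,0,0⟩,⟨-2,2,2,-2,-2,2,-2,2⟩,⟨4,-2,-2,0,0,0,2,-2⟩,⟨-4,2,0,0,2,-2,-2,0⟩,⟨2,-2,2,0,-4,2,0,0⟩],
  [⟨2,0,2,0,-2,0,2,0⟩,⟨0,0,-2,0,2,-2,0,2⟩,⟨-2,0,0,-2,-2,2,0,0⟩,⟨2,-2,0,0,2,0,0,-2⟩,⟨2,-2,-2,2,2,-2,2,-2⟩,⟨-4,2,2,0,0,0,-2,2⟩,⟨4,-2,0,0,-2,2,2,0⟩,⟨-2,2,-2,0,4,-2,0,0⟩],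
  [⟨4,0,2,0,-2,2,0,-2⟩,⟨0,2,-2,2,2,-4,0,0⟩,⟨-2,0,2,-2,-4,0,0,2⟩,⟨2,-4,-2,0,2,0,2,0⟩,⟨0,0,0,0,4,0,0,0⟩,⟨0,2,0,0,-2,2,-2,0⟩,⟨2,0,0,0,0,-2,2,-2⟩,⟨-2,0,0,0,0,-2,-2,2⟩],
  [⟨2,-2,2,0,0,2,0,0⟩,⟨0,2,-2,2,2,0,0,0⟩,⟨0,2,2,-2,-2,0,0,0⟩,⟨2,-2,-2,0,0,-2,0,0⟩,⟨0,0,0,0,-4,0,0,0⟩,⟨0,-2,0,0,2,-2,2,0⟩,⟨-2,0,0,0,0,2,-2,2⟩,⟨2,0,0,0,0,2,2,-2⟩],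
  [⟨4,0,0,0,0,0,4,0⟩,⟨-2,2,-2,-2,2,-2,-2,2⟩,⟨0,-2,0,-2,-4,2,0,-2⟩,⟨0,-2,0,2,4,-2,0,-2⟩,⟨0,0,4,0,0,0,0,0⟩,⟨2,0,-2,2,0,0,0,2⟩,⟨-2,2,0,-2,0,0,2,0⟩,⟨2,-2,0,-2,0,0,-2,0⟩],
  [⟨4,-2,2,0,0,0,2,-2⟩,⟨-2,2,-2,2,2,-2,-2,2⟩,⟨0,0,2,-2,-4,2,2,0⟩,⟨2,-2,-2,0,4,-2,0,0⟩,⟨0,0,-4,0,0,0,0,0⟩,⟨-2,0,2,-2,0,0,0,-2⟩,⟨2,-2,0,2,0,0,-2,0⟩,⟨-2,2,0,2,0,0,2,0⟩],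
  [⟨4,0,0,-2,-2,0,2,-2⟩,⟨-2,0,-2,0,2,-4,-2,0⟩,⟨-2,-2,2,0,-4,2,0,0⟩,⟨2,-2,0,2,4,0,2,0⟩,⟨0,2,0,2,0,2,0,2⟩,⟨2,2,0,-2,0,0,2,0⟩,⟨0,0,-2,-2,0,-2,-2,0⟩,⟨-2,-2,0,0,-2,0,0,-2⟩],
  [⟨2,-2,2,2,-2,2,2,-2⟩,⟨0,2,0,2,4,-2,0,2⟩,⟨0,2,0,-2,-4,2,0,2⟩,⟨2,-2,-2,-2,2,-2,2,-2⟩,⟨0,-2,0,-2,0,-2,0,-2⟩,⟨-2,-2,0,2,0,0,-2,0⟩,⟨0,0,2,2,0,2,2,0⟩,⟨2,2,0,0,2,0,0,2⟩],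
  [⟨2,0,2,0,-2,0,2,0⟩,⟨0,0,-2,0,2,-2,0,2⟩,⟨-2,0,0,-2,-2,2,0,0⟩,⟨2,-2,0,0,2,0,0,-2⟩,⟨0,0,4,0,0,0,0,0⟩,⟨2,0,-2,2,0,0,0,2⟩,⟨-2,2,0,-2,0,0,2,0⟩,⟨2,-2,0,-2,0,0,-2,0⟩],
  [⟨2,-2,4,0,-2,0,0,-2⟩,⟨0,0,-2,4,2,-2,0,2⟩,⟨-2,2,2,-2,-2,2,2,2⟩,⟨4,-2,-2,-2,2,0,0,0⟩,⟨0,0,-4,0,0,0,0,0⟩,⟨-2,0,2,-2,0,0,0,-2⟩,⟨2,-2,0,2,0,0,-2,0⟩,⟨-2,2,0,2,0,0,2,0⟩],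
  [⟨4,0,0,2,-2,0,2,-2⟩,⟨-2,2,0,0,2,-4,0,2⟩,⟨0,-2,0,-2,-4,2,0,2⟩,⟨0,-2,-2,0,4,0,2,-2⟩,⟨0,0,0,0,4,0,0,0⟩,⟨0,2,0,0,-2,2,-2,0⟩,⟨2,0,0,0,0,-2,2,-2⟩,⟨-2,0,0,0,0,-2,-2,2⟩],
  [⟨2,-2,0,2,0,0,2,0⟩,⟨-2,2,0,0,2,0,0,2⟩,⟨2,0,0,-2,-2,2,0,0⟩,⟨0,0,-2,0,2,-2,0,-2⟩,⟨0,0,0,0,-4,0,0,0⟩,⟨0,-2,0,0,2,-2,2,0⟩,⟨-2,0,0,0,0,2,-2,2⟩,⟨2,0,0,0,0,2,2,-2⟩]]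

/-- Part 4 of the table of stage 1. -/
def ker1_4 : List (List Ico) := [
  [⟨2,-2,2,0,0,-2,0,0⟩,⟨-2,0,-2,2,0,0,0,2⟩,⟨0,0,2,-2,0,2,2,0⟩,⟨2,0,-2,0,2,0,-2,0⟩,⟨0,0,0,0,0,0,-4,0⟩,⟨0,0,0,2,-2,0,2,-2⟩,⟨0,0,2,0,2,-2,0,2⟩,⟨0,0,-2,0,-2,2,0,2⟩],
  [⟨2,-2,0,-2,0,0,-2,0⟩,⟨-2,0,-2,2,0,0,0,-2⟩,⟨0,0,4,0,0,0,0,0⟩,⟨2,0,-2,2,0,0,0,2⟩,⟨0,0,0,0,0,0,4,0⟩,⟨0,0,0,-2,2,0,-2,2⟩,⟨0,0,-2,0,-2,2,0,-2⟩,⟨0,0,2,0,2,-2,0,-2⟩],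
  [⟨4,0,0,-2,2,0,2,-2⟩,⟨-2,2,-2,0,0,-2,-4,0⟩,⟨0,-2,2,0,-4,0,2,-2⟩,⟨0,-2,0,2,4,-2,0,2⟩,⟨-2,0,2,0,2,0,-2,4⟩,⟨2,0,-2,0,-2,4,2,0⟩,⟨0,2,0,-2,4,-2,0,-2⟩,⟨0,0,0,0,-4,0,-4,0⟩],
  [⟨4,0,2,-2,0,-2,2,0⟩,⟨-2,0,-4,0,0,-2,-2,2⟩,⟨-2,-2,2,-2,-2,2,2,-2⟩,⟨2,-2,0,2,4,0,-2,0⟩,⟨2,0,-2,4,2,0,-2,0⟩,⟨-2,4,2,0,-2,0,2,0⟩,⟨4,-2,0,-2,0,-2,0,2⟩,⟨-4,0,-4,0,0,0,0,0⟩],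
  [⟨2,0,2,0,2,0,2,0⟩,⟨0,2,-2,0,0,0,-2,2⟩,⟨0,0,0,-2,-2,0,2,-2⟩,⟨0,-2,0,0,2,-2,-2,0⟩,⟨2,-4,2,0,-2,0,-2,0⟩,⟨-2,0,-2,4,2,0,2,0⟩,⟨0,2,4,-2,0,2,0,2⟩,⟨4,0,-4,0,0,0,0,0⟩],
  [⟨4,0,2,0,2,-2,0,-2⟩,⟨-2,2,-2,2,-2,-2,-2,2⟩,⟨0,-2,2,-2,-2,0,4,0⟩,⟨0,-2,-2,0,4,0,-2,2⟩,⟨-2,0,-2,0,-2,4,-2,0⟩,⟨2,0,2,0,2,0,2,-4⟩,⟨0,2,0,2,0,-2,-4,2⟩,⟨0,0,0,0,-4,0,4,0⟩],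
  [⟨2,-2,0,-2,0,0,2,0⟩,⟨-2,0,-2,0,2,0,-2,0⟩,⟨0,0,2,0,-2,2,0,-2⟩,⟨2,0,0,2,2,-2,0,0⟩,⟨2,0,2,0,2,-4,2,0⟩,⟨-2,0,-2,0,-2,0,-2,4⟩,⟨0,-2,0,-2,0,2,4,-2⟩,⟨0,0,0,0,4,0,-4,0⟩],
  [⟨4,-2,0,-2,0,-2,0,-2⟩,⟨-4,0,-2,2,0,-2,-2,0⟩,⟨0,-2,4,0,-2,2,2,0⟩,⟨2,0,-2,2,4,0,0,2⟩,⟨-2,4,-2,0,2,0,2,0⟩,⟨2,0,2,-4,-2,0,-2,0⟩,⟨0,-2,-4,2,0,-2,0,-2⟩,⟨-4,0,4,0,0,0,0,0⟩],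
  [⟨2,-2,0,0,2,0,0,-2⟩,⟨-2,2,0,2,0,0,-2,0⟩,⟨2,0,2,0,-2,0,2,0⟩,⟨0,0,-2,0,2,-2,0,2⟩,⟨-2,0,2,-4,-2,0,2,0⟩,⟨2,-4,-2,0,2,0,-2,0⟩,⟨-4,2,0,2,0,2,0,-2⟩,⟨4,0,4,0,0,0,0,0⟩],
  [⟨2,-2,2,0,0,-2,0,0⟩,⟨-2,0,-2,2,0,0,0,2⟩,⟨0,0,2,-2,0,2,2,0⟩,⟨2,0,-2,0,2,0,-2,0⟩,⟨2,0,-2,0,-2,0,2,-4⟩,⟨-2,0,2,0,2,-4,-2,0⟩,⟨0,-2,0,2,-4,2,0,2⟩,⟨0,0,0,0,4,0,4,0⟩],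
  [⟨2,0,2,-2,0,0,0,-2⟩,⟨0,0,-2,2,0,-2,-2,0⟩,⟨-2,0,2,0,-2,0,2,0⟩,⟨2,-2,0,0,2,0,0,2⟩,⟨2,-2,-2,2,-2,2,-2,2⟩,⟨-2,2,0,0,2,0,4,-2⟩,⟨2,0,2,-2,0,0,-4,2⟩,⟨0,0,-4,2,-2,0,2,-2⟩],
  [⟨2,-2,0,0,-2,0,0,-2⟩,⟨-2,0,0,2,2,-2,0,0⟩,⟨0,0,2,0,-2,2,0,2⟩,⟨2,0,-2,0,2,0,2,0⟩,⟨-2,2,2,-2,2,-2,2,-2⟩,⟨2,-2,0,0,-2,0,-4,2⟩,⟨-2,0,-2,2,0,0,4,-2⟩,⟨0,0,4,-2,2,0,-2,2⟩],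
  [⟨2,-2,0,-2,0,0,2,0⟩,⟨-2,0,-2,0,2,0,-2,0⟩,⟨0,0,2,0,-2,2,0,-2⟩,⟨2,0,0,2,2,-2,0,0⟩,⟨-2,2,-2,2,2,-2,-2,2⟩,⟨0,0,2,-2,-4,2,2,0⟩,⟨2,-2,-2,0,4,-2,0,0⟩,⟨-4,2,0,0,-2,2,-2,0⟩],
  [⟨0,0,0,0,0,0,0,0⟩,⟨0,0,0,0,0,0,0,0⟩,⟨0,0,0,0,0,0,0,0⟩,⟨0,0,0,0,0,0,0,0⟩,⟨2,-2,2,-2,-2,2,2,-2⟩,⟨0,0,-2,2,4,-2,-2,0⟩,⟨-2,2,2,0,-4,2,0,0⟩,⟨4,-2,0,0,2,-2,2,0⟩],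
  [⟨2,-2,0,2,0,0,2,0⟩,⟨-2,2,0,0,2,0,0,2⟩,⟨2,0,0,-2,-2,2,0,0⟩,⟨0,0,-2,0,2,-2,0,-2⟩,⟨-2,0,2,0,2,-4,-2,0⟩,⟨0,-2,0,2,-4,2,0,2⟩,⟨0,0,0,0,4,0,4,0⟩,⟨0,2,0,-2,0,2,-4,2⟩],
  [⟨4,0,0,0,0,0,0,0⟩,⟨-2,2,-2,0,0,-2,0,0⟩,⟨0,-2,2,-2,-2,0,0,0⟩,⟨0,-2,-2,2,2,0,0,0⟩,⟨-2,0,-2,4,2,0,2,0⟩,⟨0,2,4,-2,0,2,0,2⟩,⟨4,0,-4,0,0,0,0,0⟩,⟨-4,2,0,-2,0,-2,0,-2⟩],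
  [⟨2,-2,0,0,2,0,0,-2⟩,⟨-2,2,0,2,0,0,-2,0⟩,⟨2,0,2,0,-2,0,2,0⟩,⟨0,0,-2,0,2,-2,0,2⟩,⟨-2,0,-2,0,-2,0,-2,4⟩,⟨0,-2,0,-2,0,2,4,-2⟩,⟨0,0,0,0,4,0,-4,0⟩,⟨0,2,0,2,-4,2,0,-2⟩],
  [⟨2,0,2,2,0,0,0,-2⟩,⟨0,2,0,2,0,-2,0,2⟩,⟨0,0,0,-2,-2,0,2,2⟩,⟨0,-2,-2,-2,2,0,0,0⟩,⟨2,-4,-2,0,2,0,-2,0⟩,⟨-4,2,0,2,0,2,0,-2⟩,⟨4,0,4,0,0,0,0,0⟩,⟨0,2,-4,2,0,-2,0,2⟩],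
  [⟨2,-2,-2,0,0,-2,0,0⟩,⟨-4,0,0,0,0,0,0,0⟩,⟨2,-2,2,0,0,2,0,0⟩,⟨0,2,-2,2,2,0,0,0⟩,⟨-2,4,2,0,-2,0,2,0⟩,⟨4,-2,0,-2,0,-2,0,2⟩,⟨-4,0,-4,0,0,0,0,0⟩,⟨0,-2,4,-2,0,2,0,-2⟩],
  [⟨2,0,0,2,-2,-2,0,0⟩,⟨-2,0,0,0,0,-2,2,2⟩,⟨0,-2,0,-2,0,2,0,2⟩,⟨0,0,-2,0,2,2,0,-2⟩,⟨2,0,2,0,2,0,2,-4⟩,⟨0,2,0,2,0,-2,-4,2⟩,⟨0,0,0,0,-4,0,4,0⟩,⟨0,-2,0,-2,4,-2,0,2⟩],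
  [⟨0,-2,0,2,0,-2,0,-2⟩,⟨-2,0,2,2,0,0,0,2⟩,⟨2,0,0,0,0,2,2,2⟩,⟨0,2,-2,-2,2,0,0,0⟩,⟨2,0,2,-4,-2,0,-2,0⟩,⟨0,-2,-4,2,0,-2,0,-2⟩,⟨-4,0,4,0,0,0,0,0⟩,⟨4,-2,0,2,0,2,0,2⟩]]

/-- Part 5 of the table of stage 1. -/
def ker1_5 : List (List Ico) := [
  [⟨2,0,0,0,0,-2,-2,-2⟩,⟨-2,0,0,2,-2,-2,0,0⟩,⟨0,-2,2,0,0,0,2,2⟩,⟨0,0,-2,0,2,2,0,2⟩,⟨2,0,-2,0,-2,4,2,0⟩,⟨0,2,0,-2,4,-2,0,-2⟩,⟨0,0,0,0,-4,0,-4,0⟩,⟨0,-2,0,2,0,-2,4,-2⟩],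
  [⟨4,-2,2,0,0,0,2,-2⟩,⟨-2,2,-2,2,2,-2,-2,2⟩,⟨0,0,2,-2,-4,2,2,0⟩,⟨2,-2,-2,0,4,-2,0,0⟩,⟨0,0,0,0,0,0,-4,0⟩,⟨0,0,0,2,-2,0,2,-2⟩,⟨0,0,2,0,2,-2,0,2⟩,⟨0,0,-2,0,-2,2,0,2⟩],
  [⟨4,-2,0,-2,0,2,0,-2⟩,⟨-2,2,-2,2,2,-2,-2,-2⟩,⟨0,0,4,0,-4,0,0,0⟩,⟨2,-2,-2,2,2,-2,2,2⟩,⟨0,0,0,0,0,0,4,0⟩,⟨0,0,0,-2,2,0,-2,2⟩,⟨0,0,-2,0,-2,2,0,-2⟩,⟨0,0,2,0,2,-2,0,-2⟩],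
  [⟨4,0,4,0,0,0,0,0⟩,⟨0,2,-4,2,0,-2,0,2⟩,⟨-2,0,2,-4,-2,0,2,0⟩,⟨2,-4,-2,0,2,0,-2,0⟩,⟨0,-2,0,2,0,2,0,-2⟩,⟨0,2,2,2,2,0,0,0⟩,⟨2,2,0,0,-2,0,0,2⟩,⟨0,0,-2,-2,0,-2,2,0⟩],
  [⟨2,-4,2,-2,0,0,0,-2⟩,⟨-2,0,-2,4,2,0,-2,0⟩,⟨0,2,4,0,-2,2,2,0⟩,⟨4,0,-2,0,2,-2,0,2⟩,⟨0,2,0,-2,0,-2,0,2⟩,⟨0,-2,-2,-2,-2,0,0,0⟩,⟨-2,-2,0,0,2,0,0,-2⟩,⟨0,0,2,2,0,2,-2,0⟩],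
  [⟨2,0,4,0,0,-2,2,-2⟩,⟨0,0,-2,2,0,-2,-2,4⟩,⟨-2,0,0,-2,-2,2,4,0⟩,⟨2,-2,0,-2,4,0,-2,0⟩,⟨0,0,0,0,0,0,-4,0⟩,⟨0,0,0,2,-2,0,2,-2⟩,⟨0,0,2,0,2,-2,0,2⟩,⟨0,0,-2,0,-2,2,0,2⟩],
  [⟨2,0,2,-2,0,0,0,-2⟩,⟨0,0,-2,2,0,-2,-2,0⟩,⟨-2,0,2,0,-2,0,2,0⟩,⟨2,-2,0,0,2,0,0,2⟩,⟨0,0,0,0,0,0,4,0⟩,⟨0,0,0,-2,2,0,-2,2⟩,⟨0,0,-2,0,-2,2,0,-2⟩,⟨0,0,2,0,2,-2,0,-2⟩],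
  [⟨4,-2,0,0,2,2,2,0⟩,⟨-2,4,-2,0,2,0,-2,0⟩,⟨2,0,2,-2,-4,0,0,-2⟩,⟨0,-2,-2,2,2,-4,0,0⟩,⟨0,-2,0,2,0,-2,0,2⟩,⟨-2,0,0,0,0,2,2,2⟩,⟨2,0,0,-2,2,2,0,0⟩,⟨0,2,-2,0,0,0,-2,-2⟩],
  [⟨4,-2,0,2,0,-2,0,-2⟩,⟨-4,2,0,2,0,-2,0,2⟩,⟨2,-2,2,-2,-2,2,2,2⟩,⟨0,0,-4,0,4,0,0,0⟩,⟨0,2,0,-2,0,2,0,-2⟩,⟨2,0,0,0,0,-2,-2,-2⟩,⟨-2,0,0,2,-2,-2,0,0⟩,⟨0,-2,2,0,0,0,2,2⟩],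
  [⟨4,-2,2,0,0,0,2,-2⟩,⟨-2,2,-2,2,2,-2,-2,2⟩,⟨0,0,2,-2,-4,2,2,0⟩,⟨2,-2,-2,0,4,-2,0,0⟩,⟨-4,0,0,0,0,0,0,0⟩,⟨2,-2,2,0,0,2,0,0⟩,⟨0,2,-2,2,2,0,0,0⟩,⟨0,2,2,-2,-2,0,0,0⟩],
  [⟨2,-2,2,-2,-2,-2,2,-2⟩,⟨-2,-2,-2,2,2,-2,-2,2⟩,⟨-2,0,2,0,-2,4,2,0⟩,⟨4,0,0,0,4,0,0,0⟩,⟨4,0,0,0,0,0,0,0⟩,⟨-2,2,-2,0,0,-2,0,0⟩,⟨0,-2,2,-2,-2,0,0,0⟩,⟨0,-2,-2,2,2,0,0,0⟩],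
  [⟨4,-2,0,2,0,2,0,-2⟩,⟨-2,4,0,2,2,-2,0,0⟩,⟨2,0,2,-2,-4,0,0,2⟩,⟨0,-2,-4,0,2,-2,2,0⟩,⟨-4,0,0,0,0,0,0,0⟩,⟨2,-2,2,0,0,2,0,0⟩,⟨0,2,-2,2,2,0,0,0⟩,⟨0,2,2,-2,-2,0,0,0⟩],
  [⟨2,-2,0,0,-2,0,0,-2⟩,⟨-2,0,0,2,2,-2,0,0⟩,⟨0,0,2,0,-2,2,0,2⟩,⟨2,0,-2,0,2,0,2,0⟩,⟨4,0,0,0,0,0,0,0⟩,⟨-2,2,-2,0,0,-2,0,0⟩,⟨0,-2,2,-2,-2,0,0,0⟩,⟨0,-2,-2,2,2,0,0,0⟩],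
  [⟨2,0,0,0,0,2,2,-2⟩,⟨0,2,0,0,2,-2,-2,0⟩,⟨0,0,0,0,-4,0,0,0⟩,⟨0,-2,0,0,2,-2,2,0⟩,⟨-4,0,0,0,0,0,0,0⟩,⟨2,-2,2,0,0,2,0,0⟩,⟨0,2,-2,2,2,0,0,0⟩,⟨0,2,2,-2,-2,0,0,0⟩],
  [⟨0,0,0,-2,-2,0,2,-2⟩,⟨0,-2,0,0,2,-2,-2,0⟩,⟨-2,0,0,2,-2,2,0,0⟩,⟨2,0,2,0,2,0,2,0⟩,⟨4,0,0,0,0,0,0,0⟩,⟨-2,2,-2,0,0,-2,0,0⟩,⟨0,-2,2,-2,-2,0,0,0⟩,⟨0,-2,-2,2,2,0,0,0⟩],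
  [⟨4,0,0,2,2,0,2,-2⟩,⟨-2,4,0,0,0,-2,-2,2⟩,⟨2,-2,0,-2,-4,0,2,0⟩,⟨-2,-2,-2,0,4,-2,0,0⟩,⟨-4,0,0,0,0,0,0,0⟩,⟨2,-2,2,0,0,2,0,0⟩,⟨0,2,-2,2,2,0,0,0⟩,⟨0,2,2,-2,-2,0,0,0⟩],
  [⟨2,0,0,0,0,-2,2,-2⟩,⟨-2,0,0,0,0,-2,-2,2⟩,⟨0,-2,0,0,-2,2,2,0⟩,⟨0,0,0,0,4,0,0,0⟩,⟨4,0,0,0,0,0,0,0⟩,⟨-2,2,-2,0,0,-2,0,0⟩,⟨0,-2,2,-2,-2,0,0,0⟩,⟨0,-2,-2,2,2,0,0,0⟩],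
  [⟨2,-2,2,0,0,2,0,0⟩,⟨0,2,-2,2,2,0,0,0⟩,⟨0,2,2,-2,-2,0,0,0⟩,⟨2,-2,-2,0,0,-2,0,0⟩,⟨-4,0,0,0,0,0,0,0⟩,⟨2,-2,2,0,0,2,0,0⟩,⟨0,2,-2,2,2,0,0,0⟩,⟨0,2,2,-2,-2,0,0,0⟩],
  [⟨0,-2,2,-2,-2,0,0,0⟩,⟨0,-2,-2,2,2,0,0,0⟩,⟨-2,2,2,0,0,2,0,0⟩,⟨4,0,0,0,0,0,0,0⟩,⟨4,0,0,0,0,0,0,0⟩,⟨-2,2,-2,0,0,-2,0,0⟩,⟨0,-2,2,-2,-2,0,0,0⟩,⟨0,-2,-2,2,2,0,0,0⟩],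
  [⟨4,-2,2,2,2,0,0,0⟩,⟨-2,4,-2,2,0,0,0,2⟩,⟨2,0,2,-4,-2,0,2,0⟩,⟨0,-2,-4,0,2,-2,-2,0⟩,⟨-4,0,0,0,0,0,0,0⟩,⟨2,-2,2,0,0,2,0,0⟩,⟨0,2,-2,2,2,0,0,0⟩,⟨0,2,2,-2,-2,0,0,0⟩],
  [⟨2,-2,2,0,0,-2,0,0⟩,⟨-2,0,-2,2,0,0,0,2⟩,⟨0,0,2,-2,0,2,2,0⟩,⟨2,0,-2,0,2,0,-2,0⟩,⟨4,0,0,0,0,0,0,0⟩,⟨-2,2,-2,0,0,-2,0,0⟩,⟨0,-2,2,-2,-2,0,0,0⟩,⟨0,-2,-2,2,2,0,0,0⟩]]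

/-- Part 6 of the table of stage 1. -/
def ker1_6 : List (List Ico) := [
  [⟨2,0,2,0,2,0,2,0⟩,⟨0,2,-2,0,0,0,-2,2⟩,⟨0,0,0,-2,-2,0,2,-2⟩,⟨0,-2,0,0,2,-2,-2,0⟩,⟨-4,0,0,0,0,0,0,0⟩,⟨2,-2,2,0,0,2,0,0⟩,⟨0,2,-2,2,2,0,0,0⟩,⟨0,2,2,-2,-2,0,0,0⟩],
  [⟨0,0,2,-2,0,-2,2,0⟩,⟨0,-2,-2,0,0,0,-2,2⟩,⟨-2,0,0,0,0,2,2,-2⟩,⟨2,0,2,0,2,0,-2,0⟩,⟨4,0,0,0,0,0,0,0⟩,⟨-2,2,-2,0,0,-2,0,0⟩,⟨0,-2,2,-2,-2,0,0,0⟩,⟨0,-2,-2,2,2,0,0,0⟩],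
  [⟨2,0,0,2,2,2,0,0⟩,⟨0,4,0,0,0,0,0,0⟩,⟨2,0,0,-2,-2,-2,0,0⟩,⟨-2,-2,-2,0,0,-2,0,0⟩,⟨-4,0,0,0,0,0,0,0⟩,⟨2,-2,2,0,0,2,0,0⟩,⟨0,2,-2,2,2,0,0,0⟩,⟨0,2,2,-2,-2,0,0,0⟩],
  [⟨0,0,0,0,0,0,0,0⟩,⟨0,0,0,0,0,0,0,0⟩,⟨0,0,0,0,0,0,0,0⟩,⟨0,0,0,0,0,0,0,0⟩,⟨4,0,0,0,0,0,0,0⟩,⟨-2,2,-2,0,0,-2,0,0⟩,⟨0,-2,2,-2,-2,0,0,0⟩,⟨0,-2,-2,2,2,0,0,0⟩],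
  [⟨0,0,2,-2,0,2,2,0⟩,⟨2,0,-2,0,2,0,-2,0⟩,⟨-2,2,0,0,-2,0,0,-2⟩,⟨2,-2,2,0,0,-2,0,0⟩,⟨0,-2,0,2,0,-2,0,2⟩,⟨-2,0,0,0,0,2,2,2⟩,⟨2,0,0,-2,2,2,0,0⟩,⟨0,2,-2,0,0,0,-2,-2⟩],
  [⟨0,0,2,0,-2,-2,0,-2⟩,⟨0,-2,0,2,0,-2,0,2⟩,⟨-2,0,0,0,0,2,2,2⟩,⟨2,0,0,-2,2,2,0,0⟩,⟨0,2,0,-2,0,2,0,-2⟩,⟨2,0,0,0,0,-2,-2,-2⟩,⟨-2,0,0,2,-2,-2,0,0⟩,⟨0,-2,2,0,0,0,2,2⟩],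
  [⟨2,-2,0,2,0,0,2,0⟩,⟨-2,2,0,0,2,0,0,2⟩,⟨2,0,0,-2,-2,2,0,0⟩,⟨0,0,-2,0,2,-2,0,-2⟩,⟨0,0,0,0,0,0,-4,0⟩,⟨0,0,0,2,-2,0,2,-2⟩,⟨0,0,2,0,2,-2,0,2⟩,⟨0,0,-2,0,-2,2,0,2⟩],
  [⟨2,-2,-2,0,0,2,0,0⟩,⟨-2,2,0,0,2,0,0,-2⟩,⟨2,0,2,0,-2,0,-2,0⟩,⟨0,0,-2,2,0,-2,2,0⟩,⟨0,0,0,0,0,0,4,0⟩,⟨0,0,0,-2,2,0,-2,2⟩,⟨0,0,-2,0,-2,2,0,-2⟩,⟨0,0,2,0,2,-2,0,-2⟩],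
  [⟨2,2,0,2,0,0,2,0⟩,⟨0,2,0,-2,0,-2,0,2⟩,⟨0,-2,-2,-2,-2,0,0,0⟩,⟨-2,-2,0,0,2,0,0,-2⟩,⟨0,-2,0,2,0,2,0,-2⟩,⟨0,2,2,2,2,0,0,0⟩,⟨2,2,0,0,-2,0,0,2⟩,⟨0,0,-2,-2,0,-2,2,0⟩],
  [⟨0,-2,-2,0,0,0,2,-2⟩,⟨-2,0,2,0,2,0,-2,0⟩,⟨2,0,0,2,-2,2,0,0⟩,⟨0,2,0,0,2,-2,2,0⟩,⟨0,2,0,-2,0,-2,0,2⟩,⟨0,-2,-2,-2,-2,0,0,0⟩,⟨-2,-2,0,0,2,0,0,-2⟩,⟨0,0,2,2,0,2,-2,0⟩],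
  [⟨0,0,2,2,0,-2,2,0⟩,⟨0,0,0,0,0,0,0,4⟩,⟨0,0,-2,-2,0,2,2,0⟩,⟨0,0,0,-2,2,0,-2,-2⟩,⟨0,0,0,0,0,0,-4,0⟩,⟨0,0,0,2,-2,0,2,-2⟩,⟨0,0,2,0,2,-2,0,2⟩,⟨0,0,-2,0,-2,2,0,2⟩],
  [⟨0,0,0,0,0,0,0,0⟩,⟨0,0,0,0,0,0,0,0⟩,⟨0,0,0,0,0,0,0,0⟩,⟨0,0,0,0,0,0,0,0⟩,⟨0,0,0,0,0,0,4,0⟩,⟨0,0,0,-2,2,0,-2,2⟩,⟨0,0,-2,0,-2,2,0,-2⟩,⟨0,0,2,0,2,-2,0,-2⟩],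
  [⟨2,-2,2,0,0,2,4,0⟩,⟨0,2,-2,0,4,0,-2,2⟩,⟨0,2,0,-2,-4,2,0,-2⟩,⟨2,-2,0,0,2,-4,0,-2⟩,⟨-2,0,2,0,2,-4,-2,0⟩,⟨0,-2,0,2,-4,2,0,2⟩,⟨0,0,0,0,4,0,4,0⟩,⟨0,2,0,-2,0,2,-4,2⟩],
  [⟨4,0,2,-2,0,2,2,0⟩,⟨0,2,-4,0,2,-2,-2,0⟩,⟨-2,0,2,-2,-4,0,0,-2⟩,⟨2,-4,0,2,2,-2,0,0⟩,⟨-2,0,-2,4,2,0,2,0⟩,⟨0,2,4,-2,0,2,0,2⟩,⟨4,0,-4,0,0,0,0,0⟩,⟨-4,2,0,-2,0,-2,0,-2⟩],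
  [⟨2,-2,2,-2,2,2,2,-2⟩,⟨0,2,-2,2,2,0,-4,0⟩,⟨0,2,2,0,-4,0,2,-2⟩,⟨2,-2,0,0,2,-4,0,2⟩,⟨-2,0,-2,0,-2,0,-2,4⟩,⟨0,-2,0,-2,0,2,4,-2⟩,⟨0,0,0,0,4,0,-4,0⟩,⟨0,2,0,2,-4,2,0,-2⟩],
  [⟨2,0,4,0,0,2,2,-2⟩,⟨2,2,-2,2,2,-2,-2,2⟩,⟨-2,2,0,-2,-4,0,2,0⟩,⟨2,-4,0,-2,2,-2,0,0⟩,⟨2,-4,-2,0,2,0,-2,0⟩,⟨-4,2,0,2,0,2,0,-2⟩,⟨4,0,4,0,0,0,0,0⟩,⟨0,2,-4,2,0,-2,0,2⟩],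
  [⟨2,-2,0,-2,0,0,2,0⟩,⟨-2,0,-2,0,2,0,-2,0⟩,⟨0,0,2,0,-2,2,0,-2⟩,⟨2,0,0,2,2,-2,0,0⟩,⟨-2,4,2,0,-2,0,2,0⟩,⟨4,-2,0,-2,0,-2,0,2⟩,⟨-4,0,-4,0,0,0,0,0⟩,⟨0,-2,4,-2,0,2,0,-2⟩],
  [⟨2,0,2,0,-2,0,2,0⟩,⟨0,0,-2,0,2,-2,0,2⟩,⟨-2,0,0,-2,-2,2,0,0⟩,⟨2,-2,0,0,2,0,0,-2⟩,⟨2,0,2,0,2,0,2,-4⟩,⟨0,2,0,2,0,-2,-4,2⟩,⟨0,0,0,0,-4,0,4,0⟩,⟨0,-2,0,-2,4,-2,0,2⟩],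
  [⟨0,-2,2,0,0,0,2,-2⟩,⟨0,0,0,2,2,0,-2,2⟩,⟨0,2,0,0,-2,2,2,0⟩,⟨2,0,0,-2,2,-2,0,0⟩,⟨2,0,2,-4,-2,0,-2,0⟩,⟨0,-2,-4,2,0,-2,0,-2⟩,⟨-4,0,4,0,0,0,0,0⟩,⟨4,-2,0,2,0,2,0,2⟩],
  [⟨2,0,2,-2,0,0,0,-2⟩,⟨0,0,-2,2,0,-2,-2,0⟩,⟨-2,0,2,0,-2,0,2,0⟩,⟨2,-2,0,0,2,0,0,2⟩,⟨2,0,-2,0,-2,4,2,0⟩,⟨0,2,0,-2,4,-2,0,-2⟩,⟨0,0,0,0,-4,0,-4,0⟩,⟨0,-2,0,2,0,-2,4,-2⟩],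
  [⟨4,-2,2,0,0,0,2,-2⟩,⟨-2,2,-2,2,2,-2,-2,2⟩,⟨0,0,2,-2,-4,2,2,0⟩,⟨2,-2,-2,0,4,-2,0,0⟩,⟨-2,2,-2,2,2,-2,-2,2⟩,⟨0,0,2,-2,-4,2,2,0⟩,⟨2,-2,-2,0,4,-2,0,0⟩,⟨-4,2,0,0,-2,2,-2,0⟩]]

/-- Part 7 of the table of stage 1. -/
def ker1_7 : List (List Ico) := [
  [⟨2,0,2,2,0,0,0,-2⟩,⟨0,2,0,2,0,-2,0,2⟩,⟨0,0,0,-2,-2,0,2,2⟩,⟨0,-2,-2,-2,2,0,0,0⟩,⟨2,-2,2,-2,-2,2,2,-2⟩,⟨0,0,-2,2,4,-2,-2,0⟩,⟨-2,2,2,0,-4,2,0,0⟩,⟨4,-2,0,0,2,-2,2,0⟩],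
  [⟨2,0,2,0,2,0,2,0⟩,⟨0,2,-2,0,0,0,-2,2⟩,⟨0,0,0,-2,-2,0,2,-2⟩,⟨0,-2,0,0,2,-2,-2,0⟩,⟨2,-2,-2,2,-2,2,-2,2⟩,⟨-2,2,0,0,2,0,4,-2⟩,⟨2,0,2,-2,0,0,-4,2⟩,⟨0,0,-4,2,-2,0,2,-2⟩],
  [⟨2,-2,0,2,0,0,2,0⟩,⟨-2,2,0,0,2,0,0,2⟩,⟨2,0,0,-2,-2,2,0,0⟩,⟨0,0,-2,0,2,-2,0,-2⟩,⟨-2,2,2,-2,2,-2,2,-2⟩,⟨2,-2,0,0,-2,0,-4,2⟩,⟨-2,0,-2,2,0,0,4,-2⟩,⟨0,0,4,-2,2,0,-2,2⟩],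
  [⟨2,0,0,0,0,2,2,-2⟩,⟨0,2,0,0,2,-2,-2,0⟩,⟨0,0,0,0,-4,0,0,0⟩,⟨0,-2,0,0,2,-2,2,0⟩,⟨-2,0,2,0,2,0,-2,4⟩,⟨2,0,-2,0,-2,4,2,0⟩,⟨0,2,0,-2,4,-2,0,-2⟩,⟨0,0,0,0,-4,0,-4,0⟩],
  [⟨2,0,2,0,-2,0,2,0⟩,⟨0,0,-2,0,2,-2,0,2⟩,⟨-2,0,0,-2,-2,2,0,0⟩,⟨2,-2,0,0,2,0,0,-2⟩,⟨2,0,-2,4,2,0,-2,0⟩,⟨-2,4,2,0,-2,0,2,0⟩,⟨4,-2,0,-2,0,-2,0,2⟩,⟨-4,0,-4,0,0,0,0,0⟩],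
  [⟨0,0,2,2,0,2,2,0⟩,⟨2,2,0,0,2,0,0,2⟩,⟨0,2,-2,-2,-2,0,0,0⟩,⟨0,-2,0,-2,0,-2,0,-2⟩,⟨2,-4,2,0,-2,0,-2,0⟩,⟨-2,0,-2,4,2,0,2,0⟩,⟨0,2,4,-2,0,2,0,2⟩,⟨4,0,-4,0,0,0,0,0⟩],
  [⟨2,0,2,2,0,0,0,-2⟩,⟨0,2,0,2,0,-2,0,2⟩,⟨0,0,0,-2,-2,0,2,2⟩,⟨0,-2,-2,-2,2,0,0,0⟩,⟨-2,0,-2,0,-2,4,-2,0⟩,⟨2,0,2,0,2,0,2,-4⟩,⟨0,2,0,2,0,-2,-4,2⟩,⟨0,0,0,0,-4,0,4,0⟩],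
  [⟨0,-2,0,0,-2,2,2,0⟩,⟨0,0,0,0,4,0,0,0⟩,⟨0,2,0,0,-2,2,-2,0⟩,⟨2,0,0,0,0,-2,2,-2⟩,⟨2,0,2,0,2,-4,2,0⟩,⟨-2,0,-2,0,-2,0,-2,4⟩,⟨0,-2,0,-2,0,2,4,-2⟩,⟨0,0,0,0,4,0,-4,0⟩],
  [⟨2,-2,0,0,-2,0,0,-2⟩,⟨-2,0,0,2,2,-2,0,0⟩,⟨0,0,2,0,-2,2,0,2⟩,⟨2,0,-2,0,2,0,2,0⟩,⟨-2,4,-2,0,2,0,2,0⟩,⟨2,0,2,-4,-2,0,-2,0⟩,⟨0,-2,-4,2,0,-2,0,-2⟩,⟨-4,0,4,0,0,0,0,0⟩],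
  [⟨0,-2,0,2,0,2,0,-2⟩,⟨0,2,2,2,2,0,0,0⟩,⟨2,2,0,0,-2,0,0,2⟩,⟨0,0,-2,-2,0,-2,2,0⟩,⟨-2,0,2,-4,-2,0,2,0⟩,⟨2,-4,-2,0,2,0,-2,0⟩,⟨-4,2,0,2,0,2,0,-2⟩,⟨4,0,4,0,0,0,0,0⟩],
  [⟨0,-2,2,2,-2,0,0,0⟩,⟨0,0,0,2,2,0,2,2⟩,⟨0,2,0,-2,0,2,0,2⟩,⟨2,0,-2,-2,0,0,0,-2⟩,⟨2,0,-2,0,-2,0,2,-4⟩,⟨-2,0,2,0,2,-4,-2,0⟩,⟨0,-2,0,2,-4,2,0,2⟩,⟨0,0,0,0,4,0,4,0⟩],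
  [⟨2,0,2,2,0,0,4,-2⟩,⟨0,2,0,0,2,-2,-2,4⟩,⟨0,0,-2,-2,-4,2,2,0⟩,⟨0,-2,0,-2,4,-2,0,-2⟩,⟨0,0,0,0,0,0,-4,0⟩,⟨0,0,0,2,-2,0,2,-2⟩,⟨0,0,2,0,2,-2,0,2⟩,⟨0,0,-2,0,-2,2,0,2⟩],
  [⟨2,0,0,0,0,2,2,-2⟩,⟨0,2,0,0,2,-2,-2,0⟩,⟨0,0,0,0,-4,0,0,0⟩,⟨0,-2,0,0,2,-2,2,0⟩,⟨0,0,0,0,0,0,4,0⟩,⟨0,0,0,-2,2,0,-2,2⟩,⟨0,0,-2,0,-2,2,0,-2⟩,⟨0,0,2,0,2,-2,0,-2⟩],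
  [⟨2,0,2,-2,0,0,0,-2⟩,⟨0,0,-2,2,0,-2,-2,0⟩,⟨-2,0,2,0,-2,0,2,0⟩,⟨2,-2,0,0,2,0,0,2⟩,⟨0,0,0,0,4,0,0,0⟩,⟨0,2,0,0,-2,2,-2,0⟩,⟨2,0,0,0,0,-2,2,-2⟩,⟨-2,0,0,0,0,-2,-2,2⟩],
  [⟨0,-2,2,-2,2,0,0,0⟩,⟨0,0,-2,2,0,2,-2,0⟩,⟨0,2,2,0,0,0,2,-2⟩,⟨2,0,0,0,0,-2,-2,2⟩,⟨0,0,0,0,-4,0,0,0⟩,⟨0,-2,0,0,2,-2,2,0⟩,⟨-2,0,0,0,0,2,-2,2⟩,⟨2,0,0,0,0,2,2,-2⟩],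
  [⟨2,0,-2,0,2,0,2,0⟩,⟨-2,2,0,-2,0,0,-2,0⟩,⟨2,-2,0,0,-2,0,0,-2⟩,⟨-2,0,0,2,2,-2,0,0⟩,⟨0,0,4,0,0,0,0,0⟩,⟨2,0,-2,2,0,0,0,2⟩,⟨-2,2,0,-2,0,0,2,0⟩,⟨2,-2,0,-2,0,0,-2,0⟩],
  [⟨2,-2,0,0,2,0,0,-2⟩,⟨-2,2,0,2,0,0,-2,0⟩,⟨2,0,2,0,-2,0,2,0⟩,⟨0,0,-2,0,2,-2,0,2⟩,⟨0,0,-4,0,0,0,0,0⟩,⟨-2,0,2,-2,0,0,0,-2⟩,⟨2,-2,0,2,0,0,-2,0⟩,⟨-2,2,0,2,0,0,2,0⟩],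
  [⟨2,0,0,-2,2,-2,0,0⟩,⟨-2,0,-2,0,-2,0,-2,0⟩,⟨0,-2,2,0,0,0,2,-2⟩,⟨0,0,0,2,2,0,-2,2⟩,⟨0,2,0,2,0,2,0,2⟩,⟨2,2,0,-2,0,0,2,0⟩,⟨0,0,-2,-2,0,-2,-2,0⟩,⟨-2,-2,0,0,-2,0,0,-2⟩],
  [⟨0,-2,2,2,2,0,0,0⟩,⟨0,2,0,2,0,2,0,2⟩,⟨2,2,0,-2,0,0,2,0⟩,⟨0,0,-2,-2,0,-2,-2,0⟩,⟨0,-2,0,-2,0,-2,0,-2⟩,⟨-2,-2,0,2,0,0,-2,0⟩,⟨0,0,2,2,0,2,2,0⟩,⟨2,2,0,0,2,0,0,2⟩],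
  [⟨0,0,0,0,0,0,0,0⟩,⟨0,0,0,0,0,0,0,0⟩,⟨0,0,0,0,0,0,0,0⟩,⟨0,0,0,0,0,0,0,0⟩,⟨0,0,4,0,0,0,0,0⟩,⟨2,0,-2,2,0,0,0,2⟩,⟨-2,2,0,-2,0,0,2,0⟩,⟨2,-2,0,-2,0,0,-2,0⟩],
  [⟨0,-2,2,0,0,0,-2,-2⟩,⟨0,0,0,4,0,0,0,0⟩,⟨0,2,2,0,0,0,2,2⟩,⟨2,0,-2,-2,0,0,0,2⟩,⟨0,0,-4,0,0,0,0,0⟩,⟨-2,0,2,-2,0,0,0,-2⟩,⟨2,-2,0,2,0,0,-2,0⟩,⟨-2,2,0,2,0,0,2,0⟩]]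

/-- Part 8 of the table of stage 1. -/
def ker1_8 : List (List Ico) := [
  [⟨2,0,0,0,0,-2,2,-2⟩,⟨-2,0,0,0,0,-2,-2,2⟩,⟨0,-2,0,0,-2,2,2,0⟩,⟨0,0,0,0,4,0,0,0⟩,⟨0,0,0,0,4,0,0,0⟩,⟨0,2,0,0,-2,2,-2,0⟩,⟨2,0,0,0,0,-2,2,-2⟩,⟨-2,0,0,0,0,-2,-2,2⟩],
  [⟨0,-2,0,0,2,-2,2,0⟩,⟨-2,0,0,0,0,2,-2,2⟩,⟨2,0,0,0,0,2,2,-2⟩,⟨0,2,0,0,2,-2,-2,0⟩,⟨0,0,0,0,-4,0,0,0⟩,⟨0,-2,0,0,2,-2,2,0⟩,⟨-2,0,0,0,0,2,-2,2⟩,⟨2,0,0,0,0,2,2,-2⟩],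
  [⟨2,-2,0,0,2,0,0,-2⟩,⟨-2,2,0,2,0,0,-2,0⟩,⟨2,0,2,0,-2,0,2,0⟩,⟨0,0,-2,0,2,-2,0,2⟩,⟨-2,2,2,-2,-2,2,-2,2⟩,⟨4,-2,-2,0,0,0,2,-2⟩,⟨-4,2,0,0,2,-2,-2,0⟩,⟨2,-2,2,0,-4,2,0,0⟩],
  [⟨2,-2,2,0,0,2,0,0⟩,⟨0,2,-2,2,2,0,0,0⟩,⟨0,2,2,-2,-2,0,0,0⟩,⟨2,-2,-2,0,0,-2,0,0⟩,⟨2,-2,-2,2,2,-2,2,-2⟩,⟨-4,2,2,0,0,0,-2,2⟩,⟨4,-2,0,0,-2,2,2,0⟩,⟨-2,2,-2,0,4,-2,0,0⟩],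
  [⟨2,0,2,0,2,0,2,0⟩,⟨0,2,-2,0,0,0,-2,2⟩,⟨0,0,0,-2,-2,0,2,-2⟩,⟨0,-2,0,0,2,-2,-2,0⟩,⟨-2,0,-2,4,-2,0,-2,0⟩,⟨0,0,4,0,0,0,4,0⟩,⟨2,0,-2,0,2,0,-2,4⟩,⟨-2,2,-2,-2,-2,2,2,-2⟩],
  [⟨2,0,0,0,0,-2,2,-2⟩,⟨-2,0,0,0,0,-2,-2,2⟩,⟨0,-2,0,0,-2,2,2,0⟩,⟨0,0,0,0,4,0,0,0⟩,⟨-2,4,2,0,2,0,-2,0⟩,⟨4,0,0,0,-4,0,0,0⟩,⟨-2,0,-2,0,2,-4,2,0⟩,⟨-2,-2,2,-2,-2,2,-2,2⟩],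
  [⟨0,0,0,-2,2,0,2,-2⟩,⟨0,0,0,0,0,0,-4,0⟩,⟨0,0,0,2,-2,0,2,-2⟩,⟨0,0,2,0,2,-2,0,2⟩,⟨2,0,2,0,-2,0,-2,4⟩,⟨0,0,-4,0,0,0,4,0⟩,⟨-2,0,2,-4,2,0,-2,0⟩,⟨2,-2,-2,2,-2,2,-2,-2⟩],
  [⟨2,2,0,0,2,0,0,-2⟩,⟨0,2,0,0,-2,-2,-2,0⟩,⟨0,-2,0,0,-2,-2,2,0⟩,⟨-2,-2,0,0,2,0,0,2⟩,⟨-2,0,2,0,-2,4,2,0⟩,⟨4,0,0,0,4,0,0,0⟩,⟨-2,4,-2,0,-2,0,-2,0⟩,⟨2,-2,2,-2,-2,-2,2,-2⟩],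
  [⟨0,-2,2,0,0,0,2,-2⟩,⟨0,0,0,2,2,0,-2,2⟩,⟨0,2,0,0,-2,2,2,0⟩,⟨2,0,0,-2,2,-2,0,0⟩,⟨2,0,-2,0,2,-4,-2,0⟩,⟨-4,0,0,0,-4,0,0,0⟩,⟨2,-4,2,0,2,0,2,0⟩,⟨-2,2,-2,2,2,2,-2,2⟩],
  [⟨2,0,2,2,0,0,0,-2⟩,⟨0,2,0,2,0,-2,0,2⟩,⟨0,0,0,-2,-2,0,2,2⟩,⟨0,-2,-2,-2,2,0,0,0⟩,⟨-2,0,-2,0,2,0,2,-4⟩,⟨0,0,4,0,0,0,-4,0⟩,⟨2,0,-2,4,-2,0,2,0⟩,⟨-2,2,2,-2,2,-2,2,2⟩],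
  [⟨0,0,2,0,2,2,0,-2⟩,⟨2,2,0,2,0,0,-2,0⟩,⟨0,2,0,0,-2,-2,2,0⟩,⟨0,-2,0,-2,0,-2,0,2⟩,⟨2,-4,-2,0,-2,0,2,0⟩,⟨-4,0,0,0,4,0,0,0⟩,⟨2,0,2,0,-2,4,-2,0⟩,⟨2,2,-2,2,2,-2,2,-2⟩],
  [⟨0,0,0,0,0,0,0,-4⟩,⟨0,0,2,2,0,-2,-2,0⟩,⟨0,0,0,2,-2,0,2,2⟩,⟨0,0,0,-2,2,0,2,2⟩,⟨2,0,2,-4,2,0,2,0⟩,⟨0,0,-4,0,0,0,-4,0⟩,⟨-2,0,2,0,-2,0,2,-4⟩,⟨2,-2,2,2,2,-2,-2,2⟩],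
  [⟨2,0,0,0,0,-2,2,-2⟩,⟨-2,0,0,0,0,-2,-2,2⟩,⟨0,-2,0,0,-2,2,2,0⟩,⟨0,0,0,0,4,0,0,0⟩,⟨2,0,2,0,-2,4,-2,0⟩,⟨2,2,-2,2,2,-2,2,-2⟩,⟨-2,2,2,-2,-2,-2,-2,2⟩,⟨2,-4,-2,0,-2,0,2,0⟩],
  [⟨2,-2,0,-2,0,0,2,-4⟩,⟨-2,0,0,2,2,-2,-4,0⟩,⟨0,0,2,2,-4,2,2,0⟩,⟨2,0,0,0,4,-2,2,2⟩,⟨2,0,-2,0,2,0,-2,4⟩,⟨-2,2,-2,-2,-2,2,2,-2⟩,⟨2,-2,2,-2,2,-2,-2,-2⟩,⟨-2,0,-2,4,-2,0,-2,0⟩],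
  [⟨2,-2,0,-2,0,0,2,0⟩,⟨-2,0,-2,0,2,0,-2,0⟩,⟨0,0,2,0,-2,2,0,-2⟩,⟨2,0,0,2,2,-2,0,0⟩,⟨2,0,-2,4,-2,0,2,0⟩,⟨-2,2,2,-2,2,-2,2,2⟩,⟨2,-2,-2,-2,-2,2,-2,2⟩,⟨-2,0,-2,0,2,0,2,-4⟩],
  [⟨2,0,0,0,0,2,2,-2⟩,⟨0,2,0,0,2,-2,-2,0⟩,⟨0,0,0,0,-4,0,0,0⟩,⟨0,-2,0,0,2,-2,2,0⟩,⟨2,-4,2,0,2,0,2,0⟩,⟨-2,2,-2,2,2,2,-2,2⟩,⟨2,2,2,-2,-2,2,2,-2⟩,⟨2,0,-2,0,2,-4,-2,0⟩],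
  [⟨2,-4,0,0,0,-2,2,-2⟩,⟨-4,0,0,2,2,0,-2,2⟩,⟨2,0,2,0,-2,4,2,0⟩,⟨2,2,-2,0,4,-2,0,0⟩,⟨-2,4,-2,0,-2,0,-2,0⟩,⟨2,-2,2,-2,-2,-2,2,-2⟩,⟨-2,-2,-2,2,2,-2,-2,2⟩,⟨-2,0,2,0,-2,4,2,0⟩],
  [⟨2,-2,0,2,0,0,2,-4⟩,⟨-2,2,2,2,2,-2,-2,2⟩,⟨2,0,0,0,-4,2,2,2⟩,⟨0,0,-2,-2,4,-2,2,0⟩,⟨-2,0,2,-4,2,0,-2,0⟩,⟨2,-2,-2,2,-2,2,-2,-2⟩,⟨-2,2,2,2,2,-2,2,-2⟩,⟨2,0,2,0,-2,0,-2,4⟩],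
  [⟨2,-2,0,2,0,0,2,0⟩,⟨-2,2,0,0,2,0,0,2⟩,⟨2,0,0,-2,-2,2,0,0⟩,⟨0,0,-2,0,2,-2,0,-2⟩,⟨-2,0,2,0,-2,0,2,-4⟩,⟨2,-2,2,2,2,-2,-2,2⟩,⟨-2,2,-2,2,-2,2,2,2⟩,⟨2,0,2,-4,2,0,2,0⟩],
  [⟨2,-4,0,0,0,2,2,-2⟩,⟨-2,2,0,2,4,0,-2,0⟩,⟨2,2,2,0,-4,2,0,0⟩,⟨2,0,-2,0,2,-4,2,0⟩,⟨-2,0,-2,0,2,-4,2,0⟩,⟨-2,-2,2,-2,-2,2,-2,2⟩,⟨2,-2,-2,2,2,2,2,-2⟩,⟨-2,4,2,0,2,0,-2,0⟩],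
  [⟨0,-2,2,0,0,0,2,-2⟩,⟨0,0,0,2,2,0,-2,2⟩,⟨0,2,0,0,-2,2,2,0⟩,⟨2,0,0,-2,2,-2,0,0⟩,⟨2,-2,2,-2,2,-2,-2,2⟩,⟨-2,0,-4,2,-2,2,0,0⟩,⟨0,0,4,-2,2,0,2,-2⟩,⟨2,0,-2,2,0,0,-4,2⟩]]

/-- Part 9 of the table of stage 1. -/
def ker1_9 : List (List Ico) := [
  [⟨2,-2,2,0,0,-2,0,0⟩,⟨-2,0,-2,2,0,0,0,2⟩,⟨0,0,2,-2,0,2,2,0⟩,⟨2,0,-2,0,2,0,-2,0⟩,⟨-2,2,-2,2,-2,2,2,-2⟩,⟨2,0,4,-2,2,-2,0,0⟩,⟨0,0,-4,2,-2,0,-2,2⟩,⟨-2,0,2,-2,0,0,4,-2⟩],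
  [⟨2,0,2,0,2,0,2,0⟩,⟨0,2,-2,0,0,0,-2,2⟩,⟨0,0,0,-2,-2,0,2,-2⟩,⟨0,-2,0,0,2,-2,-2,0⟩,⟨0,0,4,0,0,0,0,0⟩,⟨2,0,-2,2,0,0,0,2⟩,⟨-2,2,0,-2,0,0,2,0⟩,⟨2,-2,0,-2,0,0,-2,0⟩],
  [⟨2,-2,4,0,2,0,0,-2⟩,⟨0,2,-2,4,0,0,-2,2⟩,⟨0,2,2,-2,-2,0,4,0⟩,⟨2,-2,-2,-2,2,-2,-2,2⟩,⟨0,0,-4,0,0,0,0,0⟩,⟨-2,0,2,-2,0,0,0,-2⟩,⟨2,-2,0,2,0,0,-2,0⟩,⟨-2,2,0,2,0,0,2,0⟩],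
  [⟨4,-2,2,0,0,0,2,-2⟩,⟨-2,2,-2,2,2,-2,-2,2⟩,⟨0,0,2,-2,-4,2,2,0⟩,⟨2,-2,-2,0,4,-2,0,0⟩,⟨0,0,0,0,4,0,0,0⟩,⟨0,2,0,0,-2,2,-2,0⟩,⟨2,0,0,0,0,-2,2,-2⟩,⟨-2,0,0,0,0,-2,-2,2⟩],
  [⟨2,-4,2,0,2,0,2,0⟩,⟨-2,2,-2,2,2,2,-2,2⟩,⟨2,2,2,-2,-2,2,2,-2⟩,⟨2,0,-2,0,2,-4,-2,0⟩,⟨0,0,0,0,-4,0,0,0⟩,⟨0,-2,0,0,2,-2,2,0⟩,⟨-2,0,0,0,0,2,-2,2⟩,⟨2,0,0,0,0,2,2,-2⟩],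
  [⟨2,-2,2,0,0,-2,4,0⟩,⟨-2,0,-2,0,2,0,-2,4⟩,⟨0,0,0,-2,-2,4,2,-2⟩,⟨2,0,0,0,4,-2,-2,-2⟩,⟨0,2,0,2,0,-2,0,-2⟩,⟨0,0,2,0,-2,-2,0,2⟩,⟨0,-2,-2,0,0,0,2,2⟩,⟨-2,0,0,-2,2,2,0,0⟩],
  [⟨2,0,2,0,2,0,2,-4⟩,⟨0,2,0,2,0,-2,-4,2⟩,⟨0,0,0,0,-4,0,4,0⟩,⟨0,-2,0,-2,4,-2,0,2⟩,⟨0,-2,0,-2,0,2,0,2⟩,⟨0,0,-2,0,2,2,0,-2⟩,⟨0,2,2,0,0,0,-2,-2⟩,⟨2,0,0,2,-2,-2,0,0⟩],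
  [⟨2,0,2,0,-2,0,2,-4⟩,⟨0,0,0,2,2,-4,-2,2⟩,⟨-2,0,0,0,-4,2,2,2⟩,⟨2,-2,0,-2,4,0,2,0⟩,⟨0,0,0,0,4,0,0,0⟩,⟨0,2,0,0,-2,2,-2,0⟩,⟨2,0,0,0,0,-2,2,-2⟩,⟨-2,0,0,0,0,-2,-2,2⟩],
  [⟨0,-2,2,0,0,0,2,-2⟩,⟨0,0,0,2,2,0,-2,2⟩,⟨0,2,0,0,-2,2,2,0⟩,⟨2,0,0,-2,2,-2,0,0⟩,⟨0,0,0,0,-4,0,0,0⟩,⟨0,-2,0,0,2,-2,2,0⟩,⟨-2,0,0,0,0,2,-2,2⟩,⟨2,0,0,0,0,2,2,-2⟩],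
  [⟨0,0,0,0,0,0,4,0⟩,⟨0,0,0,-2,2,0,-2,2⟩,⟨0,0,-2,0,-2,2,0,-2⟩,⟨0,0,2,0,2,-2,0,-2⟩,⟨0,0,4,0,0,0,0,0⟩,⟨2,0,-2,2,0,0,0,2⟩,⟨-2,2,0,-2,0,0,2,0⟩,⟨2,-2,0,-2,0,0,-2,0⟩],
  [⟨0,-2,2,0,0,0,2,-2⟩,⟨0,0,0,2,2,0,-2,2⟩,⟨0,2,0,0,-2,2,2,0⟩,⟨2,0,0,-2,2,-2,0,0⟩,⟨0,0,-4,0,0,0,0,0⟩,⟨-2,0,2,-2,0,0,0,-2⟩,⟨2,-2,0,2,0,0,-2,0⟩,⟨-2,2,0,2,0,0,2,0⟩],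
  [⟨2,-2,2,2,2,-2,2,-2⟩,⟨-2,2,0,2,0,0,-2,4⟩,⟨2,0,0,-2,-2,2,4,0⟩,⟨0,0,-2,-2,4,-2,-2,0⟩,⟨0,0,0,0,0,0,-4,0⟩,⟨0,0,0,2,-2,0,2,-2⟩,⟨0,0,2,0,2,-2,0,2⟩,⟨0,0,-2,0,-2,2,0,2⟩],
  [⟨2,-2,0,0,2,0,0,-2⟩,⟨-2,2,0,2,0,0,-2,0⟩,⟨2,0,2,0,-2,0,2,0⟩,⟨0,0,-2,0,2,-2,0,2⟩,⟨0,0,0,0,0,0,4,0⟩,⟨0,0,0,-2,2,0,-2,2⟩,⟨0,0,-2,0,-2,2,0,-2⟩,⟨0,0,2,0,2,-2,0,-2⟩],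
  [⟨4,0,0,0,0,0,0,0⟩,⟨-2,2,-2,0,0,-2,0,0⟩,⟨0,-2,2,-2,-2,0,0,0⟩,⟨0,-2,-2,2,2,0,0,0⟩,⟨0,-2,-2,2,2,0,0,0⟩,⟨-2,2,2,0,0,2,0,0⟩,⟨4,0,0,0,0,0,0,0⟩,⟨-2,2,-2,0,0,-2,0,0⟩],
  [⟨2,-2,-2,0,0,-2,0,0⟩,⟨-4,0,0,0,0,0,0,0⟩,⟨2,-2,2,0,0,2,0,0⟩,⟨0,2,-2,2,2,0,0,0⟩,⟨0,2,2,-2,-2,0,0,0⟩,⟨2,-2,-2,0,0,-2,0,0⟩,⟨-4,0,0,0,0,0,0,0⟩,⟨2,-2,2,0,0,2,0,0⟩],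
  [⟨4,0,-2,2,0,-2,2,0⟩,⟨-4,2,0,-2,0,-2,0,2⟩,⟨2,-4,0,-2,-2,2,0,0⟩,⟨-2,0,-2,2,4,0,0,-2⟩,⟨-2,2,0,2,0,0,-2,0⟩,⟨2,0,2,0,-2,0,2,0⟩,⟨0,0,-2,0,2,-2,0,2⟩,⟨-2,0,0,-2,-2,2,0,0⟩],
  [⟨2,0,-2,2,0,0,0,-2⟩,⟨-2,2,2,0,0,-2,0,0⟩,⟨2,-2,0,0,-2,0,0,2⟩,⟨-2,0,-2,0,2,0,2,0⟩,⟨2,-2,0,-2,0,0,2,0⟩,⟨-2,0,-2,0,2,0,-2,0⟩,⟨0,0,2,0,-2,2,0,-2⟩,⟨2,0,0,2,2,-2,0,0⟩],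
  [⟨4,0,-2,0,2,-2,0,-2⟩,⟨-4,2,0,0,-2,-2,-2,0⟩,⟨2,-4,2,0,-2,0,2,0⟩,⟨-2,0,-2,2,4,0,0,2⟩,⟨2,0,0,0,0,2,-2,2⟩,⟨0,2,-2,0,0,0,2,-2⟩,⟨0,0,2,-2,0,-2,-2,0⟩,⟨0,-2,-2,2,-2,0,0,0⟩],
  [⟨4,-2,-2,2,2,0,0,0⟩,⟨-4,4,0,0,0,0,0,0⟩,⟨4,-2,2,-2,-2,0,0,0⟩,⟨-2,0,-4,2,2,-2,0,0⟩,⟨-2,0,0,0,0,-2,2,-2⟩,⟨0,-2,2,0,0,0,-2,2⟩,⟨0,0,-2,2,0,2,2,0⟩,⟨0,2,2,-2,2,0,0,0⟩],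
  [⟨4,-2,-2,0,0,0,2,-2⟩,⟨-4,2,0,0,2,-2,-2,0⟩,⟨2,-2,2,0,-4,2,0,0⟩,⟨0,0,-2,2,4,-2,2,0⟩,⟨0,0,2,0,2,-2,0,2⟩,⟨0,0,-2,0,-2,2,0,2⟩,⟨0,0,0,-2,2,0,2,-2⟩,⟨0,0,0,0,0,0,-4,0⟩],
  [⟨4,-2,0,2,0,-2,0,-2⟩,⟨-4,2,0,2,0,-2,0,2⟩,⟨2,-2,2,-2,-2,2,2,2⟩,⟨0,0,-4,0,4,0,0,0⟩,⟨0,0,-2,0,-2,2,0,-2⟩,⟨0,0,2,0,2,-2,0,-2⟩,⟨0,0,0,2,-2,0,-2,2⟩,⟨0,0,0,0,0,0,4,0⟩]]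

/-- Part 10 of the table of stage 1. -/
def ker1_10 : List (List Ico) := [
  [⟨2,0,-2,0,2,0,2,0⟩,⟨-2,2,0,-2,0,0,-2,0⟩,⟨2,-2,0,0,-2,0,0,-2⟩,⟨-2,0,0,2,2,-2,0,0⟩,⟨0,0,2,0,2,-2,0,2⟩,⟨0,0,-2,0,-2,2,0,2⟩,⟨0,0,0,-2,2,0,2,-2⟩,⟨0,0,0,0,0,0,-4,0⟩],
  [⟨2,0,0,2,2,-2,0,0⟩,⟨-2,2,0,0,-2,0,0,2⟩,⟨2,-2,0,-2,0,0,2,0⟩,⟨-2,0,-2,0,2,0,-2,0⟩,⟨0,0,-2,0,-2,2,0,-2⟩,⟨0,0,2,0,2,-2,0,-2⟩,⟨0,0,0,2,-2,0,-2,2⟩,⟨0,0,0,0,0,0,4,0⟩],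
  [⟨2,0,0,0,0,-2,2,-2⟩,⟨-2,0,0,0,0,-2,-2,2⟩,⟨0,-2,0,0,-2,2,2,0⟩,⟨0,0,0,0,4,0,0,0⟩,⟨2,0,0,0,0,2,-2,2⟩,⟨0,2,-2,0,0,0,2,-2⟩,⟨0,0,2,-2,0,-2,-2,0⟩,⟨0,-2,-2,2,-2,0,0,0⟩],
  [⟨2,-2,0,2,0,0,2,0⟩,⟨-2,2,0,0,2,0,0,2⟩,⟨2,0,0,-2,-2,2,0,0⟩,⟨0,0,-2,0,2,-2,0,-2⟩,⟨-2,0,0,0,0,-2,2,-2⟩,⟨0,-2,2,0,0,0,-2,2⟩,⟨0,0,-2,2,0,2,2,0⟩,⟨0,2,2,-2,2,0,0,0⟩],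
  [⟨4,-2,0,0,2,-2,2,0⟩,⟨-4,2,-2,0,0,0,-2,2⟩,⟨2,-2,2,-2,-2,2,2,-2⟩,⟨0,0,-2,2,4,-2,-2,0⟩,⟨-2,2,0,2,0,0,-2,0⟩,⟨2,0,2,0,-2,0,2,0⟩,⟨0,0,-2,0,2,-2,0,2⟩,⟨-2,0,0,-2,-2,2,0,0⟩],
  [⟨2,-2,0,0,2,0,0,-2⟩,⟨-2,2,0,2,0,0,-2,0⟩,⟨2,0,2,0,-2,0,2,0⟩,⟨0,0,-2,0,2,-2,0,2⟩,⟨2,-2,0,-2,0,0,2,0⟩,⟨-2,0,-2,0,2,0,-2,0⟩,⟨0,0,2,0,-2,2,0,-2⟩,⟨2,0,0,2,2,-2,0,0⟩],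
  [⟨4,0,0,2,2,0,2,-2⟩,⟨-2,4,0,0,0,-2,-2,2⟩,⟨2,-2,0,-2,-4,0,2,0⟩,⟨-2,-2,-2,0,4,-2,0,0⟩,⟨0,-2,-2,2,2,0,0,0⟩,⟨-2,2,2,0,0,2,0,0⟩,⟨4,0,0,0,0,0,0,0⟩,⟨-2,2,-2,0,0,-2,0,0⟩],
  [⟨2,-2,-2,2,2,-2,2,-2⟩,⟨-4,2,2,0,0,0,-2,2⟩,⟨4,-2,0,0,-2,2,2,0⟩,⟨-2,2,-2,0,4,-2,0,0⟩,⟨0,2,2,-2,-2,0,0,0⟩,⟨2,-2,-2,0,0,-2,0,0⟩,⟨-4,0,0,0,0,0,0,0⟩,⟨2,-2,2,0,0,2,0,0⟩],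
  [⟨2,0,-2,2,0,0,0,-2⟩,⟨-2,2,2,0,0,-2,0,0⟩,⟨2,-2,0,0,-2,0,0,2⟩,⟨-2,0,-2,0,2,0,2,0⟩,⟨-2,0,2,-2,0,0,-4,2⟩,⟨2,-2,-2,2,-2,2,2,-2⟩,⟨-2,2,2,0,4,-2,0,0⟩,⟨2,0,0,0,-4,2,-2,2⟩],
  [⟨2,0,-2,0,-2,0,-2,0⟩,⟨-2,0,0,0,0,-2,2,-2⟩,⟨0,-2,2,0,0,0,-2,2⟩,⟨0,0,-2,2,0,2,2,0⟩,⟨2,0,-2,2,0,0,4,-2⟩,⟨-2,2,2,-2,2,-2,-2,2⟩,⟨2,-2,-2,0,-4,2,0,0⟩,⟨-2,0,0,0,4,-2,2,-2⟩],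
  [⟨4,0,0,0,0,0,0,0⟩,⟨-2,2,-2,0,0,-2,0,0⟩,⟨0,-2,2,-2,-2,0,0,0⟩,⟨0,-2,-2,2,2,0,0,0⟩,⟨0,0,0,2,2,0,-2,2⟩,⟨0,2,0,0,-2,2,2,0⟩,⟨2,0,0,-2,2,-2,0,0⟩,⟨-2,0,-2,0,-2,0,-2,0⟩],
  [⟨2,-2,0,2,0,0,-2,0⟩,⟨-2,2,0,2,0,0,2,0⟩,⟨2,0,2,-2,0,0,0,2⟩,⟨0,0,-4,0,0,0,0,0⟩,⟨0,0,0,-2,-2,0,2,-2⟩,⟨0,-2,0,0,2,-2,-2,0⟩,⟨-2,0,0,2,-2,2,0,0⟩,⟨2,0,2,0,2,0,2,0⟩],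
  [⟨0,0,0,0,0,0,0,0⟩,⟨0,0,0,0,0,0,0,0⟩,⟨0,0,0,0,0,0,0,0⟩,⟨0,0,0,0,0,0,0,0⟩,⟨0,0,-4,2,-2,0,-2,2⟩,⟨-2,0,2,-2,0,0,4,-2⟩,⟨2,-2,0,0,2,0,-4,2⟩,⟨-2,2,-2,2,-2,2,2,-2⟩],
  [⟨0,2,-2,2,-2,0,0,0⟩,⟨0,0,2,-2,0,-2,2,0⟩,⟨0,-2,-2,0,0,0,-2,2⟩,⟨-2,0,0,0,0,2,2,-2⟩,⟨0,0,4,-2,2,0,2,-2⟩,⟨2,0,-2,2,0,0,-4,2⟩,⟨-2,2,0,0,-2,0,4,-2⟩,⟨2,-2,2,-2,2,-2,-2,2⟩],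
  [⟨2,0,0,2,-2,2,0,0⟩,⟨0,2,0,0,2,-2,2,0⟩,⟨0,0,0,-2,-2,0,-2,2⟩,⟨0,-2,-2,0,0,0,2,-2⟩,⟨-2,0,-2,2,0,0,0,-2⟩,⟨0,0,4,0,0,0,0,0⟩,⟨2,0,-2,2,0,0,0,2⟩,⟨-2,2,0,-2,0,0,2,0⟩],
  [⟨0,0,-2,0,-2,2,0,-2⟩,⟨0,0,2,0,2,-2,0,-2⟩,⟨0,0,0,2,-2,0,-2,2⟩,⟨0,0,0,0,0,0,4,0⟩,⟨2,0,2,-2,0,0,0,2⟩,⟨0,0,-4,0,0,0,0,0⟩,⟨-2,0,2,-2,0,0,0,-2⟩,⟨2,-2,0,2,0,0,-2,0⟩],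
  [⟨2,0,-2,0,2,0,-2,0⟩,⟨-2,2,0,0,-2,0,0,-2⟩,⟨2,-2,2,0,0,-2,0,0⟩,⟨-2,0,-2,2,0,0,0,2⟩,⟨-4,2,0,0,-2,2,2,0⟩,⟨4,-2,2,-2,2,0,0,0⟩,⟨-2,2,-4,2,0,0,-2,0⟩,⟨0,0,4,-2,-2,0,2,-2⟩],
  [⟨0,0,0,0,0,0,0,0⟩,⟨0,0,0,0,0,0,0,0⟩,⟨0,0,0,0,0,0,0,0⟩,⟨0,0,0,0,0,0,0,0⟩,⟨4,-2,0,0,2,-2,-2,0⟩,⟨-4,2,-2,2,-2,0,0,0⟩,⟨2,-2,4,-2,0,0,2,0⟩,⟨0,0,-4,2,2,0,-2,2⟩],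
  [⟨0,0,-2,2,0,-2,-2,0⟩,⟨-2,0,2,0,-2,0,2,0⟩,⟨2,-2,0,0,2,0,0,2⟩,⟨-2,2,-2,0,0,2,0,0⟩,⟨0,2,0,0,-2,2,-2,0⟩,⟨2,0,0,0,0,-2,2,-2⟩,⟨-2,0,0,0,0,-2,-2,2⟩,⟨0,-2,0,0,-2,2,2,0⟩],
  [⟨0,0,-2,2,0,2,-2,0⟩,⟨0,2,2,0,0,0,2,-2⟩,⟨2,0,0,0,0,-2,-2,2⟩,⟨-2,0,-2,0,-2,0,2,0⟩,⟨0,-2,0,0,2,-2,2,0⟩,⟨-2,0,0,0,0,2,-2,2⟩,⟨2,0,0,0,0,2,2,-2⟩,⟨0,2,0,0,2,-2,-2,0⟩],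
  [⟨0,0,0,0,0,0,0,0⟩,⟨0,0,0,0,0,0,0,0⟩,⟨0,0,0,0,0,0,0,0⟩,⟨0,0,0,0,0,0,0,0⟩,⟨-2,2,2,0,0,-2,0,0⟩,⟨2,-2,0,0,-2,0,0,2⟩,⟨-2,0,-2,0,2,0,2,0⟩,⟨0,0,2,-2,0,2,-2,0⟩]]

/-- Part 11 of the table of stage 1. -/
def ker1_11 : List (List Ico) := [
  [⟨0,2,2,0,0,0,-2,-2⟩,⟨2,0,0,2,-2,-2,0,0⟩,⟨-2,0,0,0,0,-2,2,2⟩,⟨0,-2,0,-2,0,2,0,2⟩,⟨2,-2,-2,0,0,2,0,0⟩,⟨-2,2,0,0,2,0,0,-2⟩,⟨2,0,2,0,-2,0,-2,0⟩,⟨0,0,-2,2,0,-2,2,0⟩],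
  [⟨2,-2,0,0,-2,0,0,-2⟩,⟨-2,0,0,2,2,-2,0,0⟩,⟨0,0,2,0,-2,2,0,2⟩,⟨2,0,-2,0,2,0,2,0⟩,⟨-2,2,-2,0,4,-2,0,0⟩,⟨0,0,2,-2,-4,2,-2,0⟩,⟨2,-2,-2,2,2,-2,2,-2⟩,⟨-4,2,2,0,0,0,-2,2⟩],
  [⟨0,0,0,0,0,0,0,0⟩,⟨0,0,0,0,0,0,0,0⟩,⟨0,0,0,0,0,0,0,0⟩,⟨0,0,0,0,0,0,0,0⟩,⟨2,-2,2,0,-4,2,0,0⟩,⟨0,0,-2,2,4,-2,2,0⟩,⟨-2,2,2,-2,-2,2,-2,2⟩,⟨4,-2,-2,0,0,0,2,-2⟩],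
  [⟨2,0,-2,2,0,0,0,-2⟩,⟨-2,2,2,0,0,-2,0,0⟩,⟨2,-2,0,0,-2,0,0,2⟩,⟨-2,0,-2,0,2,0,2,0⟩,⟨-2,2,-2,0,4,-2,0,0⟩,⟨0,0,2,-2,-4,2,-2,0⟩,⟨2,-2,-2,2,2,-2,2,-2⟩,⟨-4,2,2,0,0,0,-2,2⟩],
  [⟨0,2,-2,2,2,0,0,0⟩,⟨0,2,2,-2,-2,0,0,0⟩,⟨2,-2,-2,0,0,-2,0,0⟩,⟨-4,0,0,0,0,0,0,0⟩,⟨2,-2,2,0,-4,2,0,0⟩,⟨0,0,-2,2,4,-2,2,0⟩,⟨-2,2,2,-2,-2,2,-2,2⟩,⟨4,-2,-2,0,0,0,2,-2⟩],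
  [⟨2,-2,-4,2,0,0,2,0⟩,⟨-4,2,2,-2,2,0,0,0⟩,⟨4,-2,0,0,-2,2,-2,0⟩,⟨-2,2,-2,2,2,-2,2,-2⟩,⟨-2,2,2,0,0,-2,0,0⟩,⟨2,-2,0,0,-2,0,0,2⟩,⟨-2,0,-2,0,2,0,2,0⟩,⟨0,0,2,-2,0,2,-2,0⟩],
  [⟨2,0,-2,2,0,0,0,-2⟩,⟨-2,2,2,0,0,-2,0,0⟩,⟨2,-2,0,0,-2,0,0,2⟩,⟨-2,0,-2,0,2,0,2,0⟩,⟨2,-2,-2,0,0,2,0,0⟩,⟨-2,2,0,0,2,0,0,-2⟩,⟨2,0,2,0,-2,0,-2,0⟩,⟨0,0,-2,2,0,-2,2,0⟩],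
  [⟨2,0,0,0,0,-2,2,-2⟩,⟨-2,0,0,0,0,-2,-2,2⟩,⟨0,-2,0,0,-2,2,2,0⟩,⟨0,0,0,0,4,0,0,0⟩,⟨0,2,0,0,-2,2,-2,0⟩,⟨2,0,0,0,0,-2,2,-2⟩,⟨-2,0,0,0,0,-2,-2,2⟩,⟨0,-2,0,0,-2,2,2,0⟩],
  [⟨2,0,0,0,0,2,2,-2⟩,⟨0,2,0,0,2,-2,-2,0⟩,⟨0,0,0,0,-4,0,0,0⟩,⟨0,-2,0,0,2,-2,2,0⟩,⟨0,-2,0,0,2,-2,2,0⟩,⟨-2,0,0,0,0,2,-2,2⟩,⟨2,0,0,0,0,2,2,-2⟩,⟨0,2,0,0,2,-2,-2,0⟩],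
  [⟨2,0,-2,2,0,0,0,-2⟩,⟨-2,2,2,0,0,-2,0,0⟩,⟨2,-2,0,0,-2,0,0,2⟩,⟨-2,0,-2,0,2,0,2,0⟩,⟨-4,2,0,0,-2,2,2,0⟩,⟨4,-2,2,-2,2,0,0,0⟩,⟨-2,2,-4,2,0,0,-2,0⟩,⟨0,0,4,-2,-2,0,2,-2⟩],
  [⟨0,0,0,2,-2,0,2,-2⟩,⟨0,0,2,0,2,-2,0,2⟩,⟨0,0,-2,0,-2,2,0,2⟩,⟨0,0,0,-2,2,0,2,-2⟩,⟨4,-2,0,0,2,-2,-2,0⟩,⟨-4,2,-2,2,-2,0,0,0⟩,⟨2,-2,4,-2,0,0,2,0⟩,⟨0,0,-4,2,2,0,-2,2⟩],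
  [⟨2,0,0,2,2,-2,0,0⟩,⟨-2,2,0,0,-2,0,0,2⟩,⟨2,-2,0,-2,0,0,2,0⟩,⟨-2,0,-2,0,2,0,-2,0⟩,⟨-2,0,-2,2,0,0,0,-2⟩,⟨0,0,4,0,0,0,0,0⟩,⟨2,0,-2,2,0,0,0,2⟩,⟨-2,2,0,-2,0,0,2,0⟩],
  [⟨0,0,-2,0,2,-2,0,-2⟩,⟨-2,0,2,0,-2,0,-2,0⟩,⟨2,-2,0,2,0,0,2,0⟩,⟨-2,2,0,0,2,0,0,2⟩,⟨2,0,2,-2,0,0,0,2⟩,⟨0,0,-4,0,0,0,0,0⟩,⟨-2,0,2,-2,0,0,0,-2⟩,⟨2,-2,0,2,0,0,-2,0⟩],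
  [⟨2,-2,0,0,2,0,0,-2⟩,⟨-2,2,0,2,0,0,-2,0⟩,⟨2,0,2,0,-2,0,2,0⟩,⟨0,0,-2,0,2,-2,0,2⟩,⟨0,0,-4,2,-2,0,-2,2⟩,⟨-2,0,2,-2,0,0,4,-2⟩,⟨2,-2,0,0,2,0,-4,2⟩,⟨-2,2,-2,2,-2,2,2,-2⟩],
  [⟨2,0,-2,2,0,0,0,-2⟩,⟨-2,2,2,0,0,-2,0,0⟩,⟨2,-2,0,0,-2,0,0,2⟩,⟨-2,0,-2,0,2,0,2,0⟩,⟨0,0,4,-2,2,0,2,-2⟩,⟨2,0,-2,2,0,0,-4,2⟩,⟨-2,2,0,0,-2,0,4,-2⟩,⟨2,-2,2,-2,2,-2,-2,2⟩],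
  [⟨0,2,-2,0,0,0,2,-2⟩,⟨0,0,2,-2,0,-2,-2,0⟩,⟨0,-2,-2,2,-2,0,0,0⟩,⟨-2,0,2,0,2,0,2,0⟩,⟨0,0,0,2,2,0,-2,2⟩,⟨0,2,0,0,-2,2,2,0⟩,⟨2,0,0,-2,2,-2,0,0⟩,⟨-2,0,-2,0,-2,0,-2,0⟩],
  [⟨-2,0,-2,2,0,0,0,-2⟩,⟨0,0,4,0,0,0,0,0⟩,⟨2,0,-2,2,0,0,0,2⟩,⟨-2,2,0,-2,0,0,2,0⟩,⟨0,0,0,-2,-2,0,2,-2⟩,⟨0,-2,0,0,2,-2,-2,0⟩,⟨-2,0,0,2,-2,2,0,0⟩,⟨2,0,2,0,2,0,2,0⟩],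
  [⟨0,0,0,2,2,0,2,-2⟩,⟨0,2,2,0,0,0,-2,2⟩,⟨2,0,-2,0,-2,0,2,0⟩,⟨-2,0,0,-2,2,-2,0,0⟩,⟨-2,0,2,-2,0,0,-4,2⟩,⟨2,-2,-2,2,-2,2,2,-2⟩,⟨-2,2,2,0,4,-2,0,0⟩,⟨2,0,0,0,-4,2,-2,2⟩],
  [⟨0,0,0,0,0,0,0,0⟩,⟨0,0,0,0,0,0,0,0⟩,⟨0,0,0,0,0,0,0,0⟩,⟨0,0,0,0,0,0,0,0⟩,⟨2,0,-2,2,0,0,4,-2⟩,⟨-2,2,2,-2,2,-2,-2,2⟩,⟨2,-2,-2,0,-4,2,0,0⟩,⟨-2,0,0,0,4,-2,2,-2⟩],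
  [⟨2,0,-2,0,2,0,2,0⟩,⟨-2,2,0,-2,0,0,-2,0⟩,⟨2,-2,0,0,-2,0,0,-2⟩,⟨-2,0,0,2,2,-2,0,0⟩,⟨2,-2,0,2,0,0,2,0⟩,⟨-2,2,0,0,2,0,0,2⟩,⟨2,0,0,-2,-2,2,0,0⟩,⟨0,0,-2,0,2,-2,0,-2⟩],
  [⟨2,-2,-2,2,2,-2,2,-2⟩,⟨-4,2,2,0,0,0,-2,2⟩,⟨4,-2,0,0,-2,2,2,0⟩,⟨-2,2,-2,0,4,-2,0,0⟩,⟨-2,2,0,-2,0,0,-2,0⟩,⟨2,-2,0,0,-2,0,0,-2⟩,⟨-2,0,0,2,2,-2,0,0⟩,⟨0,0,2,0,-2,2,0,2⟩]]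

/-- Part 12 of the table of stage 1. -/
def ker1_12 : List (List Ico) := [
  [⟨0,-2,-2,0,0,0,2,-2⟩,⟨-2,0,2,0,2,0,-2,0⟩,⟨2,0,0,2,-2,2,0,0⟩,⟨0,2,0,0,2,-2,2,0⟩,⟨2,0,0,0,0,-2,-2,2⟩,⟨-2,0,-2,0,-2,0,2,0⟩,⟨0,-2,2,-2,2,0,0,0⟩,⟨0,0,-2,2,0,2,-2,0⟩],
  [⟨2,0,-2,2,0,0,0,-2⟩,⟨-2,2,2,0,0,-2,0,0⟩,⟨2,-2,0,0,-2,0,0,2⟩,⟨-2,0,-2,0,2,0,2,0⟩,⟨-2,0,0,0,0,2,2,-2⟩,⟨2,0,2,0,2,0,-2,0⟩,⟨0,2,-2,2,-2,0,0,0⟩,⟨0,0,2,-2,0,-2,2,0⟩],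
  [⟨4,-2,-2,0,0,0,2,-2⟩,⟨-4,2,0,0,2,-2,-2,0⟩,⟨2,-2,2,0,-4,2,0,0⟩,⟨0,0,-2,2,4,-2,2,0⟩,⟨0,2,-2,2,2,0,0,0⟩,⟨0,2,2,-2,-2,0,0,0⟩,⟨2,-2,-2,0,0,-2,0,0⟩,⟨-4,0,0,0,0,0,0,0⟩],
  [⟨2,-2,-2,2,2,2,2,-2⟩,⟨-2,4,2,0,2,0,-2,0⟩,⟨4,0,0,0,-4,0,0,0⟩,⟨-2,0,-2,0,2,-4,2,0⟩,⟨0,-2,2,-2,-2,0,0,0⟩,⟨0,-2,-2,2,2,0,0,0⟩,⟨-2,2,2,0,0,2,0,0⟩,⟨4,0,0,0,0,0,0,0⟩],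
  [⟨2,0,-2,2,0,0,4,-2⟩,⟨-2,2,2,-2,2,-2,-2,2⟩,⟨2,-2,-2,0,-4,2,0,0⟩,⟨-2,0,0,0,4,-2,2,-2⟩,⟨0,0,2,0,2,-2,0,-2⟩,⟨0,0,0,2,-2,0,-2,2⟩,⟨0,0,0,0,0,0,4,0⟩,⟨0,0,0,-2,2,0,-2,2⟩],
  [⟨2,0,-2,0,2,0,2,-4⟩,⟨-2,2,2,0,0,-2,-4,0⟩,⟨2,-2,0,2,-4,0,2,0⟩,⟨-2,0,0,0,4,-2,2,2⟩,⟨0,0,-2,0,-2,2,0,2⟩,⟨0,0,0,-2,2,0,2,-2⟩,⟨0,0,0,0,0,0,-4,0⟩,⟨0,0,0,2,-2,0,2,-2⟩],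
  [⟨2,-2,0,2,0,0,2,0⟩,⟨-2,2,0,0,2,0,0,2⟩,⟨2,0,0,-2,-2,2,0,0⟩,⟨0,0,-2,0,2,-2,0,-2⟩,⟨0,0,2,0,2,-2,0,-2⟩,⟨0,0,0,2,-2,0,-2,2⟩,⟨0,0,0,0,0,0,4,0⟩,⟨0,0,0,-2,2,0,-2,2⟩],
  [⟨2,-2,0,0,2,0,0,-2⟩,⟨-2,2,0,2,0,0,-2,0⟩,⟨2,0,2,0,-2,0,2,0⟩,⟨0,0,-2,0,2,-2,0,2⟩,⟨0,0,-2,0,-2,2,0,2⟩,⟨0,0,0,-2,2,0,2,-2⟩,⟨0,0,0,0,0,0,-4,0⟩,⟨0,0,0,2,-2,0,2,-2⟩],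
  [⟨2,0,0,0,0,-2,2,-2⟩,⟨-2,0,0,0,0,-2,-2,2⟩,⟨0,-2,0,0,-2,2,2,0⟩,⟨0,0,0,0,4,0,0,0⟩,⟨0,2,-2,2,2,0,0,0⟩,⟨0,2,2,-2,-2,0,0,0⟩,⟨2,-2,-2,0,0,-2,0,0⟩,⟨-4,0,0,0,0,0,0,0⟩],
  [⟨0,0,0,2,2,0,2,-2⟩,⟨0,2,2,0,0,0,-2,2⟩,⟨2,0,-2,0,-2,0,2,0⟩,⟨-2,0,0,-2,2,-2,0,0⟩,⟨0,-2,2,-2,-2,0,0,0⟩,⟨0,-2,-2,2,2,0,0,0⟩,⟨-2,2,2,0,0,2,0,0⟩,⟨4,0,0,0,0,0,0,0⟩],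
  [⟨2,-2,0,0,2,0,4,-2⟩,⟨-2,2,0,0,2,0,-4,2⟩,⟨2,0,0,0,-4,2,2,-2⟩,⟨0,0,0,0,4,-4,0,0⟩,⟨2,0,0,0,0,-2,-2,2⟩,⟨-2,0,-2,0,-2,0,2,0⟩,⟨0,-2,2,-2,2,0,0,0⟩,⟨0,0,-2,2,0,2,-2,0⟩],
  [⟨4,0,0,2,2,0,2,-2⟩,⟨-2,4,0,0,0,-2,-2,2⟩,⟨2,-2,0,-2,-4,0,2,0⟩,⟨-2,-2,-2,0,4,-2,0,0⟩,⟨-2,0,0,0,0,2,2,-2⟩,⟨2,0,2,0,2,0,-2,0⟩,⟨0,2,-2,2,-2,0,0,0⟩,⟨0,0,2,-2,0,-2,2,0⟩],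
  [⟨2,0,0,0,0,2,2,-2⟩,⟨0,2,0,0,2,-2,-2,0⟩,⟨0,0,0,0,-4,0,0,0⟩,⟨0,-2,0,0,2,-2,2,0⟩,⟨2,-2,0,2,0,0,2,0⟩,⟨-2,2,0,0,2,0,0,2⟩,⟨2,0,0,-2,-2,2,0,0⟩,⟨0,0,-2,0,2,-2,0,-2⟩],
  [⟨2,-2,0,2,0,0,2,-4⟩,⟨-2,2,2,2,2,-2,-2,2⟩,⟨2,0,0,0,-4,2,2,2⟩,⟨0,0,-2,-2,4,-2,2,0⟩,⟨-2,2,0,-2,0,0,-2,0⟩,⟨2,-2,0,0,-2,0,0,-2⟩,⟨-2,0,0,2,2,-2,0,0⟩,⟨0,0,2,0,-2,2,0,2⟩],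
  [⟨4,0,2,0,-2,2,0,2⟩,⟨0,2,-4,0,2,-2,2,0⟩,⟨-2,0,2,-4,-2,0,-2,0⟩,⟨2,-4,-2,2,0,0,0,-2⟩,⟨2,-2,0,2,0,0,-2,0⟩,⟨-2,2,0,2,0,0,2,0⟩,⟨2,0,2,-2,0,0,0,2⟩,⟨0,0,-4,0,0,0,0,0⟩],
  [⟨4,-2,0,0,-2,2,-2,0⟩,⟨-2,2,-2,2,2,-2,2,-2⟩,⟨0,0,4,-2,-2,0,-2,2⟩,⟨2,-2,-4,2,0,0,2,0⟩,⟨-2,2,0,-2,0,0,2,0⟩,⟨2,-2,0,-2,0,0,-2,0⟩,⟨-2,0,-2,2,0,0,0,-2⟩,⟨0,0,4,0,0,0,0,0⟩],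
  [⟨4,-2,0,0,-2,2,2,0⟩,⟨-2,2,-2,0,4,-2,0,0⟩,⟨0,0,2,-2,-4,2,-2,0⟩,⟨2,-2,-2,2,2,-2,2,-2⟩,⟨-2,0,0,0,0,-2,-2,2⟩,⟨0,-2,0,0,-2,2,2,0⟩,⟨0,0,0,0,4,0,0,0⟩,⟨0,2,0,0,-2,2,-2,0⟩],
  [⟨4,0,0,0,-4,0,0,0⟩,⟨-2,0,-2,0,2,-4,2,0⟩,⟨-2,-2,2,-2,-2,2,-2,2⟩,⟨2,-2,-2,2,2,2,2,-2⟩,⟨2,0,0,0,0,2,2,-2⟩,⟨0,2,0,0,2,-2,-2,0⟩,⟨0,0,0,0,-4,0,0,0⟩,⟨0,-2,0,0,2,-2,2,0⟩],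
  [⟨4,-2,2,-2,-2,0,0,0⟩,⟨-2,0,-4,2,2,-2,0,0⟩,⟨-2,0,4,-2,-2,2,0,0⟩,⟨4,-2,-2,2,2,0,0,0⟩,⟨0,2,-2,2,-2,0,0,0⟩,⟨0,0,2,-2,0,-2,2,0⟩,⟨0,-2,-2,0,0,0,-2,2⟩,⟨-2,0,0,0,0,2,2,-2⟩],
  [⟨4,0,2,0,-2,2,0,-2⟩,⟨0,2,-2,2,2,-4,0,0⟩,⟨-2,0,2,-2,-4,0,0,2⟩,⟨2,-4,-2,0,2,0,2,0⟩,⟨0,-2,2,-2,2,0,0,0⟩,⟨0,0,-2,2,0,2,-2,0⟩,⟨0,2,2,0,0,0,2,-2⟩,⟨2,0,0,0,0,-2,-2,2⟩],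
  [⟨2,0,0,-2,-2,2,0,0⟩,⟨0,0,-2,0,2,-2,0,-2⟩,⟨-2,0,2,0,-2,0,-2,0⟩,⟨2,-2,0,2,0,0,2,0⟩,⟨0,0,2,0,-2,2,0,2⟩,⟨2,0,-2,0,2,0,2,0⟩,⟨-2,2,0,-2,0,0,-2,0⟩,⟨2,-2,0,0,-2,0,0,-2⟩]]

/-- Part 13 of the table of stage 1. -/
def ker1_13 : List (List Ico) := [
  [⟨2,-2,2,0,-4,2,0,0⟩,⟨0,0,-2,2,4,-2,2,0⟩,⟨-2,2,2,-2,-2,2,-2,2⟩,⟨4,-2,-2,0,0,0,2,-2⟩,⟨0,0,-2,0,2,-2,0,-2⟩,⟨-2,0,2,0,-2,0,-2,0⟩,⟨2,-2,0,2,0,0,2,0⟩,⟨-2,2,0,0,2,0,0,2⟩],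
  [⟨4,0,0,0,0,0,0,0⟩,⟨-2,2,-2,0,0,-2,0,0⟩,⟨0,-2,2,-2,-2,0,0,0⟩,⟨0,-2,-2,2,2,0,0,0⟩,⟨0,0,2,0,-2,2,0,2⟩,⟨2,0,-2,0,2,0,2,0⟩,⟨-2,2,0,-2,0,0,-2,0⟩,⟨2,-2,0,0,-2,0,0,-2⟩],
  [⟨4,-2,2,2,-2,0,0,0⟩,⟨-2,2,-2,2,2,-2,2,2⟩,⟨0,0,2,-4,-2,2,0,2⟩,⟨2,-2,-4,0,2,0,0,-2⟩,⟨0,0,-2,0,2,-2,0,-2⟩,⟨-2,0,2,0,-2,0,-2,0⟩,⟨2,-2,0,2,0,0,2,0⟩,⟨-2,2,0,0,2,0,0,2⟩],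
  [⟨2,-2,0,0,-2,0,0,2⟩,⟨-2,0,-2,0,2,0,2,0⟩,⟨0,0,2,-2,0,2,-2,0⟩,⟨2,0,-2,2,0,0,0,-2⟩,⟨0,2,-2,2,-2,0,0,0⟩,⟨0,0,2,-2,0,-2,2,0⟩,⟨0,-2,-2,0,0,0,-2,2⟩,⟨-2,0,0,0,0,2,2,-2⟩],
  [⟨2,0,0,2,-2,2,0,0⟩,⟨0,2,0,0,2,-2,2,0⟩,⟨0,0,0,-2,-2,0,-2,2⟩,⟨0,-2,-2,0,0,0,2,-2⟩,⟨0,-2,2,-2,2,0,0,0⟩,⟨0,0,-2,2,0,2,-2,0⟩,⟨0,2,2,0,0,0,2,-2⟩,⟨2,0,0,0,0,-2,-2,2⟩],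
  [⟨2,-2,2,0,0,2,0,0⟩,⟨0,2,-2,2,2,0,0,0⟩,⟨0,2,2,-2,-2,0,0,0⟩,⟨2,-2,-2,0,0,-2,0,0⟩,⟨-2,0,0,0,0,-2,-2,2⟩,⟨0,-2,0,0,-2,2,2,0⟩,⟨0,0,0,0,4,0,0,0⟩,⟨0,2,0,0,-2,2,-2,0⟩],
  [⟨2,0,2,0,-2,0,-2,0⟩,⟨0,0,-2,2,0,-2,2,0⟩,⟨-2,0,2,-2,0,0,0,2⟩,⟨2,-2,-2,0,0,2,0,0⟩,⟨2,0,0,0,0,2,2,-2⟩,⟨0,2,0,0,2,-2,-2,0⟩,⟨0,0,0,0,-4,0,0,0⟩,⟨0,-2,0,0,2,-2,2,0⟩],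
  [⟨2,0,2,0,-2,0,2,0⟩,⟨0,0,-2,0,2,-2,0,2⟩,⟨-2,0,0,-2,-2,2,0,0⟩,⟨2,-2,0,0,2,0,0,-2⟩,⟨2,-2,0,2,0,0,-2,0⟩,⟨-2,2,0,2,0,0,2,0⟩,⟨2,0,2,-2,0,0,0,2⟩,⟨0,0,-4,0,0,0,0,0⟩],
  [⟨2,-2,0,0,-2,0,0,-2⟩,⟨-2,0,0,2,2,-2,0,0⟩,⟨0,0,2,0,-2,2,0,2⟩,⟨2,0,-2,0,2,0,2,0⟩,⟨-2,2,0,-2,0,0,2,0⟩,⟨2,-2,0,-2,0,0,-2,0⟩,⟨-2,0,-2,2,0,0,0,-2⟩,⟨0,0,4,0,0,0,0,0⟩],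
  [⟨4,0,2,0,-2,2,0,-2⟩,⟨0,2,-2,2,2,-4,0,0⟩,⟨-2,0,2,-2,-4,0,0,2⟩,⟨2,-4,-2,0,2,0,2,0⟩,⟨-2,0,0,0,0,2,-2,2⟩,⟨2,0,0,0,0,2,2,-2⟩,⟨0,2,0,0,2,-2,-2,0⟩,⟨0,0,0,0,-4,0,0,0⟩],
  [⟨2,-2,2,0,-4,2,0,0⟩,⟨0,0,-2,2,4,-2,2,0⟩,⟨-2,2,2,-2,-2,2,-2,2⟩,⟨4,-2,-2,0,0,0,2,-2⟩,⟨2,0,0,0,0,-2,2,-2⟩,⟨-2,0,0,0,0,-2,-2,2⟩,⟨0,-2,0,0,-2,2,2,0⟩,⟨0,0,0,0,4,0,0,0⟩],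
  [⟨2,0,2,0,-2,4,2,0⟩,⟨2,2,-2,0,4,-2,0,0⟩,⟨-2,2,0,-2,-4,0,-2,0⟩,⟨2,-4,0,0,0,-2,2,-2⟩,⟨0,-2,-2,2,-2,0,0,0⟩,⟨-2,0,2,0,2,0,2,0⟩,⟨2,0,0,0,0,2,-2,2⟩,⟨0,2,-2,0,0,0,2,-2⟩],
  [⟨2,0,0,0,-4,2,2,-2⟩,⟨0,0,0,0,4,-4,0,0⟩,⟨-2,0,0,0,-4,2,-2,2⟩,⟨2,-2,0,0,2,0,4,-2⟩,⟨0,2,2,-2,2,0,0,0⟩,⟨2,0,-2,0,-2,0,-2,0⟩,⟨-2,0,0,0,0,-2,2,-2⟩,⟨0,-2,2,0,0,0,-2,2⟩],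
  [⟨2,0,0,-2,-2,2,0,0⟩,⟨0,0,-2,0,2,-2,0,-2⟩,⟨-2,0,2,0,-2,0,-2,0⟩,⟨2,-2,0,2,0,0,2,0⟩,⟨-2,2,0,2,0,0,2,0⟩,⟨2,0,2,-2,0,0,0,2⟩,⟨0,0,-4,0,0,0,0,0⟩,⟨-2,0,2,-2,0,0,0,-2⟩],
  [⟨0,0,2,0,-2,2,0,-2⟩,⟨2,0,0,2,2,-2,0,0⟩,⟨-2,2,0,0,-2,0,0,2⟩,⟨2,-2,0,-2,0,0,2,0⟩,⟨2,-2,0,-2,0,0,-2,0⟩,⟨-2,0,-2,2,0,0,0,-2⟩,⟨0,0,4,0,0,0,0,0⟩,⟨2,0,-2,2,0,0,0,2⟩],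
  [⟨2,0,2,0,-2,0,2,0⟩,⟨0,0,-2,0,2,-2,0,2⟩,⟨-2,0,0,-2,-2,2,0,0⟩,⟨2,-2,0,0,2,0,0,-2⟩,⟨0,0,2,0,-2,2,0,-2⟩,⟨2,0,0,2,2,-2,0,0⟩,⟨-2,2,0,0,-2,0,0,2⟩,⟨2,-2,0,-2,0,0,2,0⟩],
  [⟨2,-2,2,-2,-2,2,2,-2⟩,⟨0,0,-2,2,4,-2,-2,0⟩,⟨-2,2,2,0,-4,2,0,0⟩,⟨4,-2,0,0,2,-2,2,0⟩,⟨0,0,-2,0,2,-2,0,2⟩,⟨-2,0,0,-2,-2,2,0,0⟩,⟨2,-2,0,0,2,0,0,-2⟩,⟨-2,2,0,2,0,0,-2,0⟩],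
  [⟨2,0,0,2,-2,2,0,0⟩,⟨0,2,0,0,2,-2,2,0⟩,⟨0,0,0,-2,-2,0,-2,2⟩,⟨0,-2,-2,0,0,0,2,-2⟩,⟨0,0,2,0,-2,2,0,-2⟩,⟨2,0,0,2,2,-2,0,0⟩,⟨-2,2,0,0,-2,0,0,2⟩,⟨2,-2,0,-2,0,0,2,0⟩],
  [⟨2,-2,0,0,-2,4,0,-2⟩,⟨0,2,0,2,4,-2,0,-2⟩,⟨0,2,2,0,-4,0,-2,2⟩,⟨2,-2,-2,0,0,-2,4,0⟩,⟨0,0,-2,0,2,-2,0,2⟩,⟨-2,0,0,-2,-2,2,0,0⟩,⟨2,-2,0,0,2,0,0,-2⟩,⟨-2,2,0,2,0,0,-2,0⟩],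
  [⟨4,-2,0,0,-2,2,2,0⟩,⟨-2,2,-2,0,4,-2,0,0⟩,⟨0,0,2,-2,-4,2,-2,0⟩,⟨2,-2,-2,2,2,-2,2,-2⟩,⟨-2,2,0,2,0,0,2,0⟩,⟨2,0,2,-2,0,0,0,2⟩,⟨0,0,-4,0,0,0,0,0⟩,⟨-2,0,2,-2,0,0,0,-2⟩],
  [⟨2,-2,2,2,-2,2,2,-2⟩,⟨0,2,0,2,4,-2,0,2⟩,⟨0,2,0,-2,-4,2,0,2⟩,⟨2,-2,-2,-2,2,-2,2,-2⟩,⟨2,-2,0,-2,0,0,-2,0⟩,⟨-2,0,-2,2,0,0,0,-2⟩,⟨0,0,4,0,0,0,0,0⟩,⟨2,0,-2,2,0,0,0,2⟩]]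

/-- Part 14 of the table of stage 1. -/
def ker1_14 : List (List Ico) := [
  [⟨2,-2,2,0,0,2,0,0⟩,⟨0,2,-2,2,2,0,0,0⟩,⟨0,2,2,-2,-2,0,0,0⟩,⟨2,-2,-2,0,0,-2,0,0⟩,⟨0,-2,-2,2,-2,0,0,0⟩,⟨-2,0,2,0,2,0,2,0⟩,⟨2,0,0,0,0,2,-2,2⟩,⟨0,2,-2,0,0,0,2,-2⟩],
  [⟨2,-2,0,0,-2,0,0,-2⟩,⟨-2,0,0,2,2,-2,0,0⟩,⟨0,0,2,0,-2,2,0,2⟩,⟨2,0,-2,0,2,0,2,0⟩,⟨0,2,2,-2,2,0,0,0⟩,⟨2,0,-2,0,-2,0,-2,0⟩,⟨-2,0,0,0,0,-2,2,-2⟩,⟨0,-2,2,0,0,0,-2,2⟩],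
  [⟨2,0,0,0,0,2,2,-2⟩,⟨0,2,0,0,2,-2,-2,0⟩,⟨0,0,0,0,-4,0,0,0⟩,⟨0,-2,0,0,2,-2,2,0⟩,⟨-2,0,0,0,0,2,-2,2⟩,⟨2,0,0,0,0,2,2,-2⟩,⟨0,2,0,0,2,-2,-2,0⟩,⟨0,0,0,0,-4,0,0,0⟩],
  [⟨0,-2,0,0,-2,2,2,0⟩,⟨0,0,0,0,4,0,0,0⟩,⟨0,2,0,0,-2,2,-2,0⟩,⟨2,0,0,0,0,-2,2,-2⟩,⟨2,0,0,0,0,-2,2,-2⟩,⟨-2,0,0,0,0,-2,-2,2⟩,⟨0,-2,0,0,-2,2,2,0⟩,⟨0,0,0,0,4,0,0,0⟩],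
  [⟨4,0,0,0,0,0,0,0⟩,⟨-2,2,-2,0,0,-2,0,0⟩,⟨0,-2,2,-2,-2,0,0,0⟩,⟨0,-2,-2,2,2,0,0,0⟩,⟨0,0,0,0,0,0,0,0⟩,⟨0,0,0,0,0,0,0,0⟩,⟨0,0,0,0,0,0,0,0⟩,⟨0,0,0,0,0,0,0,0⟩],
  [⟨4,-2,-2,2,-2,0,0,0⟩,⟨-4,2,0,0,2,-2,2,0⟩,⟨2,-2,2,-2,-2,2,-2,2⟩,⟨0,0,-4,2,2,0,2,-2⟩,⟨0,0,0,0,0,0,0,0⟩,⟨0,0,0,0,0,0,0,0⟩,⟨0,0,0,0,0,0,0,0⟩,⟨0,0,0,0,0,0,0,0⟩],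
  [⟨4,-2,0,0,-2,2,2,0⟩,⟨-2,2,-2,0,4,-2,0,0⟩,⟨0,0,2,-2,-4,2,-2,0⟩,⟨2,-2,-2,2,2,-2,2,-2⟩,⟨0,0,0,0,0,0,0,0⟩,⟨0,0,0,0,0,0,0,0⟩,⟨0,0,0,0,0,0,0,0⟩,⟨0,0,0,0,0,0,0,0⟩],
  [⟨2,0,0,2,-2,2,0,0⟩,⟨0,2,0,0,2,-2,2,0⟩,⟨0,0,0,-2,-2,0,-2,2⟩,⟨0,-2,-2,0,0,0,2,-2⟩,⟨0,0,0,0,0,0,0,0⟩,⟨0,0,0,0,0,0,0,0⟩,⟨0,0,0,0,0,0,0,0⟩,⟨0,0,0,0,0,0,0,0⟩],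
  [⟨4,0,-2,2,0,2,2,0⟩,⟨-2,4,0,-2,2,-2,0,0⟩,⟨2,-2,0,-2,-4,0,-2,0⟩,⟨-2,-2,-2,2,2,-2,2,-2⟩,⟨-4,0,4,0,0,0,0,0⟩,⟨4,-2,0,2,0,2,0,2⟩,⟨-2,4,-2,0,2,0,2,0⟩,⟨2,0,2,-4,-2,0,-2,0⟩],
  [⟨4,0,0,2,-2,0,2,-2⟩,⟨-2,2,0,0,2,-4,0,2⟩,⟨0,-2,0,-2,-4,2,0,2⟩,⟨0,-2,-2,0,4,0,2,-2⟩,⟨0,0,0,0,4,0,-4,0⟩,⟨0,2,0,2,-4,2,0,-2⟩,⟨2,0,2,0,2,-4,2,0⟩,⟨-2,0,-2,0,-2,0,-2,4⟩],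
  [⟨2,-2,0,2,0,0,2,0⟩,⟨-2,2,0,0,2,0,0,2⟩,⟨2,0,0,-2,-2,2,0,0⟩,⟨0,0,-2,0,2,-2,0,-2⟩,⟨0,0,0,0,-4,0,-4,0⟩,⟨0,-2,0,2,0,-2,4,-2⟩,⟨-2,0,2,0,2,0,-2,4⟩,⟨2,0,-2,0,-2,4,2,0⟩],
  [⟨4,-2,0,2,0,2,0,-2⟩,⟨-2,4,0,2,2,-2,0,0⟩,⟨2,0,2,-2,-4,0,0,2⟩,⟨0,-2,-4,0,2,-2,2,0⟩,⟨-4,0,-4,0,0,0,0,0⟩,⟨0,-2,4,-2,0,2,0,-2⟩,⟨2,0,-2,4,2,0,-2,0⟩,⟨-2,4,2,0,-2,0,2,0⟩],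
  [⟨2,0,-2,0,-2,0,2,0⟩,⟨-2,0,0,-2,2,-2,0,0⟩,⟨0,-2,0,0,-2,2,-2,0⟩,⟨0,0,0,2,2,0,2,-2⟩,⟨4,0,4,0,0,0,0,0⟩,⟨0,2,-4,2,0,-2,0,2⟩,⟨-2,0,2,-4,-2,0,2,0⟩,⟨2,-4,-2,0,2,0,-2,0⟩],
  [⟨4,0,-2,0,-2,2,0,-2⟩,⟨-2,2,0,0,2,-4,0,-2⟩,⟨0,-2,2,0,-4,0,-2,2⟩,⟨0,-2,-2,2,2,0,4,0⟩,⟨0,0,0,0,4,0,4,0⟩,⟨0,2,0,-2,0,2,-4,2⟩,⟨2,0,-2,0,-2,0,2,-4⟩,⟨-2,0,2,0,2,-4,-2,0⟩],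
  [⟨2,-2,-2,0,0,2,0,0⟩,⟨-2,2,0,0,2,0,0,-2⟩,⟨2,0,2,0,-2,0,-2,0⟩,⟨0,0,-2,2,0,-2,2,0⟩,⟨0,0,0,0,-4,0,4,0⟩,⟨0,-2,0,-2,4,-2,0,2⟩,⟨-2,0,-2,0,-2,4,-2,0⟩,⟨2,0,2,0,2,0,2,-4⟩],
  [⟨2,-2,0,0,-2,0,0,-2⟩,⟨-2,0,0,2,2,-2,0,0⟩,⟨0,0,2,0,-2,2,0,2⟩,⟨2,0,-2,0,2,0,2,0⟩,⟨4,0,-4,0,0,0,0,0⟩,⟨-4,2,0,-2,0,-2,0,-2⟩,⟨2,-4,2,0,-2,0,-2,0⟩,⟨-2,0,-2,4,2,0,2,0⟩],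
  [⟨4,-2,-2,0,0,0,2,-2⟩,⟨-4,2,0,0,2,-2,-2,0⟩,⟨2,-2,2,0,-4,2,0,0⟩,⟨0,0,-2,2,4,-2,2,0⟩,⟨0,0,0,0,0,0,0,0⟩,⟨0,0,0,0,0,0,0,0⟩,⟨0,0,0,0,0,0,0,0⟩,⟨0,0,0,0,0,0,0,0⟩],
  [⟨2,0,-2,2,0,0,0,-2⟩,⟨-2,2,2,0,0,-2,0,0⟩,⟨2,-2,0,0,-2,0,0,2⟩,⟨-2,0,-2,0,2,0,2,0⟩,⟨0,0,0,0,0,0,0,0⟩,⟨0,0,0,0,0,0,0,0⟩,⟨0,0,0,0,0,0,0,0⟩,⟨0,0,0,0,0,0,0,0⟩],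
  [⟨2,0,0,0,0,2,2,-2⟩,⟨0,2,0,0,2,-2,-2,0⟩,⟨0,0,0,0,-4,0,0,0⟩,⟨0,-2,0,0,2,-2,2,0⟩,⟨0,0,0,0,0,0,0,0⟩,⟨0,0,0,0,0,0,0,0⟩,⟨0,0,0,0,0,0,0,0⟩,⟨0,0,0,0,0,0,0,0⟩],
  [⟨2,-2,-2,2,-2,2,2,-2⟩,⟨-2,2,2,0,4,-2,0,0⟩,⟨2,0,0,0,-4,2,-2,2⟩,⟨0,0,-2,0,2,-2,4,-2⟩,⟨0,0,0,0,0,0,0,0⟩,⟨0,0,0,0,0,0,0,0⟩,⟨0,0,0,0,0,0,0,0⟩,⟨0,0,0,0,0,0,0,0⟩],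
  [⟨4,-2,2,0,0,0,2,-2⟩,⟨-2,2,-2,2,2,-2,-2,2⟩,⟨0,0,2,-2,-4,2,2,0⟩,⟨2,-2,-2,0,4,-2,0,0⟩,⟨0,0,0,0,0,0,0,0⟩,⟨0,0,0,0,0,0,0,0⟩,⟨0,0,0,0,0,0,0,0⟩,⟨0,0,0,0,0,0,0,0⟩]]

/-- The table of stage 1. -/
def kerTab1 : List (List Ico) := ker1_0 ++ ker1_1 ++ ker1_2 ++ ker1_3 ++ ker1_4 ++ ker1_5 ++ ker1_6 ++ ker1_7 ++ ker1_8 ++ ker1_9 ++ ker1_10 ++ ker1_11 ++ ker1_12 ++ ker1_13 ++ ker1_14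

/-- Labels of base vector 2. -/
def tgt2 : List ℤ := [4,0,0,-4,-8,8,0,0]

/-- Candidates for base vector 2. -/
def cand2 : List (ℕ × ℕ) := [(0,2), (0,3), (0,9), (0,10), (0,11)]

/-- Part 0 of the table of stage 2. -/
def ker2_0 : List (List Ico) := [
  [⟨-4,0,-4,0,-4,0,-4,0⟩,⟨0,-4,4,0,0,0,4,-4⟩,⟨0,0,0,4,4,0,-4,4⟩,⟨0,4,0,0,-4,4,4,0⟩,⟨-2,0,0,-2,-2,-2,0,0⟩,⟨0,-4,0,0,0,0,0,0⟩,⟨-2,0,0,2,2,2,0,0⟩,⟨2,2,2,0,0,2,0,0⟩,⟨8,0,0,0,0,0,0,0⟩,⟨-4,4,-4,0,0,-4,0,0⟩,⟨0,-4,4,-4,-4,0,0,0⟩,⟨0,-4,-4,4,4,0,0,0⟩],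
  [⟨4,0,0,0,0,0,4,0⟩,⟨-2,2,-2,-2,2,-2,-2,2⟩,⟨0,-2,0,-2,-4,2,0,-2⟩,⟨0,-2,0,2,4,-2,0,-2⟩,⟨0,0,-2,2,0,2,2,0⟩,⟨0,2,2,-2,2,0,0,0⟩,⟨2,0,-2,0,-2,0,-2,0⟩,⟨-2,0,0,0,0,-2,2,-2⟩,⟨-4,0,4,0,0,0,0,0⟩,⟨4,-2,0,2,0,2,0,2⟩,⟨-2,4,-2,0,2,0,2,0⟩,⟨2,0,2,-4,-2,0,-2,0⟩],
  [⟨0,0,4,0,-4,0,0,0⟩,⟨2,-2,-2,2,2,-2,2,2⟩,⟨-4,2,0,-2,0,2,0,2⟩,⟨4,-2,0,-2,0,2,0,-2⟩,⟨0,0,0,2,-2,0,2,-2⟩,⟨0,0,2,0,2,-2,0,2⟩,⟨0,0,-2,0,-2,2,0,2⟩,⟨0,0,0,-2,2,0,2,-2⟩,⟨0,0,0,0,4,0,-4,0⟩,⟨0,2,0,2,-4,2,0,-2⟩,⟨2,0,2,0,2,-4,2,0⟩,⟨-2,0,-2,0,-2,0,-2,4⟩],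
  [⟨-4,0,0,0,0,0,4,0⟩,⟨2,-2,2,-2,2,2,-2,2⟩,⟨0,2,-4,2,0,2,0,-2⟩,⟨0,2,4,-2,0,-2,0,-2⟩,⟨-2,-2,0,2,0,0,2,0⟩,⟨0,0,2,0,2,2,0,2⟩,⟨2,2,-2,0,0,2,0,0⟩,⟨0,2,0,-2,0,-2,0,-2⟩,⟨0,0,0,0,-4,0,-4,0⟩,⟨0,-2,0,2,0,-2,4,-2⟩,⟨-2,0,2,0,2,0,-2,4⟩,⟨2,0,-2,0,-2,4,2,0⟩],
  [⟨0,0,4,0,4,0,0,0⟩,⟨2,2,-2,2,-2,2,-2,2⟩,⟨0,2,0,-2,0,-2,4,-2⟩,⟨0,-2,0,-2,0,-2,-4,2⟩,⟨0,-2,0,2,0,2,0,-2⟩,⟨0,2,2,2,2,0,0,0⟩,⟨2,2,0,0,-2,0,0,2⟩,⟨0,0,-2,-2,0,-2,2,0⟩,⟨-4,0,-4,0,0,0,0,0⟩,⟨0,-2,4,-2,0,2,0,-2⟩,⟨2,0,-2,4,2,0,-2,0⟩,⟨-2,4,2,0,-2,0,2,0⟩],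
  [⟨0,0,-4,0,-4,0,0,0⟩,⟨-2,-2,2,-2,2,-2,2,-2⟩,⟨0,-2,0,2,0,2,-4,2⟩,⟨0,2,0,2,0,2,4,-2⟩,⟨-2,0,-2,0,-2,0,2,0⟩,⟨0,-2,2,-2,2,0,0,0⟩,⟨0,0,-2,2,0,2,-2,0⟩,⟨0,2,2,0,0,0,2,-2⟩,⟨4,0,4,0,0,0,0,0⟩,⟨0,2,-4,2,0,-2,0,2⟩,⟨-2,0,2,-4,-2,0,2,0⟩,⟨2,-4,-2,0,2,0,-2,0⟩],
  [⟨4,0,0,0,0,0,-4,0⟩,⟨-2,2,-2,2,-2,-2,2,-2⟩,⟨0,-2,4,-2,0,-2,0,2⟩,⟨0,-2,-4,2,0,2,0,2⟩,⟨0,0,-2,0,-2,2,0,-2⟩,⟨0,0,2,0,2,-2,0,-2⟩,⟨0,0,0,2,-2,0,-2,2⟩,⟨0,0,0,0,0,0,4,0⟩,⟨0,0,0,0,4,0,4,0⟩,⟨0,2,0,-2,0,2,-4,2⟩,⟨2,0,-2,0,-2,0,2,-4⟩,⟨-2,0,2,0,2,-4,-2,0⟩],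
  [⟨0,0,-4,0,4,0,0,0⟩,⟨-2,2,2,-2,-2,2,-2,-2⟩,⟨4,-2,0,2,0,-2,0,-2⟩,⟨-4,2,0,2,0,-2,0,2⟩,⟨-2,-2,-2,0,0,2,0,0⟩,⟨0,0,2,0,2,2,0,-2⟩,⟨2,2,0,2,0,0,-2,0⟩,⟨0,2,0,0,-2,-2,2,0⟩,⟨0,0,0,0,-4,0,4,0⟩,⟨0,-2,0,-2,4,-2,0,2⟩,⟨-2,0,-2,0,-2,4,-2,0⟩,⟨2,0,2,0,2,0,2,-4⟩],
  [⟨-4,0,0,0,0,0,-4,0⟩,⟨2,-2,2,2,-2,2,2,-2⟩,⟨0,2,0,2,4,-2,0,2⟩,⟨0,2,0,-2,-4,2,0,2⟩,⟨-2,-2,0,0,-2,0,0,-2⟩,⟨0,-2,2,2,2,0,0,0⟩,⟨0,2,0,2,0,2,0,2⟩,⟨2,2,0,-2,0,0,2,0⟩,⟨4,0,-4,0,0,0,0,0⟩,⟨-4,2,0,-2,0,-2,0,-2⟩,⟨2,-4,2,0,-2,0,-2,0⟩,⟨-2,0,-2,4,2,0,2,0⟩],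
  [⟨0,0,0,0,0,0,0,0⟩,⟨0,0,0,0,0,0,0,0⟩,⟨0,0,0,0,0,0,0,0⟩,⟨0,0,0,0,0,0,0,0⟩,⟨0,-2,-2,0,0,0,2,-2⟩,⟨-2,0,2,0,2,0,-2,0⟩,⟨2,0,0,2,-2,2,0,0⟩,⟨0,2,0,0,2,-2,2,0⟩,⟨0,0,0,0,0,0,0,0⟩,⟨0,0,0,0,0,0,0,0⟩,⟨0,0,0,0,0,0,0,0⟩,⟨0,0,0,0,0,0,0,0⟩],
  [⟨0,2,0,0,-2,2,2,0⟩,⟨2,0,0,-2,2,-2,0,0⟩,⟨-2,0,-2,0,-2,0,-2,0⟩,⟨0,-2,2,0,0,0,2,-2⟩,⟨4,0,0,0,0,0,0,0⟩,⟨-2,2,-2,0,0,-2,0,0⟩,⟨0,-2,2,-2,-2,0,0,0⟩,⟨0,-2,-2,2,2,0,0,0⟩,⟨0,-2,2,0,0,0,-2,2⟩,⟨0,0,-2,2,0,2,2,0⟩,⟨0,2,2,-2,2,0,0,0⟩,⟨2,0,-2,0,-2,0,-2,0⟩],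
  [⟨0,-2,0,0,2,-2,-2,0⟩,⟨-2,0,0,2,-2,2,0,0⟩,⟨2,0,2,0,2,0,2,0⟩,⟨0,2,-2,0,0,0,-2,2⟩,⟨4,-2,0,0,-2,-2,-2,0⟩,⟨-4,0,-2,2,0,-2,2,0⟩,⟨0,-2,4,-2,0,2,0,2⟩,⟨2,0,-4,2,2,2,0,0⟩,⟨0,2,-2,0,0,0,2,-2⟩,⟨0,0,2,-2,0,-2,-2,0⟩,⟨0,-2,-2,2,-2,0,0,0⟩,⟨-2,0,2,0,2,0,2,0⟩],
  [⟨2,2,2,0,0,-2,0,0⟩,⟨0,0,-2,0,-2,-2,0,2⟩,⟨-2,-2,0,-2,0,0,2,0⟩,⟨0,-2,0,0,2,2,-2,0⟩,⟨8,0,0,0,0,0,0,0⟩,⟨-4,4,-4,0,0,-4,0,0⟩,⟨0,-4,4,-4,-4,0,0,0⟩,⟨0,-4,-4,4,4,0,0,0⟩,⟨-2,0,0,2,2,2,0,0⟩,⟨2,2,2,0,0,2,0,0⟩,⟨2,2,-2,0,0,-2,0,0⟩,⟨-2,0,0,-2,-2,-2,0,0⟩],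
  [⟨-2,-2,-2,0,0,2,0,0⟩,⟨0,0,2,0,2,2,0,-2⟩,⟨2,2,0,2,0,0,-2,0⟩,⟨0,2,0,0,-2,-2,2,0⟩,⟨4,-4,0,0,0,0,0,0⟩,⟨-4,2,-2,2,2,0,0,0⟩,⟨2,0,4,-2,-2,2,0,0⟩,⟨2,0,-4,2,2,-2,0,0⟩,⟨2,0,0,-2,-2,-2,0,0⟩,⟨-2,-2,-2,0,0,-2,0,0⟩,⟨-2,-2,2,0,0,2,0,0⟩,⟨2,0,0,2,2,2,0,0⟩],
  [⟨0,0,0,2,2,0,2,2⟩,⟨0,2,0,-2,0,2,0,2⟩,⟨2,0,-2,-2,0,0,0,-2⟩,⟨-2,0,0,0,0,-2,-2,-2⟩,⟨4,-2,0,2,0,2,0,2⟩,⟨-2,4,-2,0,2,0,2,0⟩,⟨2,0,2,-4,-2,0,-2,0⟩,⟨0,-2,-4,2,0,-2,0,-2⟩,⟨-2,-2,0,0,-2,0,0,-2⟩,⟨0,-2,2,2,2,0,0,0⟩,⟨0,2,0,2,0,2,0,2⟩,⟨2,2,0,-2,0,0,2,0⟩],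
  [⟨0,0,0,-2,-2,0,-2,-2⟩,⟨0,-2,0,2,0,-2,0,-2⟩,⟨-2,0,2,2,0,0,0,2⟩,⟨2,0,0,0,0,2,2,2⟩,⟨4,-2,-2,-2,-2,0,0,0⟩,⟨-4,0,-2,0,2,-2,0,-2⟩,⟨0,-2,4,0,-2,2,-2,0⟩,⟨2,0,-2,4,2,0,2,0⟩,⟨2,2,0,0,2,0,0,2⟩,⟨0,2,-2,-2,-2,0,0,0⟩,⟨0,-2,0,-2,0,-2,0,-2⟩,⟨-2,-2,0,2,0,0,-2,0⟩],
  [⟨-2,0,2,-2,0,0,0,2⟩,⟨2,-2,-2,0,0,2,0,0⟩,⟨-2,2,0,0,2,0,0,-2⟩,⟨2,0,2,0,-2,0,-2,0⟩,⟨4,-2,2,0,0,0,2,2⟩,⟨-2,2,-4,0,2,0,0,2⟩,⟨0,0,2,-4,-2,2,0,-2⟩,⟨2,-2,-2,2,2,-2,-2,-2⟩,⟨0,0,-2,2,0,-2,-2,0⟩,⟨-2,0,2,0,-2,0,2,0⟩,⟨2,-2,0,0,2,0,0,2⟩,⟨-2,2,-2,0,0,2,0,0⟩],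
  [⟨2,0,-2,2,0,0,0,-2⟩,⟨-2,2,2,0,0,-2,0,0⟩,⟨2,-2,0,0,-2,0,0,2⟩,⟨-2,0,-2,0,2,0,2,0⟩,⟨4,0,0,0,0,0,0,0⟩,⟨-2,2,-2,0,0,-2,0,0⟩,⟨0,-2,2,-2,-2,0,0,0⟩,⟨0,-2,-2,2,2,0,0,0⟩,⟨0,0,2,-2,0,2,2,0⟩,⟨2,0,-2,0,2,0,-2,0⟩,⟨-2,2,0,0,-2,0,0,-2⟩,⟨2,-2,2,0,0,-2,0,0⟩],
  [⟨0,0,0,-2,2,0,2,-2⟩,⟨0,0,0,0,0,0,-4,0⟩,⟨0,0,0,2,-2,0,2,-2⟩,⟨0,0,2,0,2,-2,0,2⟩,⟨4,-2,-2,-2,2,0,0,0⟩,⟨-4,2,-2,0,0,0,-2,-2⟩,⟨2,-2,4,0,-2,0,0,-2⟩,⟨0,0,-2,4,2,-2,0,2⟩,⟨-2,2,0,0,-2,0,0,2⟩,⟨2,-2,0,-2,0,0,2,0⟩,⟨-2,0,-2,0,2,0,-2,0⟩,⟨0,0,2,0,-2,2,0,-2⟩],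
  [⟨0,0,0,2,-2,0,-2,2⟩,⟨0,0,0,0,0,0,4,0⟩,⟨0,0,0,-2,2,0,-2,2⟩,⟨0,0,-2,0,-2,2,0,-2⟩,⟨4,0,0,0,0,0,0,0⟩,⟨-2,2,-2,0,0,-2,0,0⟩,⟨0,-2,2,-2,-2,0,0,0⟩,⟨0,-2,-2,2,2,0,0,0⟩,⟨2,-2,0,0,2,0,0,-2⟩,⟨-2,2,0,2,0,0,-2,0⟩,⟨2,0,2,0,-2,0,2,0⟩,⟨0,0,-2,0,2,-2,0,2⟩],
  [⟨-2,2,-2,0,0,-2,0,0⟩,⟨0,-2,2,-2,-2,0,0,0⟩,⟨0,-2,-2,2,2,0,0,0⟩,⟨-2,2,2,0,0,2,0,0⟩,⟨4,-2,0,-2,0,-2,0,2⟩,⟨-4,0,-4,0,0,0,0,0⟩,⟨0,-2,4,-2,0,2,0,-2⟩,⟨2,0,-2,4,2,0,-2,0⟩,⟨2,0,0,2,-2,2,0,0⟩,⟨0,2,0,0,2,-2,2,0⟩,⟨0,0,0,-2,-2,0,-2,2⟩,⟨0,-2,-2,0,0,0,2,-2⟩]]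

/-- Part 1 of the table of stage 2. -/
def ker2_1 : List (List Ico) := [
  [⟨2,-2,2,0,0,2,0,0⟩,⟨0,2,-2,2,2,0,0,0⟩,⟨0,2,2,-2,-2,0,0,0⟩,⟨2,-2,-2,0,0,-2,0,0⟩,⟨4,-4,0,0,0,0,0,0⟩,⟨-4,2,-2,2,2,0,0,0⟩,⟨2,0,4,-2,-2,2,0,0⟩,⟨2,0,-4,2,2,-2,0,0⟩,⟨-2,0,0,-2,2,-2,0,0⟩,⟨0,-2,0,0,-2,2,-2,0⟩,⟨0,0,0,2,2,0,2,-2⟩,⟨0,2,2,0,0,0,-2,2⟩],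
  [⟨2,0,-2,-2,0,0,0,2⟩,⟨-2,0,-2,-2,0,0,0,-2⟩,⟨0,-2,2,0,0,0,-2,-2⟩,⟨0,0,0,4,0,0,0,0⟩,⟨4,-2,0,-2,0,2,0,2⟩,⟨-2,2,-4,0,2,0,0,-2⟩,⟨0,0,4,-2,-2,0,-2,-2⟩,⟨2,-2,-2,4,0,-2,0,0⟩,⟨0,0,2,2,0,-2,2,0⟩,⟨0,0,0,0,0,0,0,4⟩,⟨0,0,-2,-2,0,2,2,0⟩,⟨0,0,0,-2,2,0,-2,-2⟩],
  [⟨-2,0,2,2,0,0,0,-2⟩,⟨2,0,2,2,0,0,0,2⟩,⟨0,2,-2,0,0,0,2,2⟩,⟨0,0,0,-4,0,0,0,0⟩,⟨4,-2,2,0,0,0,-2,-2⟩,⟨-2,2,-2,4,0,-2,0,0⟩,⟨0,0,4,-2,-2,0,2,2⟩,⟨2,-2,-4,0,2,0,0,2⟩,⟨0,0,-2,-2,0,2,-2,0⟩,⟨0,0,0,0,0,0,0,-4⟩,⟨0,0,2,2,0,-2,-2,0⟩,⟨0,0,0,2,-2,0,2,2⟩],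
  [⟨0,-2,0,0,-2,-2,2,0⟩,⟨-2,-2,0,0,2,0,0,2⟩,⟨0,0,0,0,0,4,0,0⟩,⟨2,2,0,0,2,0,0,-2⟩,⟨4,-2,0,0,-2,-2,2,0⟩,⟨-4,0,-2,0,2,-2,0,2⟩,⟨0,-2,2,-2,-2,4,0,0⟩,⟨2,0,-2,2,4,0,0,-2⟩,⟨0,2,2,0,0,0,-2,-2⟩,⟨2,0,0,2,-2,-2,0,0⟩,⟨-2,0,0,0,0,-2,2,2⟩,⟨0,-2,0,-2,0,2,0,2⟩],
  [⟨0,2,0,0,2,2,-2,0⟩,⟨2,2,0,0,-2,0,0,-2⟩,⟨0,0,0,0,0,-4,0,0⟩,⟨-2,-2,0,0,-2,0,0,2⟩,⟨4,-2,0,-2,0,2,0,-2⟩,⟨-2,2,-2,2,2,-2,-2,-2⟩,⟨0,0,4,0,-4,0,0,0⟩,⟨2,-2,-2,2,2,-2,2,2⟩,⟨0,-2,-2,0,0,0,2,2⟩,⟨-2,0,0,-2,2,2,0,0⟩,⟨2,0,0,0,0,2,-2,-2⟩,⟨0,2,0,2,0,-2,0,-2⟩],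
  [⟨0,-2,0,0,-2,-2,2,0⟩,⟨-2,-2,0,0,2,0,0,2⟩,⟨0,0,0,0,0,4,0,0⟩,⟨2,2,0,0,2,0,0,-2⟩,⟨4,-2,0,2,0,-2,0,2⟩,⟨-4,2,-2,0,0,0,2,2⟩,⟨2,-2,2,-4,0,2,0,0⟩,⟨0,0,-4,2,2,0,-2,-2⟩,⟨0,2,2,0,0,0,-2,-2⟩,⟨2,0,0,2,-2,-2,0,0⟩,⟨-2,0,0,0,0,-2,2,2⟩,⟨0,-2,0,-2,0,2,0,2⟩],
  [⟨0,2,0,0,2,2,-2,0⟩,⟨2,2,0,0,-2,0,0,-2⟩,⟨0,0,0,0,0,-4,0,0⟩,⟨-2,-2,0,0,-2,0,0,2⟩,⟨4,-2,0,0,2,2,-2,0⟩,⟨-2,4,-2,2,0,0,0,-2⟩,⟨2,0,4,-2,-2,-2,0,0⟩,⟨0,-2,-4,2,0,-2,0,2⟩,⟨0,-2,-2,0,0,0,2,2⟩,⟨-2,0,0,-2,2,2,0,0⟩,⟨2,0,0,0,0,2,-2,-2⟩,⟨0,2,0,2,0,-2,0,-2⟩],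
  [⟨2,0,-2,-2,0,0,0,2⟩,⟨-2,0,-2,-2,0,0,0,-2⟩,⟨0,-2,2,0,0,0,-2,-2⟩,⟨0,0,0,4,0,0,0,0⟩,⟨4,-2,-2,0,0,0,2,2⟩,⟨-4,2,-2,-2,2,0,0,0⟩,⟨2,-2,2,-2,-2,2,-2,-2⟩,⟨0,0,-2,4,2,-2,0,-2⟩,⟨0,0,2,2,0,-2,2,0⟩,⟨0,0,0,0,0,0,0,4⟩,⟨0,0,-2,-2,0,2,2,0⟩,⟨0,0,0,-2,2,0,-2,-2⟩],
  [⟨-2,0,2,2,0,0,0,-2⟩,⟨2,0,2,2,0,0,0,2⟩,⟨0,2,-2,0,0,0,2,2⟩,⟨0,0,0,-4,0,0,0,0⟩,⟨4,-2,0,2,0,-2,0,-2⟩,⟨-4,2,0,2,0,-2,0,2⟩,⟨2,-2,2,-2,-2,2,2,2⟩,⟨0,0,-4,0,4,0,0,0⟩,⟨0,0,-2,-2,0,2,-2,0⟩,⟨0,0,0,0,0,0,0,-4⟩,⟨0,0,2,2,0,-2,-2,0⟩,⟨0,0,0,2,-2,0,2,2⟩],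
  [⟨-2,2,-2,0,0,-2,0,0⟩,⟨0,-2,2,-2,-2,0,0,0⟩,⟨0,-2,-2,2,2,0,0,0⟩,⟨-2,2,2,0,0,2,0,0⟩,⟨4,0,0,0,0,0,0,0⟩,⟨-2,2,-2,0,0,-2,0,0⟩,⟨0,-2,2,-2,-2,0,0,0⟩,⟨0,-2,-2,2,2,0,0,0⟩,⟨2,0,0,2,-2,2,0,0⟩,⟨0,2,0,0,2,-2,2,0⟩,⟨0,0,0,-2,-2,0,-2,2⟩,⟨0,-2,-2,0,0,0,2,-2⟩],
  [⟨2,-2,2,0,0,2,0,0⟩,⟨0,2,-2,2,2,0,0,0⟩,⟨0,2,2,-2,-2,0,0,0⟩,⟨2,-2,-2,0,0,-2,0,0⟩,⟨4,-2,0,2,0,2,0,-2⟩,⟨-2,4,0,2,2,-2,0,0⟩,⟨2,0,2,-2,-4,0,0,2⟩,⟨0,-2,-4,0,2,-2,2,0⟩,⟨-2,0,0,-2,2,-2,0,0⟩,⟨0,-2,0,0,-2,2,-2,0⟩,⟨0,0,0,2,2,0,2,-2⟩,⟨0,2,2,0,0,0,-2,2⟩],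
  [⟨0,0,0,-2,2,0,2,-2⟩,⟨0,0,0,0,0,0,-4,0⟩,⟨0,0,0,2,-2,0,2,-2⟩,⟨0,0,2,0,2,-2,0,2⟩,⟨4,-4,0,0,0,0,0,0⟩,⟨-4,2,-2,2,2,0,0,0⟩,⟨2,0,4,-2,-2,2,0,0⟩,⟨2,0,-4,2,2,-2,0,0⟩,⟨-2,2,0,0,-2,0,0,2⟩,⟨2,-2,0,-2,0,0,2,0⟩,⟨-2,0,-2,0,2,0,-2,0⟩,⟨0,0,2,0,-2,2,0,-2⟩],
  [⟨0,0,0,2,-2,0,-2,2⟩,⟨0,0,0,0,0,0,4,0⟩,⟨0,0,0,-2,2,0,-2,2⟩,⟨0,0,-2,0,-2,2,0,-2⟩,⟨4,-2,2,2,-2,0,0,0⟩,⟨-2,2,-2,2,2,-2,2,2⟩,⟨0,0,2,-4,-2,2,0,2⟩,⟨2,-2,-4,0,2,0,0,-2⟩,⟨2,-2,0,0,2,0,0,-2⟩,⟨-2,2,0,2,0,0,-2,0⟩,⟨2,0,2,0,-2,0,2,0⟩,⟨0,0,-2,0,2,-2,0,2⟩],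
  [⟨-2,0,2,-2,0,0,0,2⟩,⟨2,-2,-2,0,0,2,0,0⟩,⟨-2,2,0,0,2,0,0,-2⟩,⟨2,0,2,0,-2,0,-2,0⟩,⟨4,-4,0,0,0,0,0,0⟩,⟨-4,2,-2,2,2,0,0,0⟩,⟨2,0,4,-2,-2,2,0,0⟩,⟨2,0,-4,2,2,-2,0,0⟩,⟨0,0,-2,2,0,-2,-2,0⟩,⟨-2,0,2,0,-2,0,2,0⟩,⟨2,-2,0,0,2,0,0,2⟩,⟨-2,2,-2,0,0,2,0,0⟩],
  [⟨2,0,-2,2,0,0,0,-2⟩,⟨-2,2,2,0,0,-2,0,0⟩,⟨2,-2,0,0,-2,0,0,2⟩,⟨-2,0,-2,0,2,0,2,0⟩,⟨4,-2,-2,0,0,0,-2,-2⟩,⟨-4,2,0,2,0,-2,0,-2⟩,⟨2,-2,4,0,-2,0,0,2⟩,⟨0,0,-4,2,2,0,2,2⟩,⟨0,0,2,-2,0,2,2,0⟩,⟨2,0,-2,0,2,0,-2,0⟩,⟨-2,2,0,0,-2,0,0,-2⟩,⟨2,-2,2,0,0,-2,0,0⟩],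
  [⟨0,0,0,2,2,0,2,2⟩,⟨0,2,0,-2,0,2,0,2⟩,⟨2,0,-2,-2,0,0,0,-2⟩,⟨-2,0,0,0,0,-2,-2,-2⟩,⟨4,-2,2,2,2,0,0,0⟩,⟨-2,4,-2,2,0,0,0,2⟩,⟨2,0,2,-4,-2,0,2,0⟩,⟨0,-2,-4,0,2,-2,-2,0⟩,⟨-2,-2,0,0,-2,0,0,-2⟩,⟨0,-2,2,2,2,0,0,0⟩,⟨0,2,0,2,0,2,0,2⟩,⟨2,2,0,-2,0,0,2,0⟩],
  [⟨0,0,0,-2,-2,0,-2,-2⟩,⟨0,-2,0,2,0,-2,0,-2⟩,⟨-2,0,2,2,0,0,0,2⟩,⟨2,0,0,0,0,2,2,2⟩,⟨4,-2,0,-2,0,-2,0,-2⟩,⟨-4,0,-2,2,0,-2,-2,0⟩,⟨0,-2,4,0,-2,2,2,0⟩,⟨2,0,-2,2,4,0,0,2⟩,⟨2,2,0,0,2,0,0,2⟩,⟨0,2,-2,-2,-2,0,0,0⟩,⟨0,-2,0,-2,0,-2,0,-2⟩,⟨-2,-2,0,2,0,0,-2,0⟩],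
  [⟨2,2,2,0,0,-2,0,0⟩,⟨0,0,-2,0,-2,-2,0,2⟩,⟨-2,-2,0,-2,0,0,2,0⟩,⟨0,-2,0,0,2,2,-2,0⟩,⟨4,0,0,0,0,0,0,0⟩,⟨-2,2,-2,0,0,-2,0,0⟩,⟨0,-2,2,-2,-2,0,0,0⟩,⟨0,-2,-2,2,2,0,0,0⟩,⟨-2,0,0,2,2,2,0,0⟩,⟨2,2,2,0,0,2,0,0⟩,⟨2,2,-2,0,0,-2,0,0⟩,⟨-2,0,0,-2,-2,-2,0,0⟩],
  [⟨-2,-2,-2,0,0,2,0,0⟩,⟨0,0,2,0,2,2,0,-2⟩,⟨2,2,0,2,0,0,-2,0⟩,⟨0,2,0,0,-2,-2,2,0⟩,⟨0,-4,0,0,0,0,0,0⟩,⟨-2,0,0,2,2,2,0,0⟩,⟨2,2,2,0,0,2,0,0⟩,⟨2,2,-2,0,0,-2,0,0⟩,⟨2,0,0,-2,-2,-2,0,0⟩,⟨-2,-2,-2,0,0,-2,0,0⟩,⟨-2,-2,2,0,0,2,0,0⟩,⟨2,0,0,2,2,2,0,0⟩],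
  [⟨0,2,0,0,-2,2,2,0⟩,⟨2,0,0,-2,2,-2,0,0⟩,⟨-2,0,-2,0,-2,0,-2,0⟩,⟨0,-2,2,0,0,0,2,-2⟩,⟨4,-2,0,0,2,2,2,0⟩,⟨-2,4,-2,0,2,0,-2,0⟩,⟨2,0,2,-2,-4,0,0,-2⟩,⟨0,-2,-2,2,2,-4,0,0⟩,⟨0,-2,2,0,0,0,-2,2⟩,⟨0,0,-2,2,0,2,2,0⟩,⟨0,2,2,-2,2,0,0,0⟩,⟨2,0,-2,0,-2,0,-2,0⟩],
  [⟨0,-2,0,0,2,-2,-2,0⟩,⟨-2,0,0,2,-2,2,0,0⟩,⟨2,0,2,0,2,0,2,0⟩,⟨0,2,-2,0,0,0,-2,2⟩,⟨4,-4,0,0,0,0,0,0⟩,⟨-4,2,-2,2,2,0,0,0⟩,⟨2,0,4,-2,-2,2,0,0⟩,⟨2,0,-4,2,2,-2,0,0⟩,⟨0,2,-2,0,0,0,2,-2⟩,⟨0,0,2,-2,0,-2,-2,0⟩,⟨0,-2,-2,2,-2,0,0,0⟩,⟨-2,0,2,0,2,0,2,0⟩]]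

/-- Part 2 of the table of stage 2. -/
def ker2_2 : List (List Ico) := [
  [⟨-2,0,2,0,-2,0,2,0⟩,⟨2,-2,0,0,2,0,0,2⟩,⟨-2,2,-2,0,0,2,0,0⟩,⟨2,0,2,-2,0,0,0,-2⟩,⟨2,0,2,0,-2,0,2,0⟩,⟨0,0,-2,0,2,-2,0,2⟩,⟨-2,0,0,-2,-2,2,0,0⟩,⟨2,-2,0,0,2,0,0,-2⟩,⟨0,0,0,0,0,0,-4,0⟩,⟨0,0,0,2,-2,0,2,-2⟩,⟨0,0,2,0,2,-2,0,2⟩,⟨0,0,-2,0,-2,2,0,2⟩],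
  [⟨2,0,-2,0,2,0,-2,0⟩,⟨-2,2,0,0,-2,0,0,-2⟩,⟨2,-2,2,0,0,-2,0,0⟩,⟨-2,0,-2,2,0,0,0,2⟩,⟨2,0,0,-2,-2,2,0,0⟩,⟨0,0,-2,0,2,-2,0,-2⟩,⟨-2,0,2,0,-2,0,-2,0⟩,⟨2,-2,0,2,0,0,2,0⟩,⟨0,0,0,0,0,0,4,0⟩,⟨0,0,0,-2,2,0,-2,2⟩,⟨0,0,-2,0,-2,2,0,-2⟩,⟨0,0,2,0,2,-2,0,-2⟩],
  [⟨2,0,-2,0,-2,0,2,0⟩,⟨-2,0,0,-2,2,-2,0,0⟩,⟨0,-2,0,0,-2,2,-2,0⟩,⟨0,0,0,2,2,0,2,-2⟩,⟨4,0,0,0,0,0,0,0⟩,⟨-2,2,-2,0,0,-2,0,0⟩,⟨0,-2,2,-2,-2,0,0,0⟩,⟨0,-2,-2,2,2,0,0,0⟩,⟨0,0,4,0,0,0,0,0⟩,⟨2,0,-2,2,0,0,0,2⟩,⟨-2,2,0,-2,0,0,2,0⟩,⟨2,-2,0,-2,0,0,-2,0⟩],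
  [⟨-2,0,2,0,2,0,-2,0⟩,⟨2,0,0,2,-2,2,0,0⟩,⟨0,2,0,0,2,-2,2,0⟩,⟨0,0,0,-2,-2,0,-2,2⟩,⟨4,-2,2,0,0,0,-2,-2⟩,⟨-2,2,-2,4,0,-2,0,0⟩,⟨0,0,4,-2,-2,0,2,2⟩,⟨2,-2,-4,0,2,0,0,2⟩,⟨0,0,-4,0,0,0,0,0⟩,⟨-2,0,2,-2,0,0,0,-2⟩,⟨2,-2,0,2,0,0,-2,0⟩,⟨-2,2,0,2,0,0,2,0⟩],
  [⟨2,0,2,0,-2,0,-2,0⟩,⟨0,0,-2,2,0,-2,2,0⟩,⟨-2,0,2,-2,0,0,0,2⟩,⟨2,-2,-2,0,0,2,0,0⟩,⟨4,0,0,0,0,0,0,0⟩,⟨-2,2,-2,0,0,-2,0,0⟩,⟨0,-2,2,-2,-2,0,0,0⟩,⟨0,-2,-2,2,2,0,0,0⟩,⟨0,0,0,0,4,0,0,0⟩,⟨0,2,0,0,-2,2,-2,0⟩,⟨2,0,0,0,0,-2,2,-2⟩,⟨-2,0,0,0,0,-2,-2,2⟩],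
  [⟨-2,0,-2,0,2,0,2,0⟩,⟨0,0,2,-2,0,2,-2,0⟩,⟨2,0,-2,2,0,0,0,-2⟩,⟨-2,2,2,0,0,-2,0,0⟩,⟨2,-2,0,0,2,0,0,2⟩,⟨-2,2,-2,0,0,2,0,0⟩,⟨2,0,2,-2,0,0,0,-2⟩,⟨0,0,-2,2,0,-2,-2,0⟩,⟨0,0,0,0,-4,0,0,0⟩,⟨0,-2,0,0,2,-2,2,0⟩,⟨-2,0,0,0,0,2,-2,2⟩,⟨2,0,0,0,0,2,2,-2⟩],
  [⟨0,-2,0,-2,0,-2,0,2⟩,⟨-2,-2,-2,0,0,2,0,0⟩,⟨0,0,2,0,2,2,0,-2⟩,⟨2,2,0,2,0,0,-2,0⟩,⟨2,-2,0,0,-2,0,0,2⟩,⟨-2,0,-2,0,2,0,2,0⟩,⟨0,0,2,-2,0,2,-2,0⟩,⟨2,0,-2,2,0,0,0,-2⟩,⟨0,2,0,2,0,-2,0,-2⟩,⟨0,0,2,0,-2,-2,0,2⟩,⟨0,-2,-2,0,0,0,2,2⟩,⟨-2,0,0,-2,2,2,0,0⟩],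
  [⟨0,2,0,2,0,2,0,-2⟩,⟨2,2,2,0,0,-2,0,0⟩,⟨0,0,-2,0,-2,-2,0,2⟩,⟨-2,-2,0,-2,0,0,2,0⟩,⟨2,0,0,0,0,2,-2,-2⟩,⟨0,2,0,2,0,-2,0,-2⟩,⟨0,0,2,0,-2,-2,0,2⟩,⟨0,-2,-2,0,0,0,2,2⟩,⟨0,-2,0,-2,0,2,0,2⟩,⟨0,0,-2,0,2,2,0,-2⟩,⟨0,2,2,0,0,0,-2,-2⟩,⟨2,0,0,2,-2,-2,0,0⟩],
  [⟨2,0,2,0,-2,0,-2,0⟩,⟨0,0,-2,2,0,-2,2,0⟩,⟨-2,0,2,-2,0,0,0,2⟩,⟨2,-2,-2,0,0,2,0,0⟩,⟨2,2,0,0,-2,0,0,-2⟩,⟨0,0,0,0,0,-4,0,0⟩,⟨-2,-2,0,0,-2,0,0,2⟩,⟨0,-2,0,0,2,2,2,0⟩,⟨0,0,0,0,4,0,0,0⟩,⟨0,2,0,0,-2,2,-2,0⟩,⟨2,0,0,0,0,-2,2,-2⟩,⟨-2,0,0,0,0,-2,-2,2⟩],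
  [⟨-2,0,-2,0,2,0,2,0⟩,⟨0,0,2,-2,0,2,-2,0⟩,⟨2,0,-2,2,0,0,0,-2⟩,⟨-2,2,2,0,0,-2,0,0⟩,⟨0,0,0,0,0,0,0,0⟩,⟨0,0,0,0,0,0,0,0⟩,⟨0,0,0,0,0,0,0,0⟩,⟨0,0,0,0,0,0,0,0⟩,⟨0,0,0,0,-4,0,0,0⟩,⟨0,-2,0,0,2,-2,2,0⟩,⟨-2,0,0,0,0,2,-2,2⟩,⟨2,0,0,0,0,2,2,-2⟩],
  [⟨2,0,-2,0,-2,0,2,0⟩,⟨-2,0,0,-2,2,-2,0,0⟩,⟨0,-2,0,0,-2,2,-2,0⟩,⟨0,0,0,2,2,0,2,-2⟩,⟨2,0,-2,0,-2,0,2,0⟩,⟨-2,0,0,-2,2,-2,0,0⟩,⟨0,-2,0,0,-2,2,-2,0⟩,⟨0,0,0,2,2,0,2,-2⟩,⟨0,0,4,0,0,0,0,0⟩,⟨2,0,-2,2,0,0,0,2⟩,⟨-2,2,0,-2,0,0,2,0⟩,⟨2,-2,0,-2,0,0,-2,0⟩],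
  [⟨-2,0,2,0,2,0,-2,0⟩,⟨2,0,0,2,-2,2,0,0⟩,⟨0,2,0,0,2,-2,2,0⟩,⟨0,0,0,-2,-2,0,-2,2⟩,⟨2,-2,0,0,-2,0,0,-2⟩,⟨-2,0,0,2,2,-2,0,0⟩,⟨0,0,2,0,-2,2,0,2⟩,⟨2,0,-2,0,2,0,2,0⟩,⟨0,0,-4,0,0,0,0,0⟩,⟨-2,0,2,-2,0,0,0,-2⟩,⟨2,-2,0,2,0,0,-2,0⟩,⟨-2,2,0,2,0,0,2,0⟩],
  [⟨0,0,0,0,-4,4,0,0⟩,⟨2,0,0,0,4,-2,2,-2⟩,⟨-2,2,0,0,-2,0,-4,2⟩,⟨2,-2,0,0,-2,0,4,-2⟩,⟨2,0,0,0,0,2,2,-2⟩,⟨0,2,0,0,2,-2,-2,0⟩,⟨0,0,0,0,-4,0,0,0⟩,⟨0,-2,0,0,2,-2,2,0⟩,⟨2,-2,2,-2,2,-2,-2,2⟩,⟨-2,0,-4,2,-2,2,0,0⟩,⟨0,0,4,-2,2,0,2,-2⟩,⟨2,0,-2,2,0,0,-4,2⟩],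
  [⟨0,0,0,0,4,-4,0,0⟩,⟨-2,0,0,0,-4,2,-2,2⟩,⟨2,-2,0,0,2,0,4,-2⟩,⟨-2,2,0,0,2,0,-4,2⟩,⟨4,0,0,0,0,0,0,0⟩,⟨-2,2,-2,0,0,-2,0,0⟩,⟨0,-2,2,-2,-2,0,0,0⟩,⟨0,-2,-2,2,2,0,0,0⟩,⟨-2,2,-2,2,-2,2,2,-2⟩,⟨2,0,4,-2,2,-2,0,0⟩,⟨0,0,-4,2,-2,0,-2,2⟩,⟨-2,0,2,-2,0,0,4,-2⟩],
  [⟨-2,2,-2,2,-2,-2,2,-2⟩,⟨0,-2,4,-2,0,-2,0,2⟩,⟨0,-2,-4,2,0,2,0,2⟩,⟨-2,2,2,-2,2,2,2,-2⟩,⟨2,2,2,0,0,-2,0,0⟩,⟨0,0,-2,0,-2,-2,0,2⟩,⟨-2,-2,0,-2,0,0,2,0⟩,⟨0,-2,0,0,2,2,-2,0⟩,⟨2,0,2,0,-2,4,-2,0⟩,⟨2,2,-2,2,2,-2,2,-2⟩,⟨-2,2,2,-2,-2,-2,-2,2⟩,⟨2,-4,-2,0,-2,0,2,0⟩],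
  [⟨-2,2,2,-2,-2,2,-2,-2⟩,⟨4,-2,0,2,0,-2,0,-2⟩,⟨-4,2,0,2,0,-2,0,2⟩,⟨2,-2,2,-2,-2,2,2,2⟩,⟨2,0,2,-2,0,0,0,-2⟩,⟨0,0,-2,2,0,-2,-2,0⟩,⟨-2,0,2,0,-2,0,2,0⟩,⟨2,-2,0,0,2,0,0,2⟩,⟨2,0,-2,0,2,0,-2,4⟩,⟨-2,2,-2,-2,-2,2,2,-2⟩,⟨2,-2,2,-2,2,-2,-2,-2⟩,⟨-2,0,-2,4,-2,0,-2,0⟩],
  [⟨-2,2,-2,-2,2,-2,-2,2⟩,⟨0,-2,0,-2,-4,2,0,-2⟩,⟨0,-2,0,2,4,-2,0,-2⟩,⟨-2,2,2,2,-2,2,-2,2⟩,⟨2,0,2,-2,0,0,0,2⟩,⟨0,0,-4,0,0,0,0,0⟩,⟨-2,0,2,-2,0,0,0,-2⟩,⟨2,-2,0,2,0,0,-2,0⟩,⟨2,0,-2,4,-2,0,2,0⟩,⟨-2,2,2,-2,2,-2,2,2⟩,⟨2,-2,-2,-2,-2,2,-2,2⟩,⟨-2,0,-2,0,2,0,2,-4⟩],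
  [⟨2,2,-2,2,-2,2,-2,2⟩,⟨0,2,0,-2,0,-2,4,-2⟩,⟨0,-2,0,-2,0,-2,-4,2⟩,⟨-2,-2,-2,2,-2,2,2,-2⟩,⟨2,2,2,0,0,2,0,0⟩,⟨2,2,-2,0,0,-2,0,0⟩,⟨-2,0,0,-2,-2,-2,0,0⟩,⟨0,-4,0,0,0,0,0,0⟩,⟨2,-4,2,0,2,0,2,0⟩,⟨-2,2,-2,2,2,2,-2,2⟩,⟨2,2,2,-2,-2,2,2,-2⟩,⟨2,0,-2,0,2,-4,-2,0⟩],
  [⟨-2,-2,2,-2,2,-2,2,-2⟩,⟨0,-2,0,2,0,2,-4,2⟩,⟨0,2,0,2,0,2,4,-2⟩,⟨2,2,2,-2,2,-2,-2,2⟩,⟨2,-2,2,0,0,-2,0,0⟩,⟨-2,0,-2,2,0,0,0,2⟩,⟨0,0,2,-2,0,2,2,0⟩,⟨2,0,-2,0,2,0,-2,0⟩,⟨-2,4,-2,0,-2,0,-2,0⟩,⟨2,-2,2,-2,-2,-2,2,-2⟩,⟨-2,-2,-2,2,2,-2,-2,2⟩,⟨-2,0,2,0,-2,4,2,0⟩],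
  [⟨2,-2,2,2,-2,2,2,-2⟩,⟨0,2,0,2,4,-2,0,2⟩,⟨0,2,0,-2,-4,2,0,2⟩,⟨2,-2,-2,-2,2,-2,2,-2⟩,⟨2,0,2,2,0,0,0,-2⟩,⟨0,2,0,2,0,-2,0,2⟩,⟨0,0,0,-2,-2,0,2,2⟩,⟨0,-2,-2,-2,2,0,0,0⟩,⟨-2,0,2,-4,2,0,-2,0⟩,⟨2,-2,-2,2,-2,2,-2,-2⟩,⟨-2,2,2,2,2,-2,2,-2⟩,⟨2,0,2,0,-2,0,-2,4⟩],
  [⟨2,-2,-2,2,2,-2,2,2⟩,⟨-4,2,0,-2,0,2,0,2⟩,⟨4,-2,0,-2,0,2,0,-2⟩,⟨-2,2,-2,2,2,-2,-2,-2⟩,⟨2,0,2,2,0,0,0,2⟩,⟨0,2,-2,0,0,0,2,2⟩,⟨0,0,0,-4,0,0,0,0⟩,⟨0,-2,-2,0,0,0,-2,-2⟩,⟨-2,0,2,0,-2,0,2,-4⟩,⟨2,-2,2,2,2,-2,-2,2⟩,⟨-2,2,-2,2,-2,2,2,2⟩,⟨2,0,2,-4,2,0,2,0⟩]]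

/-- Part 3 of the table of stage 2. -/
def ker2_3 : List (List Ico) := [
  [⟨2,-2,2,-2,2,2,-2,2⟩,⟨0,2,-4,2,0,2,0,-2⟩,⟨0,2,4,-2,0,-2,0,-2⟩,⟨2,-2,-2,2,-2,-2,-2,2⟩,⟨2,-2,2,0,0,2,0,0⟩,⟨0,2,-2,2,2,0,0,0⟩,⟨0,2,2,-2,-2,0,0,0⟩,⟨2,-2,-2,0,0,-2,0,0⟩,⟨-2,0,-2,0,2,-4,2,0⟩,⟨-2,-2,2,-2,-2,2,-2,2⟩,⟨2,-2,-2,2,2,2,2,-2⟩,⟨-2,4,2,0,2,0,-2,0⟩],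
  [⟨-2,2,2,-2,2,-2,2,2⟩,⟨2,-2,-2,-2,-2,2,-2,2⟩,⟨-2,0,-2,0,2,0,2,-4⟩,⟨0,0,4,0,0,0,-4,0⟩,⟨4,-2,2,0,0,0,2,2⟩,⟨-2,2,-4,0,2,0,0,2⟩,⟨0,0,2,-4,-2,2,0,-2⟩,⟨2,-2,-2,2,2,-2,-2,-2⟩,⟨-2,0,-2,4,-2,0,-2,0⟩,⟨0,0,4,0,0,0,4,0⟩,⟨2,0,-2,0,2,0,-2,4⟩,⟨-2,2,-2,-2,-2,2,2,-2⟩],
  [⟨2,-2,2,-2,-2,-2,2,-2⟩,⟨-2,-2,-2,2,2,-2,-2,2⟩,⟨-2,0,2,0,-2,4,2,0⟩,⟨4,0,0,0,4,0,0,0⟩,⟨4,-2,0,0,-2,-2,2,0⟩,⟨-4,0,-2,0,2,-2,0,2⟩,⟨0,-2,2,-2,-2,4,0,0⟩,⟨2,0,-2,2,4,0,0,-2⟩,⟨-2,4,2,0,2,0,-2,0⟩,⟨4,0,0,0,-4,0,0,0⟩,⟨-2,0,-2,0,2,-4,2,0⟩,⟨-2,-2,2,-2,-2,2,-2,2⟩],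
  [⟨-2,2,-2,-2,-2,2,2,-2⟩,⟨2,-2,2,-2,2,-2,-2,-2⟩,⟨-2,0,-2,4,-2,0,-2,0⟩,⟨0,0,4,0,0,0,4,0⟩,⟨2,-2,0,-2,0,0,2,0⟩,⟨-2,0,-2,0,2,0,-2,0⟩,⟨0,0,2,0,-2,2,0,-2⟩,⟨2,0,0,2,2,-2,0,0⟩,⟨2,0,2,0,-2,0,-2,4⟩,⟨0,0,-4,0,0,0,4,0⟩,⟨-2,0,2,-4,2,0,-2,0⟩,⟨2,-2,-2,2,-2,2,-2,-2⟩],
  [⟨2,2,-2,2,2,-2,2,-2⟩,⟨-2,2,2,-2,-2,-2,-2,2⟩,⟨2,-4,-2,0,-2,0,2,0⟩,⟨-4,0,0,0,4,0,0,0⟩,⟨4,0,0,0,0,0,0,0⟩,⟨-2,2,-2,0,0,-2,0,0⟩,⟨0,-2,2,-2,-2,0,0,0⟩,⟨0,-2,-2,2,2,0,0,0⟩,⟨-2,0,2,0,-2,4,2,0⟩,⟨4,0,0,0,4,0,0,0⟩,⟨-2,4,-2,0,-2,0,-2,0⟩,⟨2,-2,2,-2,-2,-2,2,-2⟩],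
  [⟨-2,-2,2,-2,-2,2,-2,2⟩,⟨2,-2,-2,2,2,2,2,-2⟩,⟨-2,4,2,0,2,0,-2,0⟩,⟨4,0,0,0,-4,0,0,0⟩,⟨2,-4,2,0,-2,0,2,0⟩,⟨-2,0,-2,2,4,0,0,2⟩,⟨0,2,2,-2,-2,4,0,0⟩,⟨4,0,-2,0,2,-2,0,-2⟩,⟨2,0,-2,0,2,-4,-2,0⟩,⟨-4,0,0,0,-4,0,0,0⟩,⟨2,-4,2,0,2,0,2,0⟩,⟨-2,2,-2,2,2,2,-2,2⟩],
  [⟨2,-2,2,2,2,-2,-2,2⟩,⟨-2,2,-2,2,-2,2,2,2⟩,⟨2,0,2,-4,2,0,2,0⟩,⟨0,0,-4,0,0,0,-4,0⟩,⟨4,-2,2,2,-2,0,0,0⟩,⟨-2,2,-2,2,2,-2,2,2⟩,⟨0,0,2,-4,-2,2,0,2⟩,⟨2,-2,-4,0,2,0,0,-2⟩,⟨-2,0,-2,0,2,0,2,-4⟩,⟨0,0,4,0,0,0,-4,0⟩,⟨2,0,-2,4,-2,0,2,0⟩,⟨-2,2,2,-2,2,-2,2,2⟩],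
  [⟨-2,2,-2,2,2,2,-2,2⟩,⟨2,2,2,-2,-2,2,2,-2⟩,⟨2,0,-2,0,2,-4,-2,0⟩,⟨-4,0,0,0,-4,0,0,0⟩,⟨2,-2,2,0,0,2,0,0⟩,⟨0,2,-2,2,2,0,0,0⟩,⟨0,2,2,-2,-2,0,0,0⟩,⟨2,-2,-2,0,0,-2,0,0⟩,⟨2,-4,-2,0,-2,0,2,0⟩,⟨-4,0,0,0,4,0,0,0⟩,⟨2,0,2,0,-2,4,-2,0⟩,⟨2,2,-2,2,2,-2,2,-2⟩],
  [⟨2,-2,-2,2,-2,2,-2,-2⟩,⟨-2,2,2,2,2,-2,2,-2⟩,⟨2,0,2,0,-2,0,-2,4⟩,⟨0,0,-4,0,0,0,4,0⟩,⟨2,-2,0,0,-2,0,0,-2⟩,⟨-2,0,0,2,2,-2,0,0⟩,⟨0,0,2,0,-2,2,0,2⟩,⟨2,0,-2,0,2,0,2,0⟩,⟨2,0,2,-4,2,0,2,0⟩,⟨0,0,-4,0,0,0,-4,0⟩,⟨-2,0,2,0,-2,0,2,-4⟩,⟨2,-2,2,2,2,-2,-2,2⟩],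
  [⟨0,0,0,0,0,0,4,-4⟩,⟨0,0,2,0,2,-2,-4,2⟩,⟨0,0,-2,2,-4,2,2,0⟩,⟨0,0,2,-2,4,-2,2,0⟩,⟨2,0,0,0,0,-2,2,-2⟩,⟨-2,0,0,0,0,-2,-2,2⟩,⟨0,-2,0,0,-2,2,2,0⟩,⟨0,0,0,0,4,0,0,0⟩,⟨-2,2,2,-2,-2,2,-2,2⟩,⟨4,-2,-2,0,0,0,2,-2⟩,⟨-4,2,0,0,2,-2,-2,0⟩,⟨2,-2,2,0,-4,2,0,0⟩],
  [⟨0,0,0,0,0,0,-4,4⟩,⟨0,0,-2,0,-2,2,4,-2⟩,⟨0,0,2,-2,4,-2,-2,0⟩,⟨0,0,-2,2,-4,2,-2,0⟩,⟨2,0,2,0,-2,0,2,0⟩,⟨0,0,-2,0,2,-2,0,2⟩,⟨-2,0,0,-2,-2,2,0,0⟩,⟨2,-2,0,0,2,0,0,-2⟩,⟨2,-2,-2,2,2,-2,2,-2⟩,⟨-4,2,2,0,0,0,-2,2⟩,⟨4,-2,0,0,-2,2,2,0⟩,⟨-2,2,-2,0,4,-2,0,0⟩],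
  [⟨2,0,2,0,-2,0,-2,0⟩,⟨0,0,-2,2,0,-2,2,0⟩,⟨-2,0,2,-2,0,0,0,2⟩,⟨2,-2,-2,0,0,2,0,0⟩,⟨4,0,2,0,-2,2,0,-2⟩,⟨0,2,-2,2,2,-4,0,0⟩,⟨-2,0,2,-2,-4,0,0,2⟩,⟨2,-4,-2,0,2,0,2,0⟩,⟨0,0,0,0,4,0,0,0⟩,⟨0,2,0,0,-2,2,-2,0⟩,⟨2,0,0,0,0,-2,2,-2⟩,⟨-2,0,0,0,0,-2,-2,2⟩],
  [⟨-2,0,-2,0,2,0,2,0⟩,⟨0,0,2,-2,0,2,-2,0⟩,⟨2,0,-2,2,0,0,0,-2⟩,⟨-2,2,2,0,0,-2,0,0⟩,⟨2,-2,2,0,0,2,0,0⟩,⟨0,2,-2,2,2,0,0,0⟩,⟨0,2,2,-2,-2,0,0,0⟩,⟨2,-2,-2,0,0,-2,0,0⟩,⟨0,0,0,0,-4,0,0,0⟩,⟨0,-2,0,0,2,-2,2,0⟩,⟨-2,0,0,0,0,2,-2,2⟩,⟨2,0,0,0,0,2,2,-2⟩],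
  [⟨2,0,-2,0,-2,0,2,0⟩,⟨-2,0,0,-2,2,-2,0,0⟩,⟨0,-2,0,0,-2,2,-2,0⟩,⟨0,0,0,2,2,0,2,-2⟩,⟨4,0,0,0,0,0,4,0⟩,⟨-2,2,-2,-2,2,-2,-2,2⟩,⟨0,-2,0,-2,-4,2,0,-2⟩,⟨0,-2,0,2,4,-2,0,-2⟩,⟨0,0,4,0,0,0,0,0⟩,⟨2,0,-2,2,0,0,0,2⟩,⟨-2,2,0,-2,0,0,2,0⟩,⟨2,-2,0,-2,0,0,-2,0⟩],
  [⟨-2,0,2,0,2,0,-2,0⟩,⟨2,0,0,2,-2,2,0,0⟩,⟨0,2,0,0,2,-2,2,0⟩,⟨0,0,0,-2,-2,0,-2,2⟩,⟨4,-2,2,0,0,0,2,-2⟩,⟨-2,2,-2,2,2,-2,-2,2⟩,⟨0,0,2,-2,-4,2,2,0⟩,⟨2,-2,-2,0,4,-2,0,0⟩,⟨0,0,-4,0,0,0,0,0⟩,⟨-2,0,2,-2,0,0,0,-2⟩,⟨2,-2,0,2,0,0,-2,0⟩,⟨-2,2,0,2,0,0,2,0⟩],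
  [⟨0,2,0,-2,0,-2,0,-2⟩,⟨0,-2,0,0,-2,-2,-2,0⟩,⟨-2,-2,0,2,0,0,2,0⟩,⟨0,0,2,0,2,2,0,2⟩,⟨4,0,0,-2,-2,0,2,-2⟩,⟨-2,0,-2,0,2,-4,-2,0⟩,⟨-2,-2,2,0,-4,2,0,0⟩,⟨2,-2,0,2,4,0,2,0⟩,⟨0,2,0,2,0,2,0,2⟩,⟨2,2,0,-2,0,0,2,0⟩,⟨0,0,-2,-2,0,-2,-2,0⟩,⟨-2,-2,0,0,-2,0,0,-2⟩],
  [⟨0,-2,0,2,0,2,0,2⟩,⟨0,2,0,0,2,2,2,0⟩,⟨2,2,0,-2,0,0,-2,0⟩,⟨0,0,-2,0,-2,-2,0,-2⟩,⟨2,-2,2,2,-2,2,2,-2⟩,⟨0,2,0,2,4,-2,0,2⟩,⟨0,2,0,-2,-4,2,0,2⟩,⟨2,-2,-2,-2,2,-2,2,-2⟩,⟨0,-2,0,-2,0,-2,0,-2⟩,⟨-2,-2,0,2,0,0,-2,0⟩,⟨0,0,2,2,0,2,2,0⟩,⟨2,2,0,0,2,0,0,2⟩],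
  [⟨2,0,-2,0,-2,0,2,0⟩,⟨-2,0,0,-2,2,-2,0,0⟩,⟨0,-2,0,0,-2,2,-2,0⟩,⟨0,0,0,2,2,0,2,-2⟩,⟨2,0,2,0,-2,0,2,0⟩,⟨0,0,-2,0,2,-2,0,2⟩,⟨-2,0,0,-2,-2,2,0,0⟩,⟨2,-2,0,0,2,0,0,-2⟩,⟨0,0,4,0,0,0,0,0⟩,⟨2,0,-2,2,0,0,0,2⟩,⟨-2,2,0,-2,0,0,2,0⟩,⟨2,-2,0,-2,0,0,-2,0⟩],
  [⟨-2,0,2,0,2,0,-2,0⟩,⟨2,0,0,2,-2,2,0,0⟩,⟨0,2,0,0,2,-2,2,0⟩,⟨0,0,0,-2,-2,0,-2,2⟩,⟨2,-2,4,0,-2,0,0,-2⟩,⟨0,0,-2,4,2,-2,0,2⟩,⟨-2,2,2,-2,-2,2,2,2⟩,⟨4,-2,-2,-2,2,0,0,0⟩,⟨0,0,-4,0,0,0,0,0⟩,⟨-2,0,2,-2,0,0,0,-2⟩,⟨2,-2,0,2,0,0,-2,0⟩,⟨-2,2,0,2,0,0,2,0⟩],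
  [⟨2,0,2,0,-2,0,-2,0⟩,⟨0,0,-2,2,0,-2,2,0⟩,⟨-2,0,2,-2,0,0,0,2⟩,⟨2,-2,-2,0,0,2,0,0⟩,⟨4,0,0,2,-2,0,2,-2⟩,⟨-2,2,0,0,2,-4,0,2⟩,⟨0,-2,0,-2,-4,2,0,2⟩,⟨0,-2,-2,0,4,0,2,-2⟩,⟨0,0,0,0,4,0,0,0⟩,⟨0,2,0,0,-2,2,-2,0⟩,⟨2,0,0,0,0,-2,2,-2⟩,⟨-2,0,0,0,0,-2,-2,2⟩],
  [⟨-2,0,-2,0,2,0,2,0⟩,⟨0,0,2,-2,0,2,-2,0⟩,⟨2,0,-2,2,0,0,0,-2⟩,⟨-2,2,2,0,0,-2,0,0⟩,⟨2,-2,0,2,0,0,2,0⟩,⟨-2,2,0,0,2,0,0,2⟩,⟨2,0,0,-2,-2,2,0,0⟩,⟨0,0,-2,0,2,-2,0,-2⟩,⟨0,0,0,0,-4,0,0,0⟩,⟨0,-2,0,0,2,-2,2,0⟩,⟨-2,0,0,0,0,2,-2,2⟩,⟨2,0,0,0,0,2,2,-2⟩]]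

/-- Part 4 of the table of stage 2. -/
def ker2_4 : List (List Ico) := [
  [⟨-2,0,2,0,-2,0,2,0⟩,⟨2,-2,0,0,2,0,0,2⟩,⟨-2,2,-2,0,0,2,0,0⟩,⟨2,0,2,-2,0,0,0,-2⟩,⟨2,-2,2,0,0,-2,0,0⟩,⟨-2,0,-2,2,0,0,0,2⟩,⟨0,0,2,-2,0,2,2,0⟩,⟨2,0,-2,0,2,0,-2,0⟩,⟨0,0,0,0,0,0,-4,0⟩,⟨0,0,0,2,-2,0,2,-2⟩,⟨0,0,2,0,2,-2,0,2⟩,⟨0,0,-2,0,-2,2,0,2⟩],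
  [⟨2,0,-2,0,2,0,-2,0⟩,⟨-2,2,0,0,-2,0,0,-2⟩,⟨2,-2,2,0,0,-2,0,0⟩,⟨-2,0,-2,2,0,0,0,2⟩,⟨2,-2,0,-2,0,0,-2,0⟩,⟨-2,0,-2,2,0,0,0,-2⟩,⟨0,0,4,0,0,0,0,0⟩,⟨2,0,-2,2,0,0,0,2⟩,⟨0,0,0,0,0,0,4,0⟩,⟨0,0,0,-2,2,0,-2,2⟩,⟨0,0,-2,0,-2,2,0,-2⟩,⟨0,0,2,0,2,-2,0,-2⟩],
  [⟨2,2,2,-2,-2,2,2,-2⟩,⟨2,0,-2,0,2,-4,-2,0⟩,⟨-4,0,0,0,-4,0,0,0⟩,⟨2,-4,2,0,2,0,2,0⟩,⟨4,0,0,-2,2,0,2,-2⟩,⟨-2,2,-2,0,0,-2,-4,0⟩,⟨0,-2,2,0,-4,0,2,-2⟩,⟨0,-2,0,2,4,-2,0,2⟩,⟨-2,0,2,0,2,0,-2,4⟩,⟨2,0,-2,0,-2,4,2,0⟩,⟨0,2,0,-2,4,-2,0,-2⟩,⟨0,0,0,0,-4,0,-4,0⟩],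
  [⟨-2,2,2,-2,-2,-2,-2,2⟩,⟨2,-4,-2,0,-2,0,2,0⟩,⟨-4,0,0,0,4,0,0,0⟩,⟨2,0,2,0,-2,4,-2,0⟩,⟨4,0,2,-2,0,-2,2,0⟩,⟨-2,0,-4,0,0,-2,-2,2⟩,⟨-2,-2,2,-2,-2,2,2,-2⟩,⟨2,-2,0,2,4,0,-2,0⟩,⟨2,0,-2,4,2,0,-2,0⟩,⟨-2,4,2,0,-2,0,2,0⟩,⟨4,-2,0,-2,0,-2,0,2⟩,⟨-4,0,-4,0,0,0,0,0⟩],
  [⟨-2,2,-2,2,-2,2,2,2⟩,⟨2,0,2,-4,2,0,2,0⟩,⟨0,0,-4,0,0,0,-4,0⟩,⟨-2,0,2,0,-2,0,2,-4⟩,⟨2,0,2,0,2,0,2,0⟩,⟨0,2,-2,0,0,0,-2,2⟩,⟨0,0,0,-2,-2,0,2,-2⟩,⟨0,-2,0,0,2,-2,-2,0⟩,⟨2,-4,2,0,-2,0,-2,0⟩,⟨-2,0,-2,4,2,0,2,0⟩,⟨0,2,4,-2,0,2,0,2⟩,⟨4,0,-4,0,0,0,0,0⟩],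
  [⟨-2,2,2,2,2,-2,2,-2⟩,⟨2,0,2,0,-2,0,-2,4⟩,⟨0,0,-4,0,0,0,4,0⟩,⟨-2,0,2,-4,2,0,-2,0⟩,⟨4,0,2,0,2,-2,0,-2⟩,⟨-2,2,-2,2,-2,-2,-2,2⟩,⟨0,-2,2,-2,-2,0,4,0⟩,⟨0,-2,-2,0,4,0,-2,2⟩,⟨-2,0,-2,0,-2,4,-2,0⟩,⟨2,0,2,0,2,0,2,-4⟩,⟨0,2,0,2,0,-2,-4,2⟩,⟨0,0,0,0,-4,0,4,0⟩],
  [⟨2,-2,-2,-2,-2,2,-2,2⟩,⟨-2,0,-2,0,2,0,2,-4⟩,⟨0,0,4,0,0,0,-4,0⟩,⟨2,0,-2,4,-2,0,2,0⟩,⟨2,-2,0,-2,0,0,2,0⟩,⟨-2,0,-2,0,2,0,-2,0⟩,⟨0,0,2,0,-2,2,0,-2⟩,⟨2,0,0,2,2,-2,0,0⟩,⟨2,0,2,0,2,-4,2,0⟩,⟨-2,0,-2,0,-2,0,-2,4⟩,⟨0,-2,0,-2,0,2,4,-2⟩,⟨0,0,0,0,4,0,-4,0⟩],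
  [⟨2,-2,2,-2,2,-2,-2,-2⟩,⟨-2,0,-2,4,-2,0,-2,0⟩,⟨0,0,4,0,0,0,4,0⟩,⟨2,0,-2,0,2,0,-2,4⟩,⟨4,-2,0,-2,0,-2,0,-2⟩,⟨-4,0,-2,2,0,-2,-2,0⟩,⟨0,-2,4,0,-2,2,2,0⟩,⟨2,0,-2,2,4,0,0,2⟩,⟨-2,4,-2,0,2,0,2,0⟩,⟨2,0,2,-4,-2,0,-2,0⟩,⟨0,-2,-4,2,0,-2,0,-2⟩,⟨-4,0,4,0,0,0,0,0⟩],
  [⟨2,-2,-2,2,2,2,2,-2⟩,⟨-2,4,2,0,2,0,-2,0⟩,⟨4,0,0,0,-4,0,0,0⟩,⟨-2,0,-2,0,2,-4,2,0⟩,⟨2,-2,0,0,2,0,0,-2⟩,⟨-2,2,0,2,0,0,-2,0⟩,⟨2,0,2,0,-2,0,2,0⟩,⟨0,0,-2,0,2,-2,0,2⟩,⟨-2,0,2,-4,-2,0,2,0⟩,⟨2,-4,-2,0,2,0,-2,0⟩,⟨-4,2,0,2,0,2,0,-2⟩,⟨4,0,4,0,0,0,0,0⟩],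
  [⟨-2,-2,-2,2,2,-2,-2,2⟩,⟨-2,0,2,0,-2,4,2,0⟩,⟨4,0,0,0,4,0,0,0⟩,⟨-2,4,-2,0,-2,0,-2,0⟩,⟨2,-2,2,0,0,-2,0,0⟩,⟨-2,0,-2,2,0,0,0,2⟩,⟨0,0,2,-2,0,2,2,0⟩,⟨2,0,-2,0,2,0,-2,0⟩,⟨2,0,-2,0,-2,0,2,-4⟩,⟨-2,0,2,0,2,-4,-2,0⟩,⟨0,-2,0,2,-4,2,0,2⟩,⟨0,0,0,0,4,0,4,0⟩],
  [⟨-4,4,0,0,0,0,0,0⟩,⟨4,-2,2,-2,-2,0,0,0⟩,⟨-2,0,-4,2,2,-2,0,0⟩,⟨-2,0,4,-2,-2,2,0,0⟩,⟨2,0,2,-2,0,0,0,-2⟩,⟨0,0,-2,2,0,-2,-2,0⟩,⟨-2,0,2,0,-2,0,2,0⟩,⟨2,-2,0,0,2,0,0,2⟩,⟨2,-2,-2,2,-2,2,-2,2⟩,⟨-2,2,0,0,2,0,4,-2⟩,⟨2,0,2,-2,0,0,-4,2⟩,⟨0,0,-4,2,-2,0,2,-2⟩],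
  [⟨4,-4,0,0,0,0,0,0⟩,⟨-4,2,-2,2,2,0,0,0⟩,⟨2,0,4,-2,-2,2,0,0⟩,⟨2,0,-4,2,2,-2,0,0⟩,⟨2,-2,0,0,-2,0,0,-2⟩,⟨-2,0,0,2,2,-2,0,0⟩,⟨0,0,2,0,-2,2,0,2⟩,⟨2,0,-2,0,2,0,2,0⟩,⟨-2,2,2,-2,2,-2,2,-2⟩,⟨2,-2,0,0,-2,0,-4,2⟩,⟨-2,0,-2,2,0,0,4,-2⟩,⟨0,0,4,-2,2,0,-2,2⟩],
  [⟨0,0,4,-4,0,0,0,0⟩,⟨2,-2,-4,2,0,0,-2,0⟩,⟨-4,2,2,0,0,0,2,-2⟩,⟨4,-2,2,0,0,0,-2,2⟩,⟨2,-2,0,-2,0,0,2,0⟩,⟨-2,0,-2,0,2,0,-2,0⟩,⟨0,0,2,0,-2,2,0,-2⟩,⟨2,0,0,2,2,-2,0,0⟩,⟨-2,2,-2,2,2,-2,-2,2⟩,⟨0,0,2,-2,-4,2,2,0⟩,⟨2,-2,-2,0,4,-2,0,0⟩,⟨-4,2,0,0,-2,2,-2,0⟩],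
  [⟨0,0,-4,4,0,0,0,0⟩,⟨-2,2,4,-2,0,0,2,0⟩,⟨4,-2,-2,0,0,0,-2,2⟩,⟨-4,2,-2,0,0,0,2,-2⟩,⟨0,0,0,0,0,0,0,0⟩,⟨0,0,0,0,0,0,0,0⟩,⟨0,0,0,0,0,0,0,0⟩,⟨0,0,0,0,0,0,0,0⟩,⟨2,-2,2,-2,-2,2,2,-2⟩,⟨0,0,-2,2,4,-2,-2,0⟩,⟨-2,2,2,0,-4,2,0,0⟩,⟨4,-2,0,0,2,-2,2,0⟩],
  [⟨2,-2,2,-2,-2,2,2,2⟩,⟨0,0,-4,0,4,0,0,0⟩,⟨-2,2,2,-2,-2,2,-2,-2⟩,⟨4,-2,0,2,0,-2,0,-2⟩,⟨2,-2,0,2,0,0,2,0⟩,⟨-2,2,0,0,2,0,0,2⟩,⟨2,0,0,-2,-2,2,0,0⟩,⟨0,0,-2,0,2,-2,0,-2⟩,⟨-2,0,2,0,2,-4,-2,0⟩,⟨0,-2,0,2,-4,2,0,2⟩,⟨0,0,0,0,4,0,4,0⟩,⟨0,2,0,-2,0,2,-4,2⟩],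
  [⟨2,2,2,-2,2,-2,-2,2⟩,⟨0,0,-4,0,-4,0,0,0⟩,⟨-2,-2,2,-2,2,-2,2,-2⟩,⟨0,-2,0,2,0,2,-4,2⟩,⟨4,0,0,0,0,0,0,0⟩,⟨-2,2,-2,0,0,-2,0,0⟩,⟨0,-2,2,-2,-2,0,0,0⟩,⟨0,-2,-2,2,2,0,0,0⟩,⟨-2,0,-2,4,2,0,2,0⟩,⟨0,2,4,-2,0,2,0,2⟩,⟨4,0,-4,0,0,0,0,0⟩,⟨-4,2,0,-2,0,-2,0,-2⟩],
  [⟨-2,2,2,-2,2,2,2,-2⟩,⟨4,0,0,0,0,0,-4,0⟩,⟨-2,2,-2,2,-2,-2,2,-2⟩,⟨0,-2,4,-2,0,-2,0,2⟩,⟨2,-2,0,0,2,0,0,-2⟩,⟨-2,2,0,2,0,0,-2,0⟩,⟨2,0,2,0,-2,0,2,0⟩,⟨0,0,-2,0,2,-2,0,2⟩,⟨-2,0,-2,0,-2,0,-2,4⟩,⟨0,-2,0,-2,0,2,4,-2⟩,⟨0,0,0,0,4,0,-4,0⟩,⟨0,2,0,2,-4,2,0,-2⟩],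
  [⟨-2,2,2,2,-2,2,-2,2⟩,⟨4,0,0,0,0,0,4,0⟩,⟨-2,2,-2,-2,2,-2,-2,2⟩,⟨0,-2,0,-2,-4,2,0,-2⟩,⟨2,0,2,2,0,0,0,-2⟩,⟨0,2,0,2,0,-2,0,2⟩,⟨0,0,0,-2,-2,0,2,2⟩,⟨0,-2,-2,-2,2,0,0,0⟩,⟨2,-4,-2,0,2,0,-2,0⟩,⟨-4,2,0,2,0,2,0,-2⟩,⟨4,0,4,0,0,0,0,0⟩,⟨0,2,-4,2,0,-2,0,2⟩],
  [⟨2,-2,-2,-2,2,-2,2,-2⟩,⟨-4,0,0,0,0,0,-4,0⟩,⟨2,-2,2,2,-2,2,2,-2⟩,⟨0,2,0,2,4,-2,0,2⟩,⟨2,-2,-2,0,0,-2,0,0⟩,⟨-4,0,0,0,0,0,0,0⟩,⟨2,-2,2,0,0,2,0,0⟩,⟨0,2,-2,2,2,0,0,0⟩,⟨-2,4,2,0,-2,0,2,0⟩,⟨4,-2,0,-2,0,-2,0,2⟩,⟨-4,0,-4,0,0,0,0,0⟩,⟨0,-2,4,-2,0,2,0,-2⟩],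
  [⟨2,-2,-2,2,-2,-2,-2,2⟩,⟨-4,0,0,0,0,0,4,0⟩,⟨2,-2,2,-2,2,2,-2,2⟩,⟨0,2,-4,2,0,2,0,-2⟩,⟨2,0,0,2,-2,-2,0,0⟩,⟨-2,0,0,0,0,-2,2,2⟩,⟨0,-2,0,-2,0,2,0,2⟩,⟨0,0,-2,0,2,2,0,-2⟩,⟨2,0,2,0,2,0,2,-4⟩,⟨0,2,0,2,0,-2,-4,2⟩,⟨0,0,0,0,-4,0,4,0⟩,⟨0,-2,0,-2,4,-2,0,2⟩],
  [⟨-2,-2,-2,2,-2,2,2,-2⟩,⟨0,0,4,0,4,0,0,0⟩,⟨2,2,-2,2,-2,2,-2,2⟩,⟨0,2,0,-2,0,-2,4,-2⟩,⟨0,-2,0,2,0,-2,0,-2⟩,⟨-2,0,2,2,0,0,0,2⟩,⟨2,0,0,0,0,2,2,2⟩,⟨0,2,-2,-2,2,0,0,0⟩,⟨2,0,2,-4,-2,0,-2,0⟩,⟨0,-2,-4,2,0,-2,0,-2⟩,⟨-4,0,4,0,0,0,0,0⟩,⟨4,-2,0,2,0,2,0,2⟩]]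

/-- Part 5 of the table of stage 2. -/
def ker2_5 : List (List Ico) := [
  [⟨-2,2,-2,2,2,-2,-2,-2⟩,⟨0,0,4,0,-4,0,0,0⟩,⟨2,-2,-2,2,2,-2,2,2⟩,⟨-4,2,0,-2,0,2,0,2⟩,⟨2,0,0,0,0,-2,-2,-2⟩,⟨-2,0,0,2,-2,-2,0,0⟩,⟨0,-2,2,0,0,0,2,2⟩,⟨0,0,-2,0,2,2,0,2⟩,⟨2,0,-2,0,-2,4,2,0⟩,⟨0,2,0,-2,4,-2,0,-2⟩,⟨0,0,0,0,-4,0,-4,0⟩,⟨0,-2,0,2,0,-2,4,-2⟩],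
  [⟨-2,0,2,0,-2,0,2,0⟩,⟨2,-2,0,0,2,0,0,2⟩,⟨-2,2,-2,0,0,2,0,0⟩,⟨2,0,2,-2,0,0,0,-2⟩,⟨4,-2,2,0,0,0,2,-2⟩,⟨-2,2,-2,2,2,-2,-2,2⟩,⟨0,0,2,-2,-4,2,2,0⟩,⟨2,-2,-2,0,4,-2,0,0⟩,⟨0,0,0,0,0,0,-4,0⟩,⟨0,0,0,2,-2,0,2,-2⟩,⟨0,0,2,0,2,-2,0,2⟩,⟨0,0,-2,0,-2,2,0,2⟩],
  [⟨2,0,-2,0,2,0,-2,0⟩,⟨-2,2,0,0,-2,0,0,-2⟩,⟨2,-2,2,0,0,-2,0,0⟩,⟨-2,0,-2,2,0,0,0,2⟩,⟨4,-2,0,-2,0,2,0,-2⟩,⟨-2,2,-2,2,2,-2,-2,-2⟩,⟨0,0,4,0,-4,0,0,0⟩,⟨2,-2,-2,2,2,-2,2,2⟩,⟨0,0,0,0,0,0,4,0⟩,⟨0,0,0,-2,2,0,-2,2⟩,⟨0,0,-2,0,-2,2,0,-2⟩,⟨0,0,2,0,2,-2,0,-2⟩],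
  [⟨0,2,0,2,0,-2,0,2⟩,⟨0,0,0,-2,-2,0,2,2⟩,⟨0,-2,-2,-2,2,0,0,0⟩,⟨-2,0,0,0,0,2,-2,-2⟩,⟨4,0,4,0,0,0,0,0⟩,⟨0,2,-4,2,0,-2,0,2⟩,⟨-2,0,2,-4,-2,0,2,0⟩,⟨2,-4,-2,0,2,0,-2,0⟩,⟨0,-2,0,2,0,2,0,-2⟩,⟨0,2,2,2,2,0,0,0⟩,⟨2,2,0,0,-2,0,0,2⟩,⟨0,0,-2,-2,0,-2,2,0⟩],
  [⟨0,-2,0,-2,0,2,0,-2⟩,⟨0,0,0,2,2,0,-2,-2⟩,⟨0,2,2,2,-2,0,0,0⟩,⟨2,0,0,0,0,-2,2,2⟩,⟨2,-4,2,-2,0,0,0,-2⟩,⟨-2,0,-2,4,2,0,-2,0⟩,⟨0,2,4,0,-2,2,2,0⟩,⟨4,0,-2,0,2,-2,0,2⟩,⟨0,2,0,-2,0,-2,0,2⟩,⟨0,-2,-2,-2,-2,0,0,0⟩,⟨-2,-2,0,0,2,0,0,-2⟩,⟨0,0,2,2,0,2,-2,0⟩],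
  [⟨-2,0,2,0,-2,0,2,0⟩,⟨2,-2,0,0,2,0,0,2⟩,⟨-2,2,-2,0,0,2,0,0⟩,⟨2,0,2,-2,0,0,0,-2⟩,⟨2,0,4,0,0,-2,2,-2⟩,⟨0,0,-2,2,0,-2,-2,4⟩,⟨-2,0,0,-2,-2,2,4,0⟩,⟨2,-2,0,-2,4,0,-2,0⟩,⟨0,0,0,0,0,0,-4,0⟩,⟨0,0,0,2,-2,0,2,-2⟩,⟨0,0,2,0,2,-2,0,2⟩,⟨0,0,-2,0,-2,2,0,2⟩],
  [⟨2,0,-2,0,2,0,-2,0⟩,⟨-2,2,0,0,-2,0,0,-2⟩,⟨2,-2,2,0,0,-2,0,0⟩,⟨-2,0,-2,2,0,0,0,2⟩,⟨2,0,2,-2,0,0,0,-2⟩,⟨0,0,-2,2,0,-2,-2,0⟩,⟨-2,0,2,0,-2,0,2,0⟩,⟨2,-2,0,0,2,0,0,2⟩,⟨0,0,0,0,0,0,4,0⟩,⟨0,0,0,-2,2,0,-2,2⟩,⟨0,0,-2,0,-2,2,0,-2⟩,⟨0,0,2,0,2,-2,0,-2⟩],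
  [⟨0,2,0,-2,0,2,0,2⟩,⟨2,0,-2,-2,0,0,0,-2⟩,⟨-2,0,0,0,0,-2,-2,-2⟩,⟨0,-2,2,2,-2,0,0,0⟩,⟨4,-2,0,0,2,2,2,0⟩,⟨-2,4,-2,0,2,0,-2,0⟩,⟨2,0,2,-2,-4,0,0,-2⟩,⟨0,-2,-2,2,2,-4,0,0⟩,⟨0,-2,0,2,0,-2,0,2⟩,⟨-2,0,0,0,0,2,2,2⟩,⟨2,0,0,-2,2,2,0,0⟩,⟨0,2,-2,0,0,0,-2,-2⟩],
  [⟨0,-2,0,2,0,-2,0,-2⟩,⟨-2,0,2,2,0,0,0,2⟩,⟨2,0,0,0,0,2,2,2⟩,⟨0,2,-2,-2,2,0,0,0⟩,⟨4,-2,0,2,0,-2,0,-2⟩,⟨-4,2,0,2,0,-2,0,2⟩,⟨2,-2,2,-2,-2,2,2,2⟩,⟨0,0,-4,0,4,0,0,0⟩,⟨0,2,0,-2,0,2,0,-2⟩,⟨2,0,0,0,0,-2,-2,-2⟩,⟨-2,0,0,2,-2,-2,0,0⟩,⟨0,-2,2,0,0,0,2,2⟩],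
  [⟨2,0,2,0,2,0,2,0⟩,⟨0,2,-2,0,0,0,-2,2⟩,⟨0,0,0,-2,-2,0,2,-2⟩,⟨0,-2,0,0,2,-2,-2,0⟩,⟨4,-2,2,0,0,0,2,-2⟩,⟨-2,2,-2,2,2,-2,-2,2⟩,⟨0,0,2,-2,-4,2,2,0⟩,⟨2,-2,-2,0,4,-2,0,0⟩,⟨-4,0,0,0,0,0,0,0⟩,⟨2,-2,2,0,0,2,0,0⟩,⟨0,2,-2,2,2,0,0,0⟩,⟨0,2,2,-2,-2,0,0,0⟩],
  [⟨-2,0,-2,0,-2,0,-2,0⟩,⟨0,-2,2,0,0,0,2,-2⟩,⟨0,0,0,2,2,0,-2,2⟩,⟨0,2,0,0,-2,2,2,0⟩,⟨2,-2,2,-2,-2,-2,2,-2⟩,⟨-2,-2,-2,2,2,-2,-2,2⟩,⟨-2,0,2,0,-2,4,2,0⟩,⟨4,0,0,0,4,0,0,0⟩,⟨4,0,0,0,0,0,0,0⟩,⟨-2,2,-2,0,0,-2,0,0⟩,⟨0,-2,2,-2,-2,0,0,0⟩,⟨0,-2,-2,2,2,0,0,0⟩],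
  [⟨2,0,2,0,2,0,2,0⟩,⟨0,2,-2,0,0,0,-2,2⟩,⟨0,0,0,-2,-2,0,2,-2⟩,⟨0,-2,0,0,2,-2,-2,0⟩,⟨4,-2,0,2,0,2,0,-2⟩,⟨-2,4,0,2,2,-2,0,0⟩,⟨2,0,2,-2,-4,0,0,2⟩,⟨0,-2,-4,0,2,-2,2,0⟩,⟨-4,0,0,0,0,0,0,0⟩,⟨2,-2,2,0,0,2,0,0⟩,⟨0,2,-2,2,2,0,0,0⟩,⟨0,2,2,-2,-2,0,0,0⟩],
  [⟨-2,0,-2,0,-2,0,-2,0⟩,⟨0,-2,2,0,0,0,2,-2⟩,⟨0,0,0,2,2,0,-2,2⟩,⟨0,2,0,0,-2,2,2,0⟩,⟨2,-2,0,0,-2,0,0,-2⟩,⟨-2,0,0,2,2,-2,0,0⟩,⟨0,0,2,0,-2,2,0,2⟩,⟨2,0,-2,0,2,0,2,0⟩,⟨4,0,0,0,0,0,0,0⟩,⟨-2,2,-2,0,0,-2,0,0⟩,⟨0,-2,2,-2,-2,0,0,0⟩,⟨0,-2,-2,2,2,0,0,0⟩],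
  [⟨2,0,2,0,2,0,2,0⟩,⟨0,2,-2,0,0,0,-2,2⟩,⟨0,0,0,-2,-2,0,2,-2⟩,⟨0,-2,0,0,2,-2,-2,0⟩,⟨2,0,0,0,0,2,2,-2⟩,⟨0,2,0,0,2,-2,-2,0⟩,⟨0,0,0,0,-4,0,0,0⟩,⟨0,-2,0,0,2,-2,2,0⟩,⟨-4,0,0,0,0,0,0,0⟩,⟨2,-2,2,0,0,2,0,0⟩,⟨0,2,-2,2,2,0,0,0⟩,⟨0,2,2,-2,-2,0,0,0⟩],
  [⟨-2,0,-2,0,-2,0,-2,0⟩,⟨0,-2,2,0,0,0,2,-2⟩,⟨0,0,0,2,2,0,-2,2⟩,⟨0,2,0,0,-2,2,2,0⟩,⟨0,0,0,-2,-2,0,2,-2⟩,⟨0,-2,0,0,2,-2,-2,0⟩,⟨-2,0,0,2,-2,2,0,0⟩,⟨2,0,2,0,2,0,2,0⟩,⟨4,0,0,0,0,0,0,0⟩,⟨-2,2,-2,0,0,-2,0,0⟩,⟨0,-2,2,-2,-2,0,0,0⟩,⟨0,-2,-2,2,2,0,0,0⟩],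
  [⟨2,0,2,0,2,0,2,0⟩,⟨0,2,-2,0,0,0,-2,2⟩,⟨0,0,0,-2,-2,0,2,-2⟩,⟨0,-2,0,0,2,-2,-2,0⟩,⟨4,0,0,2,2,0,2,-2⟩,⟨-2,4,0,0,0,-2,-2,2⟩,⟨2,-2,0,-2,-4,0,2,0⟩,⟨-2,-2,-2,0,4,-2,0,0⟩,⟨-4,0,0,0,0,0,0,0⟩,⟨2,-2,2,0,0,2,0,0⟩,⟨0,2,-2,2,2,0,0,0⟩,⟨0,2,2,-2,-2,0,0,0⟩],
  [⟨-2,0,-2,0,-2,0,-2,0⟩,⟨0,-2,2,0,0,0,2,-2⟩,⟨0,0,0,2,2,0,-2,2⟩,⟨0,2,0,0,-2,2,2,0⟩,⟨2,0,0,0,0,-2,2,-2⟩,⟨-2,0,0,0,0,-2,-2,2⟩,⟨0,-2,0,0,-2,2,2,0⟩,⟨0,0,0,0,4,0,0,0⟩,⟨4,0,0,0,0,0,0,0⟩,⟨-2,2,-2,0,0,-2,0,0⟩,⟨0,-2,2,-2,-2,0,0,0⟩,⟨0,-2,-2,2,2,0,0,0⟩],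
  [⟨2,0,2,0,2,0,2,0⟩,⟨0,2,-2,0,0,0,-2,2⟩,⟨0,0,0,-2,-2,0,2,-2⟩,⟨0,-2,0,0,2,-2,-2,0⟩,⟨2,-2,2,0,0,2,0,0⟩,⟨0,2,-2,2,2,0,0,0⟩,⟨0,2,2,-2,-2,0,0,0⟩,⟨2,-2,-2,0,0,-2,0,0⟩,⟨-4,0,0,0,0,0,0,0⟩,⟨2,-2,2,0,0,2,0,0⟩,⟨0,2,-2,2,2,0,0,0⟩,⟨0,2,2,-2,-2,0,0,0⟩],
  [⟨-2,0,-2,0,-2,0,-2,0⟩,⟨0,-2,2,0,0,0,2,-2⟩,⟨0,0,0,2,2,0,-2,2⟩,⟨0,2,0,0,-2,2,2,0⟩,⟨0,-2,2,-2,-2,0,0,0⟩,⟨0,-2,-2,2,2,0,0,0⟩,⟨-2,2,2,0,0,2,0,0⟩,⟨4,0,0,0,0,0,0,0⟩,⟨4,0,0,0,0,0,0,0⟩,⟨-2,2,-2,0,0,-2,0,0⟩,⟨0,-2,2,-2,-2,0,0,0⟩,⟨0,-2,-2,2,2,0,0,0⟩],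
  [⟨2,0,2,0,2,0,2,0⟩,⟨0,2,-2,0,0,0,-2,2⟩,⟨0,0,0,-2,-2,0,2,-2⟩,⟨0,-2,0,0,2,-2,-2,0⟩,⟨4,-2,2,2,2,0,0,0⟩,⟨-2,4,-2,2,0,0,0,2⟩,⟨2,0,2,-4,-2,0,2,0⟩,⟨0,-2,-4,0,2,-2,-2,0⟩,⟨-4,0,0,0,0,0,0,0⟩,⟨2,-2,2,0,0,2,0,0⟩,⟨0,2,-2,2,2,0,0,0⟩,⟨0,2,2,-2,-2,0,0,0⟩],
  [⟨-2,0,-2,0,-2,0,-2,0⟩,⟨0,-2,2,0,0,0,2,-2⟩,⟨0,0,0,2,2,0,-2,2⟩,⟨0,2,0,0,-2,2,2,0⟩,⟨2,-2,2,0,0,-2,0,0⟩,⟨-2,0,-2,2,0,0,0,2⟩,⟨0,0,2,-2,0,2,2,0⟩,⟨2,0,-2,0,2,0,-2,0⟩,⟨4,0,0,0,0,0,0,0⟩,⟨-2,2,-2,0,0,-2,0,0⟩,⟨0,-2,2,-2,-2,0,0,0⟩,⟨0,-2,-2,2,2,0,0,0⟩]]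

/-- Part 6 of the table of stage 2. -/
def ker2_6 : List (List Ico) := [
  [⟨2,0,2,0,2,0,2,0⟩,⟨0,2,-2,0,0,0,-2,2⟩,⟨0,0,0,-2,-2,0,2,-2⟩,⟨0,-2,0,0,2,-2,-2,0⟩,⟨2,0,2,0,2,0,2,0⟩,⟨0,2,-2,0,0,0,-2,2⟩,⟨0,0,0,-2,-2,0,2,-2⟩,⟨0,-2,0,0,2,-2,-2,0⟩,⟨-4,0,0,0,0,0,0,0⟩,⟨2,-2,2,0,0,2,0,0⟩,⟨0,2,-2,2,2,0,0,0⟩,⟨0,2,2,-2,-2,0,0,0⟩],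
  [⟨-2,0,-2,0,-2,0,-2,0⟩,⟨0,-2,2,0,0,0,2,-2⟩,⟨0,0,0,2,2,0,-2,2⟩,⟨0,2,0,0,-2,2,2,0⟩,⟨0,0,2,-2,0,-2,2,0⟩,⟨0,-2,-2,0,0,0,-2,2⟩,⟨-2,0,0,0,0,2,2,-2⟩,⟨2,0,2,0,2,0,-2,0⟩,⟨4,0,0,0,0,0,0,0⟩,⟨-2,2,-2,0,0,-2,0,0⟩,⟨0,-2,2,-2,-2,0,0,0⟩,⟨0,-2,-2,2,2,0,0,0⟩],
  [⟨2,0,2,0,2,0,2,0⟩,⟨0,2,-2,0,0,0,-2,2⟩,⟨0,0,0,-2,-2,0,2,-2⟩,⟨0,-2,0,0,2,-2,-2,0⟩,⟨2,0,0,2,2,2,0,0⟩,⟨0,4,0,0,0,0,0,0⟩,⟨2,0,0,-2,-2,-2,0,0⟩,⟨-2,-2,-2,0,0,-2,0,0⟩,⟨-4,0,0,0,0,0,0,0⟩,⟨2,-2,2,0,0,2,0,0⟩,⟨0,2,-2,2,2,0,0,0⟩,⟨0,2,2,-2,-2,0,0,0⟩],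
  [⟨-2,0,-2,0,-2,0,-2,0⟩,⟨0,-2,2,0,0,0,2,-2⟩,⟨0,0,0,2,2,0,-2,2⟩,⟨0,2,0,0,-2,2,2,0⟩,⟨0,0,0,0,0,0,0,0⟩,⟨0,0,0,0,0,0,0,0⟩,⟨0,0,0,0,0,0,0,0⟩,⟨0,0,0,0,0,0,0,0⟩,⟨4,0,0,0,0,0,0,0⟩,⟨-2,2,-2,0,0,-2,0,0⟩,⟨0,-2,2,-2,-2,0,0,0⟩,⟨0,-2,-2,2,2,0,0,0⟩],
  [⟨0,2,0,-2,0,2,0,2⟩,⟨2,0,-2,-2,0,0,0,-2⟩,⟨-2,0,0,0,0,-2,-2,-2⟩,⟨0,-2,2,2,-2,0,0,0⟩,⟨0,0,2,-2,0,2,2,0⟩,⟨2,0,-2,0,2,0,-2,0⟩,⟨-2,2,0,0,-2,0,0,-2⟩,⟨2,-2,2,0,0,-2,0,0⟩,⟨0,-2,0,2,0,-2,0,2⟩,⟨-2,0,0,0,0,2,2,2⟩,⟨2,0,0,-2,2,2,0,0⟩,⟨0,2,-2,0,0,0,-2,-2⟩],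
  [⟨0,-2,0,2,0,-2,0,-2⟩,⟨-2,0,2,2,0,0,0,2⟩,⟨2,0,0,0,0,2,2,2⟩,⟨0,2,-2,-2,2,0,0,0⟩,⟨0,0,2,0,-2,-2,0,-2⟩,⟨0,-2,0,2,0,-2,0,2⟩,⟨-2,0,0,0,0,2,2,2⟩,⟨2,0,0,-2,2,2,0,0⟩,⟨0,2,0,-2,0,2,0,-2⟩,⟨2,0,0,0,0,-2,-2,-2⟩,⟨-2,0,0,2,-2,-2,0,0⟩,⟨0,-2,2,0,0,0,2,2⟩],
  [⟨-2,0,2,0,-2,0,2,0⟩,⟨2,-2,0,0,2,0,0,2⟩,⟨-2,2,-2,0,0,2,0,0⟩,⟨2,0,2,-2,0,0,0,-2⟩,⟨2,-2,0,2,0,0,2,0⟩,⟨-2,2,0,0,2,0,0,2⟩,⟨2,0,0,-2,-2,2,0,0⟩,⟨0,0,-2,0,2,-2,0,-2⟩,⟨0,0,0,0,0,0,-4,0⟩,⟨0,0,0,2,-2,0,2,-2⟩,⟨0,0,2,0,2,-2,0,2⟩,⟨0,0,-2,0,-2,2,0,2⟩],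
  [⟨2,0,-2,0,2,0,-2,0⟩,⟨-2,2,0,0,-2,0,0,-2⟩,⟨2,-2,2,0,0,-2,0,0⟩,⟨-2,0,-2,2,0,0,0,2⟩,⟨2,-2,-2,0,0,2,0,0⟩,⟨-2,2,0,0,2,0,0,-2⟩,⟨2,0,2,0,-2,0,-2,0⟩,⟨0,0,-2,2,0,-2,2,0⟩,⟨0,0,0,0,0,0,4,0⟩,⟨0,0,0,-2,2,0,-2,2⟩,⟨0,0,-2,0,-2,2,0,-2⟩,⟨0,0,2,0,2,-2,0,-2⟩],
  [⟨0,2,0,2,0,-2,0,2⟩,⟨0,0,0,-2,-2,0,2,2⟩,⟨0,-2,-2,-2,2,0,0,0⟩,⟨-2,0,0,0,0,2,-2,-2⟩,⟨2,2,0,2,0,0,2,0⟩,⟨0,2,0,-2,0,-2,0,2⟩,⟨0,-2,-2,-2,-2,0,0,0⟩,⟨-2,-2,0,0,2,0,0,-2⟩,⟨0,-2,0,2,0,2,0,-2⟩,⟨0,2,2,2,2,0,0,0⟩,⟨2,2,0,0,-2,0,0,2⟩,⟨0,0,-2,-2,0,-2,2,0⟩],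
  [⟨0,-2,0,-2,0,2,0,-2⟩,⟨0,0,0,2,2,0,-2,-2⟩,⟨0,2,2,2,-2,0,0,0⟩,⟨2,0,0,0,0,-2,2,2⟩,⟨0,-2,-2,0,0,0,2,-2⟩,⟨-2,0,2,0,2,0,-2,0⟩,⟨2,0,0,2,-2,2,0,0⟩,⟨0,2,0,0,2,-2,2,0⟩,⟨0,2,0,-2,0,-2,0,2⟩,⟨0,-2,-2,-2,-2,0,0,0⟩,⟨-2,-2,0,0,2,0,0,-2⟩,⟨0,0,2,2,0,2,-2,0⟩],
  [⟨-2,0,2,0,-2,0,2,0⟩,⟨2,-2,0,0,2,0,0,2⟩,⟨-2,2,-2,0,0,2,0,0⟩,⟨2,0,2,-2,0,0,0,-2⟩,⟨0,0,2,2,0,-2,2,0⟩,⟨0,0,0,0,0,0,0,4⟩,⟨0,0,-2,-2,0,2,2,0⟩,⟨0,0,0,-2,2,0,-2,-2⟩,⟨0,0,0,0,0,0,-4,0⟩,⟨0,0,0,2,-2,0,2,-2⟩,⟨0,0,2,0,2,-2,0,2⟩,⟨0,0,-2,0,-2,2,0,2⟩],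
  [⟨2,0,-2,0,2,0,-2,0⟩,⟨-2,2,0,0,-2,0,0,-2⟩,⟨2,-2,2,0,0,-2,0,0⟩,⟨-2,0,-2,2,0,0,0,2⟩,⟨0,0,0,0,0,0,0,0⟩,⟨0,0,0,0,0,0,0,0⟩,⟨0,0,0,0,0,0,0,0⟩,⟨0,0,0,0,0,0,0,0⟩,⟨0,0,0,0,0,0,4,0⟩,⟨0,0,0,-2,2,0,-2,2⟩,⟨0,0,-2,0,-2,2,0,-2⟩,⟨0,0,2,0,2,-2,0,-2⟩],
  [⟨2,-2,2,-2,-2,2,2,2⟩,⟨0,0,-4,0,4,0,0,0⟩,⟨-2,2,2,-2,-2,2,-2,-2⟩,⟨4,-2,0,2,0,-2,0,-2⟩,⟨2,-2,2,0,0,2,4,0⟩,⟨0,2,-2,0,4,0,-2,2⟩,⟨0,2,0,-2,-4,2,0,-2⟩,⟨2,-2,0,0,2,-4,0,-2⟩,⟨-2,0,2,0,2,-4,-2,0⟩,⟨0,-2,0,2,-4,2,0,2⟩,⟨0,0,0,0,4,0,4,0⟩,⟨0,2,0,-2,0,2,-4,2⟩],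
  [⟨2,2,2,-2,2,-2,-2,2⟩,⟨0,0,-4,0,-4,0,0,0⟩,⟨-2,-2,2,-2,2,-2,2,-2⟩,⟨0,-2,0,2,0,2,-4,2⟩,⟨4,0,2,-2,0,2,2,0⟩,⟨0,2,-4,0,2,-2,-2,0⟩,⟨-2,0,2,-2,-4,0,0,-2⟩,⟨2,-4,0,2,2,-2,0,0⟩,⟨-2,0,-2,4,2,0,2,0⟩,⟨0,2,4,-2,0,2,0,2⟩,⟨4,0,-4,0,0,0,0,0⟩,⟨-4,2,0,-2,0,-2,0,-2⟩],
  [⟨-2,2,2,-2,2,2,2,-2⟩,⟨4,0,0,0,0,0,-4,0⟩,⟨-2,2,-2,2,-2,-2,2,-2⟩,⟨0,-2,4,-2,0,-2,0,2⟩,⟨2,-2,2,-2,2,2,2,-2⟩,⟨0,2,-2,2,2,0,-4,0⟩,⟨0,2,2,0,-4,0,2,-2⟩,⟨2,-2,0,0,2,-4,0,2⟩,⟨-2,0,-2,0,-2,0,-2,4⟩,⟨0,-2,0,-2,0,2,4,-2⟩,⟨0,0,0,0,4,0,-4,0⟩,⟨0,2,0,2,-4,2,0,-2⟩],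
  [⟨-2,2,2,2,-2,2,-2,2⟩,⟨4,0,0,0,0,0,4,0⟩,⟨-2,2,-2,-2,2,-2,-2,2⟩,⟨0,-2,0,-2,-4,2,0,-2⟩,⟨2,0,4,0,0,2,2,-2⟩,⟨2,2,-2,2,2,-2,-2,2⟩,⟨-2,2,0,-2,-4,0,2,0⟩,⟨2,-4,0,-2,2,-2,0,0⟩,⟨2,-4,-2,0,2,0,-2,0⟩,⟨-4,2,0,2,0,2,0,-2⟩,⟨4,0,4,0,0,0,0,0⟩,⟨0,2,-4,2,0,-2,0,2⟩],
  [⟨2,-2,-2,-2,2,-2,2,-2⟩,⟨-4,0,0,0,0,0,-4,0⟩,⟨2,-2,2,2,-2,2,2,-2⟩,⟨0,2,0,2,4,-2,0,2⟩,⟨2,-2,0,-2,0,0,2,0⟩,⟨-2,0,-2,0,2,0,-2,0⟩,⟨0,0,2,0,-2,2,0,-2⟩,⟨2,0,0,2,2,-2,0,0⟩,⟨-2,4,2,0,-2,0,2,0⟩,⟨4,-2,0,-2,0,-2,0,2⟩,⟨-4,0,-4,0,0,0,0,0⟩,⟨0,-2,4,-2,0,2,0,-2⟩],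
  [⟨2,-2,-2,2,-2,-2,-2,2⟩,⟨-4,0,0,0,0,0,4,0⟩,⟨2,-2,2,-2,2,2,-2,2⟩,⟨0,2,-4,2,0,2,0,-2⟩,⟨2,0,2,0,-2,0,2,0⟩,⟨0,0,-2,0,2,-2,0,2⟩,⟨-2,0,0,-2,-2,2,0,0⟩,⟨2,-2,0,0,2,0,0,-2⟩,⟨2,0,2,0,2,0,2,-4⟩,⟨0,2,0,2,0,-2,-4,2⟩,⟨0,0,0,0,-4,0,4,0⟩,⟨0,-2,0,-2,4,-2,0,2⟩],
  [⟨-2,-2,-2,2,-2,2,2,-2⟩,⟨0,0,4,0,4,0,0,0⟩,⟨2,2,-2,2,-2,2,-2,2⟩,⟨0,2,0,-2,0,-2,4,-2⟩,⟨0,-2,2,0,0,0,2,-2⟩,⟨0,0,0,2,2,0,-2,2⟩,⟨0,2,0,0,-2,2,2,0⟩,⟨2,0,0,-2,2,-2,0,0⟩,⟨2,0,2,-4,-2,0,-2,0⟩,⟨0,-2,-4,2,0,-2,0,-2⟩,⟨-4,0,4,0,0,0,0,0⟩,⟨4,-2,0,2,0,2,0,2⟩],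
  [⟨-2,2,-2,2,2,-2,-2,-2⟩,⟨0,0,4,0,-4,0,0,0⟩,⟨2,-2,-2,2,2,-2,2,2⟩,⟨-4,2,0,-2,0,2,0,2⟩,⟨2,0,2,-2,0,0,0,-2⟩,⟨0,0,-2,2,0,-2,-2,0⟩,⟨-2,0,2,0,-2,0,2,0⟩,⟨2,-2,0,0,2,0,0,2⟩,⟨2,0,-2,0,-2,4,2,0⟩,⟨0,2,0,-2,4,-2,0,-2⟩,⟨0,0,0,0,-4,0,-4,0⟩,⟨0,-2,0,2,0,-2,4,-2⟩],
  [⟨0,0,4,-4,0,0,0,0⟩,⟨2,-2,-4,2,0,0,-2,0⟩,⟨-4,2,2,0,0,0,2,-2⟩,⟨4,-2,2,0,0,0,-2,2⟩,⟨4,-2,2,0,0,0,2,-2⟩,⟨-2,2,-2,2,2,-2,-2,2⟩,⟨0,0,2,-2,-4,2,2,0⟩,⟨2,-2,-2,0,4,-2,0,0⟩,⟨-2,2,-2,2,2,-2,-2,2⟩,⟨0,0,2,-2,-4,2,2,0⟩,⟨2,-2,-2,0,4,-2,0,0⟩,⟨-4,2,0,0,-2,2,-2,0⟩]]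

/-- Part 7 of the table of stage 2. -/
def ker2_7 : List (List Ico) := [
  [⟨0,0,-4,4,0,0,0,0⟩,⟨-2,2,4,-2,0,0,2,0⟩,⟨4,-2,-2,0,0,0,-2,2⟩,⟨-4,2,-2,0,0,0,2,-2⟩,⟨2,0,2,2,0,0,0,-2⟩,⟨0,2,0,2,0,-2,0,2⟩,⟨0,0,0,-2,-2,0,2,2⟩,⟨0,-2,-2,-2,2,0,0,0⟩,⟨2,-2,2,-2,-2,2,2,-2⟩,⟨0,0,-2,2,4,-2,-2,0⟩,⟨-2,2,2,0,-4,2,0,0⟩,⟨4,-2,0,0,2,-2,2,0⟩],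
  [⟨-4,4,0,0,0,0,0,0⟩,⟨4,-2,2,-2,-2,0,0,0⟩,⟨-2,0,-4,2,2,-2,0,0⟩,⟨-2,0,4,-2,-2,2,0,0⟩,⟨2,0,2,0,2,0,2,0⟩,⟨0,2,-2,0,0,0,-2,2⟩,⟨0,0,0,-2,-2,0,2,-2⟩,⟨0,-2,0,0,2,-2,-2,0⟩,⟨2,-2,-2,2,-2,2,-2,2⟩,⟨-2,2,0,0,2,0,4,-2⟩,⟨2,0,2,-2,0,0,-4,2⟩,⟨0,0,-4,2,-2,0,2,-2⟩],
  [⟨4,-4,0,0,0,0,0,0⟩,⟨-4,2,-2,2,2,0,0,0⟩,⟨2,0,4,-2,-2,2,0,0⟩,⟨2,0,-4,2,2,-2,0,0⟩,⟨2,-2,0,2,0,0,2,0⟩,⟨-2,2,0,0,2,0,0,2⟩,⟨2,0,0,-2,-2,2,0,0⟩,⟨0,0,-2,0,2,-2,0,-2⟩,⟨-2,2,2,-2,2,-2,2,-2⟩,⟨2,-2,0,0,-2,0,-4,2⟩,⟨-2,0,-2,2,0,0,4,-2⟩,⟨0,0,4,-2,2,0,-2,2⟩],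
  [⟨2,2,2,-2,-2,2,2,-2⟩,⟨2,0,-2,0,2,-4,-2,0⟩,⟨-4,0,0,0,-4,0,0,0⟩,⟨2,-4,2,0,2,0,2,0⟩,⟨2,0,0,0,0,2,2,-2⟩,⟨0,2,0,0,2,-2,-2,0⟩,⟨0,0,0,0,-4,0,0,0⟩,⟨0,-2,0,0,2,-2,2,0⟩,⟨-2,0,2,0,2,0,-2,4⟩,⟨2,0,-2,0,-2,4,2,0⟩,⟨0,2,0,-2,4,-2,0,-2⟩,⟨0,0,0,0,-4,0,-4,0⟩],
  [⟨-2,2,2,-2,-2,-2,-2,2⟩,⟨2,-4,-2,0,-2,0,2,0⟩,⟨-4,0,0,0,4,0,0,0⟩,⟨2,0,2,0,-2,4,-2,0⟩,⟨2,0,2,0,-2,0,2,0⟩,⟨0,0,-2,0,2,-2,0,2⟩,⟨-2,0,0,-2,-2,2,0,0⟩,⟨2,-2,0,0,2,0,0,-2⟩,⟨2,0,-2,4,2,0,-2,0⟩,⟨-2,4,2,0,-2,0,2,0⟩,⟨4,-2,0,-2,0,-2,0,2⟩,⟨-4,0,-4,0,0,0,0,0⟩],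
  [⟨-2,2,-2,2,-2,2,2,2⟩,⟨2,0,2,-4,2,0,2,0⟩,⟨0,0,-4,0,0,0,-4,0⟩,⟨-2,0,2,0,-2,0,2,-4⟩,⟨0,0,2,2,0,2,2,0⟩,⟨2,2,0,0,2,0,0,2⟩,⟨0,2,-2,-2,-2,0,0,0⟩,⟨0,-2,0,-2,0,-2,0,-2⟩,⟨2,-4,2,0,-2,0,-2,0⟩,⟨-2,0,-2,4,2,0,2,0⟩,⟨0,2,4,-2,0,2,0,2⟩,⟨4,0,-4,0,0,0,0,0⟩],
  [⟨-2,2,2,2,2,-2,2,-2⟩,⟨2,0,2,0,-2,0,-2,4⟩,⟨0,0,-4,0,0,0,4,0⟩,⟨-2,0,2,-4,2,0,-2,0⟩,⟨2,0,2,2,0,0,0,-2⟩,⟨0,2,0,2,0,-2,0,2⟩,⟨0,0,0,-2,-2,0,2,2⟩,⟨0,-2,-2,-2,2,0,0,0⟩,⟨-2,0,-2,0,-2,4,-2,0⟩,⟨2,0,2,0,2,0,2,-4⟩,⟨0,2,0,2,0,-2,-4,2⟩,⟨0,0,0,0,-4,0,4,0⟩],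
  [⟨2,-2,-2,-2,-2,2,-2,2⟩,⟨-2,0,-2,0,2,0,2,-4⟩,⟨0,0,4,0,0,0,-4,0⟩,⟨2,0,-2,4,-2,0,2,0⟩,⟨0,-2,0,0,-2,2,2,0⟩,⟨0,0,0,0,4,0,0,0⟩,⟨0,2,0,0,-2,2,-2,0⟩,⟨2,0,0,0,0,-2,2,-2⟩,⟨2,0,2,0,2,-4,2,0⟩,⟨-2,0,-2,0,-2,0,-2,4⟩,⟨0,-2,0,-2,0,2,4,-2⟩,⟨0,0,0,0,4,0,-4,0⟩],
  [⟨2,-2,2,-2,2,-2,-2,-2⟩,⟨-2,0,-2,4,-2,0,-2,0⟩,⟨0,0,4,0,0,0,4,0⟩,⟨2,0,-2,0,2,0,-2,4⟩,⟨2,-2,0,0,-2,0,0,-2⟩,⟨-2,0,0,2,2,-2,0,0⟩,⟨0,0,2,0,-2,2,0,2⟩,⟨2,0,-2,0,2,0,2,0⟩,⟨-2,4,-2,0,2,0,2,0⟩,⟨2,0,2,-4,-2,0,-2,0⟩,⟨0,-2,-4,2,0,-2,0,-2⟩,⟨-4,0,4,0,0,0,0,0⟩],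
  [⟨2,-2,-2,2,2,2,2,-2⟩,⟨-2,4,2,0,2,0,-2,0⟩,⟨4,0,0,0,-4,0,0,0⟩,⟨-2,0,-2,0,2,-4,2,0⟩,⟨0,-2,0,2,0,2,0,-2⟩,⟨0,2,2,2,2,0,0,0⟩,⟨2,2,0,0,-2,0,0,2⟩,⟨0,0,-2,-2,0,-2,2,0⟩,⟨-2,0,2,-4,-2,0,2,0⟩,⟨2,-4,-2,0,2,0,-2,0⟩,⟨-4,2,0,2,0,2,0,-2⟩,⟨4,0,4,0,0,0,0,0⟩],
  [⟨-2,-2,-2,2,2,-2,-2,2⟩,⟨-2,0,2,0,-2,4,2,0⟩,⟨4,0,0,0,4,0,0,0⟩,⟨-2,4,-2,0,-2,0,-2,0⟩,⟨0,-2,2,2,-2,0,0,0⟩,⟨0,0,0,2,2,0,2,2⟩,⟨0,2,0,-2,0,2,0,2⟩,⟨2,0,-2,-2,0,0,0,-2⟩,⟨2,0,-2,0,-2,0,2,-4⟩,⟨-2,0,2,0,2,-4,-2,0⟩,⟨0,-2,0,2,-4,2,0,2⟩,⟨0,0,0,0,4,0,4,0⟩],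
  [⟨-2,0,2,0,-2,0,2,0⟩,⟨2,-2,0,0,2,0,0,2⟩,⟨-2,2,-2,0,0,2,0,0⟩,⟨2,0,2,-2,0,0,0,-2⟩,⟨2,0,2,2,0,0,4,-2⟩,⟨0,2,0,0,2,-2,-2,4⟩,⟨0,0,-2,-2,-4,2,2,0⟩,⟨0,-2,0,-2,4,-2,0,-2⟩,⟨0,0,0,0,0,0,-4,0⟩,⟨0,0,0,2,-2,0,2,-2⟩,⟨0,0,2,0,2,-2,0,2⟩,⟨0,0,-2,0,-2,2,0,2⟩],
  [⟨2,0,-2,0,2,0,-2,0⟩,⟨-2,2,0,0,-2,0,0,-2⟩,⟨2,-2,2,0,0,-2,0,0⟩,⟨-2,0,-2,2,0,0,0,2⟩,⟨2,0,0,0,0,2,2,-2⟩,⟨0,2,0,0,2,-2,-2,0⟩,⟨0,0,0,0,-4,0,0,0⟩,⟨0,-2,0,0,2,-2,2,0⟩,⟨0,0,0,0,0,0,4,0⟩,⟨0,0,0,-2,2,0,-2,2⟩,⟨0,0,-2,0,-2,2,0,-2⟩,⟨0,0,2,0,2,-2,0,-2⟩],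
  [⟨2,0,2,0,-2,0,-2,0⟩,⟨0,0,-2,2,0,-2,2,0⟩,⟨-2,0,2,-2,0,0,0,2⟩,⟨2,-2,-2,0,0,2,0,0⟩,⟨2,0,2,-2,0,0,0,-2⟩,⟨0,0,-2,2,0,-2,-2,0⟩,⟨-2,0,2,0,-2,0,2,0⟩,⟨2,-2,0,0,2,0,0,2⟩,⟨0,0,0,0,4,0,0,0⟩,⟨0,2,0,0,-2,2,-2,0⟩,⟨2,0,0,0,0,-2,2,-2⟩,⟨-2,0,0,0,0,-2,-2,2⟩],
  [⟨-2,0,-2,0,2,0,2,0⟩,⟨0,0,2,-2,0,2,-2,0⟩,⟨2,0,-2,2,0,0,0,-2⟩,⟨-2,2,2,0,0,-2,0,0⟩,⟨0,-2,2,-2,2,0,0,0⟩,⟨0,0,-2,2,0,2,-2,0⟩,⟨0,2,2,0,0,0,2,-2⟩,⟨2,0,0,0,0,-2,-2,2⟩,⟨0,0,0,0,-4,0,0,0⟩,⟨0,-2,0,0,2,-2,2,0⟩,⟨-2,0,0,0,0,2,-2,2⟩,⟨2,0,0,0,0,2,2,-2⟩],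
  [⟨2,0,-2,0,-2,0,2,0⟩,⟨-2,0,0,-2,2,-2,0,0⟩,⟨0,-2,0,0,-2,2,-2,0⟩,⟨0,0,0,2,2,0,2,-2⟩,⟨2,0,-2,0,2,0,2,0⟩,⟨-2,2,0,-2,0,0,-2,0⟩,⟨2,-2,0,0,-2,0,0,-2⟩,⟨-2,0,0,2,2,-2,0,0⟩,⟨0,0,4,0,0,0,0,0⟩,⟨2,0,-2,2,0,0,0,2⟩,⟨-2,2,0,-2,0,0,2,0⟩,⟨2,-2,0,-2,0,0,-2,0⟩],
  [⟨-2,0,2,0,2,0,-2,0⟩,⟨2,0,0,2,-2,2,0,0⟩,⟨0,2,0,0,2,-2,2,0⟩,⟨0,0,0,-2,-2,0,-2,2⟩,⟨2,-2,0,0,2,0,0,-2⟩,⟨-2,2,0,2,0,0,-2,0⟩,⟨2,0,2,0,-2,0,2,0⟩,⟨0,0,-2,0,2,-2,0,2⟩,⟨0,0,-4,0,0,0,0,0⟩,⟨-2,0,2,-2,0,0,0,-2⟩,⟨2,-2,0,2,0,0,-2,0⟩,⟨-2,2,0,2,0,0,2,0⟩],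
  [⟨0,2,0,-2,0,-2,0,-2⟩,⟨0,-2,0,0,-2,-2,-2,0⟩,⟨-2,-2,0,2,0,0,2,0⟩,⟨0,0,2,0,2,2,0,2⟩,⟨2,0,0,-2,2,-2,0,0⟩,⟨-2,0,-2,0,-2,0,-2,0⟩,⟨0,-2,2,0,0,0,2,-2⟩,⟨0,0,0,2,2,0,-2,2⟩,⟨0,2,0,2,0,2,0,2⟩,⟨2,2,0,-2,0,0,2,0⟩,⟨0,0,-2,-2,0,-2,-2,0⟩,⟨-2,-2,0,0,-2,0,0,-2⟩],
  [⟨0,-2,0,2,0,2,0,2⟩,⟨0,2,0,0,2,2,2,0⟩,⟨2,2,0,-2,0,0,-2,0⟩,⟨0,0,-2,0,-2,-2,0,-2⟩,⟨0,-2,2,2,2,0,0,0⟩,⟨0,2,0,2,0,2,0,2⟩,⟨2,2,0,-2,0,0,2,0⟩,⟨0,0,-2,-2,0,-2,-2,0⟩,⟨0,-2,0,-2,0,-2,0,-2⟩,⟨-2,-2,0,2,0,0,-2,0⟩,⟨0,0,2,2,0,2,2,0⟩,⟨2,2,0,0,2,0,0,2⟩],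
  [⟨2,0,-2,0,-2,0,2,0⟩,⟨-2,0,0,-2,2,-2,0,0⟩,⟨0,-2,0,0,-2,2,-2,0⟩,⟨0,0,0,2,2,0,2,-2⟩,⟨0,0,0,0,0,0,0,0⟩,⟨0,0,0,0,0,0,0,0⟩,⟨0,0,0,0,0,0,0,0⟩,⟨0,0,0,0,0,0,0,0⟩,⟨0,0,4,0,0,0,0,0⟩,⟨2,0,-2,2,0,0,0,2⟩,⟨-2,2,0,-2,0,0,2,0⟩,⟨2,-2,0,-2,0,0,-2,0⟩],
  [⟨-2,0,2,0,2,0,-2,0⟩,⟨2,0,0,2,-2,2,0,0⟩,⟨0,2,0,0,2,-2,2,0⟩,⟨0,0,0,-2,-2,0,-2,2⟩,⟨0,-2,2,0,0,0,-2,-2⟩,⟨0,0,0,4,0,0,0,0⟩,⟨0,2,2,0,0,0,2,2⟩,⟨2,0,-2,-2,0,0,0,2⟩,⟨0,0,-4,0,0,0,0,0⟩,⟨-2,0,2,-2,0,0,0,-2⟩,⟨2,-2,0,2,0,0,-2,0⟩,⟨-2,2,0,2,0,0,2,0⟩]]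

/-- Part 8 of the table of stage 2. -/
def ker2_8 : List (List Ico) := [
  [⟨2,0,2,0,-2,0,-2,0⟩,⟨0,0,-2,2,0,-2,2,0⟩,⟨-2,0,2,-2,0,0,0,2⟩,⟨2,-2,-2,0,0,2,0,0⟩,⟨2,0,0,0,0,-2,2,-2⟩,⟨-2,0,0,0,0,-2,-2,2⟩,⟨0,-2,0,0,-2,2,2,0⟩,⟨0,0,0,0,4,0,0,0⟩,⟨0,0,0,0,4,0,0,0⟩,⟨0,2,0,0,-2,2,-2,0⟩,⟨2,0,0,0,0,-2,2,-2⟩,⟨-2,0,0,0,0,-2,-2,2⟩],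
  [⟨-2,0,-2,0,2,0,2,0⟩,⟨0,0,2,-2,0,2,-2,0⟩,⟨2,0,-2,2,0,0,0,-2⟩,⟨-2,2,2,0,0,-2,0,0⟩,⟨0,-2,0,0,2,-2,2,0⟩,⟨-2,0,0,0,0,2,-2,2⟩,⟨2,0,0,0,0,2,2,-2⟩,⟨0,2,0,0,2,-2,-2,0⟩,⟨0,0,0,0,-4,0,0,0⟩,⟨0,-2,0,0,2,-2,2,0⟩,⟨-2,0,0,0,0,2,-2,2⟩,⟨2,0,0,0,0,2,2,-2⟩],
  [⟨0,0,0,0,0,0,4,-4⟩,⟨0,0,2,0,2,-2,-4,2⟩,⟨0,0,-2,2,-4,2,2,0⟩,⟨0,0,2,-2,4,-2,2,0⟩,⟨2,-2,0,0,2,0,0,-2⟩,⟨-2,2,0,2,0,0,-2,0⟩,⟨2,0,2,0,-2,0,2,0⟩,⟨0,0,-2,0,2,-2,0,2⟩,⟨-2,2,2,-2,-2,2,-2,2⟩,⟨4,-2,-2,0,0,0,2,-2⟩,⟨-4,2,0,0,2,-2,-2,0⟩,⟨2,-2,2,0,-4,2,0,0⟩],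
  [⟨0,0,0,0,0,0,-4,4⟩,⟨0,0,-2,0,-2,2,4,-2⟩,⟨0,0,2,-2,4,-2,-2,0⟩,⟨0,0,-2,2,-4,2,-2,0⟩,⟨2,-2,2,0,0,2,0,0⟩,⟨0,2,-2,2,2,0,0,0⟩,⟨0,2,2,-2,-2,0,0,0⟩,⟨2,-2,-2,0,0,-2,0,0⟩,⟨2,-2,-2,2,2,-2,2,-2⟩,⟨-4,2,2,0,0,0,-2,2⟩,⟨4,-2,0,0,-2,2,2,0⟩,⟨-2,2,-2,0,4,-2,0,0⟩],
  [⟨-2,2,2,-2,2,-2,2,2⟩,⟨2,-2,-2,-2,-2,2,-2,2⟩,⟨-2,0,-2,0,2,0,2,-4⟩,⟨0,0,4,0,0,0,-4,0⟩,⟨2,0,2,0,2,0,2,0⟩,⟨0,2,-2,0,0,0,-2,2⟩,⟨0,0,0,-2,-2,0,2,-2⟩,⟨0,-2,0,0,2,-2,-2,0⟩,⟨-2,0,-2,4,-2,0,-2,0⟩,⟨0,0,4,0,0,0,4,0⟩,⟨2,0,-2,0,2,0,-2,4⟩,⟨-2,2,-2,-2,-2,2,2,-2⟩],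
  [⟨2,-2,2,-2,-2,-2,2,-2⟩,⟨-2,-2,-2,2,2,-2,-2,2⟩,⟨-2,0,2,0,-2,4,2,0⟩,⟨4,0,0,0,4,0,0,0⟩,⟨2,0,0,0,0,-2,2,-2⟩,⟨-2,0,0,0,0,-2,-2,2⟩,⟨0,-2,0,0,-2,2,2,0⟩,⟨0,0,0,0,4,0,0,0⟩,⟨-2,4,2,0,2,0,-2,0⟩,⟨4,0,0,0,-4,0,0,0⟩,⟨-2,0,-2,0,2,-4,2,0⟩,⟨-2,-2,2,-2,-2,2,-2,2⟩],
  [⟨-2,2,-2,-2,-2,2,2,-2⟩,⟨2,-2,2,-2,2,-2,-2,-2⟩,⟨-2,0,-2,4,-2,0,-2,0⟩,⟨0,0,4,0,0,0,4,0⟩,⟨0,0,0,-2,2,0,2,-2⟩,⟨0,0,0,0,0,0,-4,0⟩,⟨0,0,0,2,-2,0,2,-2⟩,⟨0,0,2,0,2,-2,0,2⟩,⟨2,0,2,0,-2,0,-2,4⟩,⟨0,0,-4,0,0,0,4,0⟩,⟨-2,0,2,-4,2,0,-2,0⟩,⟨2,-2,-2,2,-2,2,-2,-2⟩],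
  [⟨2,2,-2,2,2,-2,2,-2⟩,⟨-2,2,2,-2,-2,-2,-2,2⟩,⟨2,-4,-2,0,-2,0,2,0⟩,⟨-4,0,0,0,4,0,0,0⟩,⟨2,2,0,0,2,0,0,-2⟩,⟨0,2,0,0,-2,-2,-2,0⟩,⟨0,-2,0,0,-2,-2,2,0⟩,⟨-2,-2,0,0,2,0,0,2⟩,⟨-2,0,2,0,-2,4,2,0⟩,⟨4,0,0,0,4,0,0,0⟩,⟨-2,4,-2,0,-2,0,-2,0⟩,⟨2,-2,2,-2,-2,-2,2,-2⟩],
  [⟨-2,-2,2,-2,-2,2,-2,2⟩,⟨2,-2,-2,2,2,2,2,-2⟩,⟨-2,4,2,0,2,0,-2,0⟩,⟨4,0,0,0,-4,0,0,0⟩,⟨0,-2,2,0,0,0,2,-2⟩,⟨0,0,0,2,2,0,-2,2⟩,⟨0,2,0,0,-2,2,2,0⟩,⟨2,0,0,-2,2,-2,0,0⟩,⟨2,0,-2,0,2,-4,-2,0⟩,⟨-4,0,0,0,-4,0,0,0⟩,⟨2,-4,2,0,2,0,2,0⟩,⟨-2,2,-2,2,2,2,-2,2⟩],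
  [⟨2,-2,2,2,2,-2,-2,2⟩,⟨-2,2,-2,2,-2,2,2,2⟩,⟨2,0,2,-4,2,0,2,0⟩,⟨0,0,-4,0,0,0,-4,0⟩,⟨2,0,2,2,0,0,0,-2⟩,⟨0,2,0,2,0,-2,0,2⟩,⟨0,0,0,-2,-2,0,2,2⟩,⟨0,-2,-2,-2,2,0,0,0⟩,⟨-2,0,-2,0,2,0,2,-4⟩,⟨0,0,4,0,0,0,-4,0⟩,⟨2,0,-2,4,-2,0,2,0⟩,⟨-2,2,2,-2,2,-2,2,2⟩],
  [⟨-2,2,-2,2,2,2,-2,2⟩,⟨2,2,2,-2,-2,2,2,-2⟩,⟨2,0,-2,0,2,-4,-2,0⟩,⟨-4,0,0,0,-4,0,0,0⟩,⟨0,0,2,0,2,2,0,-2⟩,⟨2,2,0,2,0,0,-2,0⟩,⟨0,2,0,0,-2,-2,2,0⟩,⟨0,-2,0,-2,0,-2,0,2⟩,⟨2,-4,-2,0,-2,0,2,0⟩,⟨-4,0,0,0,4,0,0,0⟩,⟨2,0,2,0,-2,4,-2,0⟩,⟨2,2,-2,2,2,-2,2,-2⟩],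
  [⟨2,-2,-2,2,-2,2,-2,-2⟩,⟨-2,2,2,2,2,-2,2,-2⟩,⟨2,0,2,0,-2,0,-2,4⟩,⟨0,0,-4,0,0,0,4,0⟩,⟨0,0,0,0,0,0,0,-4⟩,⟨0,0,2,2,0,-2,-2,0⟩,⟨0,0,0,2,-2,0,2,2⟩,⟨0,0,0,-2,2,0,2,2⟩,⟨2,0,2,-4,2,0,2,0⟩,⟨0,0,-4,0,0,0,-4,0⟩,⟨-2,0,2,0,-2,0,2,-4⟩,⟨2,-2,2,2,2,-2,-2,2⟩],
  [⟨-2,2,-2,2,-2,-2,2,-2⟩,⟨0,-2,4,-2,0,-2,0,2⟩,⟨0,-2,-4,2,0,2,0,2⟩,⟨-2,2,2,-2,2,2,2,-2⟩,⟨2,0,0,0,0,-2,2,-2⟩,⟨-2,0,0,0,0,-2,-2,2⟩,⟨0,-2,0,0,-2,2,2,0⟩,⟨0,0,0,0,4,0,0,0⟩,⟨2,0,2,0,-2,4,-2,0⟩,⟨2,2,-2,2,2,-2,2,-2⟩,⟨-2,2,2,-2,-2,-2,-2,2⟩,⟨2,-4,-2,0,-2,0,2,0⟩],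
  [⟨-2,2,2,-2,-2,2,-2,-2⟩,⟨4,-2,0,2,0,-2,0,-2⟩,⟨-4,2,0,2,0,-2,0,2⟩,⟨2,-2,2,-2,-2,2,2,2⟩,⟨2,-2,0,-2,0,0,2,-4⟩,⟨-2,0,0,2,2,-2,-4,0⟩,⟨0,0,2,2,-4,2,2,0⟩,⟨2,0,0,0,4,-2,2,2⟩,⟨2,0,-2,0,2,0,-2,4⟩,⟨-2,2,-2,-2,-2,2,2,-2⟩,⟨2,-2,2,-2,2,-2,-2,-2⟩,⟨-2,0,-2,4,-2,0,-2,0⟩],
  [⟨-2,2,-2,-2,2,-2,-2,2⟩,⟨0,-2,0,-2,-4,2,0,-2⟩,⟨0,-2,0,2,4,-2,0,-2⟩,⟨-2,2,2,2,-2,2,-2,2⟩,⟨2,-2,0,-2,0,0,2,0⟩,⟨-2,0,-2,0,2,0,-2,0⟩,⟨0,0,2,0,-2,2,0,-2⟩,⟨2,0,0,2,2,-2,0,0⟩,⟨2,0,-2,4,-2,0,2,0⟩,⟨-2,2,2,-2,2,-2,2,2⟩,⟨2,-2,-2,-2,-2,2,-2,2⟩,⟨-2,0,-2,0,2,0,2,-4⟩],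
  [⟨2,2,-2,2,-2,2,-2,2⟩,⟨0,2,0,-2,0,-2,4,-2⟩,⟨0,-2,0,-2,0,-2,-4,2⟩,⟨-2,-2,-2,2,-2,2,2,-2⟩,⟨2,0,0,0,0,2,2,-2⟩,⟨0,2,0,0,2,-2,-2,0⟩,⟨0,0,0,0,-4,0,0,0⟩,⟨0,-2,0,0,2,-2,2,0⟩,⟨2,-4,2,0,2,0,2,0⟩,⟨-2,2,-2,2,2,2,-2,2⟩,⟨2,2,2,-2,-2,2,2,-2⟩,⟨2,0,-2,0,2,-4,-2,0⟩],
  [⟨-2,-2,2,-2,2,-2,2,-2⟩,⟨0,-2,0,2,0,2,-4,2⟩,⟨0,2,0,2,0,2,4,-2⟩,⟨2,2,2,-2,2,-2,-2,2⟩,⟨2,-4,0,0,0,-2,2,-2⟩,⟨-4,0,0,2,2,0,-2,2⟩,⟨2,0,2,0,-2,4,2,0⟩,⟨2,2,-2,0,4,-2,0,0⟩,⟨-2,4,-2,0,-2,0,-2,0⟩,⟨2,-2,2,-2,-2,-2,2,-2⟩,⟨-2,-2,-2,2,2,-2,-2,2⟩,⟨-2,0,2,0,-2,4,2,0⟩],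
  [⟨2,-2,2,2,-2,2,2,-2⟩,⟨0,2,0,2,4,-2,0,2⟩,⟨0,2,0,-2,-4,2,0,2⟩,⟨2,-2,-2,-2,2,-2,2,-2⟩,⟨2,-2,0,2,0,0,2,-4⟩,⟨-2,2,2,2,2,-2,-2,2⟩,⟨2,0,0,0,-4,2,2,2⟩,⟨0,0,-2,-2,4,-2,2,0⟩,⟨-2,0,2,-4,2,0,-2,0⟩,⟨2,-2,-2,2,-2,2,-2,-2⟩,⟨-2,2,2,2,2,-2,2,-2⟩,⟨2,0,2,0,-2,0,-2,4⟩],
  [⟨2,-2,-2,2,2,-2,2,2⟩,⟨-4,2,0,-2,0,2,0,2⟩,⟨4,-2,0,-2,0,2,0,-2⟩,⟨-2,2,-2,2,2,-2,-2,-2⟩,⟨2,-2,0,2,0,0,2,0⟩,⟨-2,2,0,0,2,0,0,2⟩,⟨2,0,0,-2,-2,2,0,0⟩,⟨0,0,-2,0,2,-2,0,-2⟩,⟨-2,0,2,0,-2,0,2,-4⟩,⟨2,-2,2,2,2,-2,-2,2⟩,⟨-2,2,-2,2,-2,2,2,2⟩,⟨2,0,2,-4,2,0,2,0⟩],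
  [⟨2,-2,2,-2,2,2,-2,2⟩,⟨0,2,-4,2,0,2,0,-2⟩,⟨0,2,4,-2,0,-2,0,-2⟩,⟨2,-2,-2,2,-2,-2,-2,2⟩,⟨2,-4,0,0,0,2,2,-2⟩,⟨-2,2,0,2,4,0,-2,0⟩,⟨2,2,2,0,-4,2,0,0⟩,⟨2,0,-2,0,2,-4,2,0⟩,⟨-2,0,-2,0,2,-4,2,0⟩,⟨-2,-2,2,-2,-2,2,-2,2⟩,⟨2,-2,-2,2,2,2,2,-2⟩,⟨-2,4,2,0,2,0,-2,0⟩],
  [⟨0,0,0,0,-4,4,0,0⟩,⟨2,0,0,0,4,-2,2,-2⟩,⟨-2,2,0,0,-2,0,-4,2⟩,⟨2,-2,0,0,-2,0,4,-2⟩,⟨0,-2,2,0,0,0,2,-2⟩,⟨0,0,0,2,2,0,-2,2⟩,⟨0,2,0,0,-2,2,2,0⟩,⟨2,0,0,-2,2,-2,0,0⟩,⟨2,-2,2,-2,2,-2,-2,2⟩,⟨-2,0,-4,2,-2,2,0,0⟩,⟨0,0,4,-2,2,0,2,-2⟩,⟨2,0,-2,2,0,0,-4,2⟩]]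

/-- Part 9 of the table of stage 2. -/
def ker2_9 : List (List Ico) := [
  [⟨0,0,0,0,4,-4,0,0⟩,⟨-2,0,0,0,-4,2,-2,2⟩,⟨2,-2,0,0,2,0,4,-2⟩,⟨-2,2,0,0,2,0,-4,2⟩,⟨2,-2,2,0,0,-2,0,0⟩,⟨-2,0,-2,2,0,0,0,2⟩,⟨0,0,2,-2,0,2,2,0⟩,⟨2,0,-2,0,2,0,-2,0⟩,⟨-2,2,-2,2,-2,2,2,-2⟩,⟨2,0,4,-2,2,-2,0,0⟩,⟨0,0,-4,2,-2,0,-2,2⟩,⟨-2,0,2,-2,0,0,4,-2⟩],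
  [⟨2,0,-2,0,-2,0,2,0⟩,⟨-2,0,0,-2,2,-2,0,0⟩,⟨0,-2,0,0,-2,2,-2,0⟩,⟨0,0,0,2,2,0,2,-2⟩,⟨2,0,2,0,2,0,2,0⟩,⟨0,2,-2,0,0,0,-2,2⟩,⟨0,0,0,-2,-2,0,2,-2⟩,⟨0,-2,0,0,2,-2,-2,0⟩,⟨0,0,4,0,0,0,0,0⟩,⟨2,0,-2,2,0,0,0,2⟩,⟨-2,2,0,-2,0,0,2,0⟩,⟨2,-2,0,-2,0,0,-2,0⟩],
  [⟨-2,0,2,0,2,0,-2,0⟩,⟨2,0,0,2,-2,2,0,0⟩,⟨0,2,0,0,2,-2,2,0⟩,⟨0,0,0,-2,-2,0,-2,2⟩,⟨2,-2,4,0,2,0,0,-2⟩,⟨0,2,-2,4,0,0,-2,2⟩,⟨0,2,2,-2,-2,0,4,0⟩,⟨2,-2,-2,-2,2,-2,-2,2⟩,⟨0,0,-4,0,0,0,0,0⟩,⟨-2,0,2,-2,0,0,0,-2⟩,⟨2,-2,0,2,0,0,-2,0⟩,⟨-2,2,0,2,0,0,2,0⟩],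
  [⟨2,0,2,0,-2,0,-2,0⟩,⟨0,0,-2,2,0,-2,2,0⟩,⟨-2,0,2,-2,0,0,0,2⟩,⟨2,-2,-2,0,0,2,0,0⟩,⟨4,-2,2,0,0,0,2,-2⟩,⟨-2,2,-2,2,2,-2,-2,2⟩,⟨0,0,2,-2,-4,2,2,0⟩,⟨2,-2,-2,0,4,-2,0,0⟩,⟨0,0,0,0,4,0,0,0⟩,⟨0,2,0,0,-2,2,-2,0⟩,⟨2,0,0,0,0,-2,2,-2⟩,⟨-2,0,0,0,0,-2,-2,2⟩],
  [⟨-2,0,-2,0,2,0,2,0⟩,⟨0,0,2,-2,0,2,-2,0⟩,⟨2,0,-2,2,0,0,0,-2⟩,⟨-2,2,2,0,0,-2,0,0⟩,⟨2,-4,2,0,2,0,2,0⟩,⟨-2,2,-2,2,2,2,-2,2⟩,⟨2,2,2,-2,-2,2,2,-2⟩,⟨2,0,-2,0,2,-4,-2,0⟩,⟨0,0,0,0,-4,0,0,0⟩,⟨0,-2,0,0,2,-2,2,0⟩,⟨-2,0,0,0,0,2,-2,2⟩,⟨2,0,0,0,0,2,2,-2⟩],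
  [⟨0,-2,0,-2,0,-2,0,2⟩,⟨-2,-2,-2,0,0,2,0,0⟩,⟨0,0,2,0,2,2,0,-2⟩,⟨2,2,0,2,0,0,-2,0⟩,⟨2,-2,2,0,0,-2,4,0⟩,⟨-2,0,-2,0,2,0,-2,4⟩,⟨0,0,0,-2,-2,4,2,-2⟩,⟨2,0,0,0,4,-2,-2,-2⟩,⟨0,2,0,2,0,-2,0,-2⟩,⟨0,0,2,0,-2,-2,0,2⟩,⟨0,-2,-2,0,0,0,2,2⟩,⟨-2,0,0,-2,2,2,0,0⟩],
  [⟨0,2,0,2,0,2,0,-2⟩,⟨2,2,2,0,0,-2,0,0⟩,⟨0,0,-2,0,-2,-2,0,2⟩,⟨-2,-2,0,-2,0,0,2,0⟩,⟨2,0,2,0,2,0,2,-4⟩,⟨0,2,0,2,0,-2,-4,2⟩,⟨0,0,0,0,-4,0,4,0⟩,⟨0,-2,0,-2,4,-2,0,2⟩,⟨0,-2,0,-2,0,2,0,2⟩,⟨0,0,-2,0,2,2,0,-2⟩,⟨0,2,2,0,0,0,-2,-2⟩,⟨2,0,0,2,-2,-2,0,0⟩],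
  [⟨2,0,2,0,-2,0,-2,0⟩,⟨0,0,-2,2,0,-2,2,0⟩,⟨-2,0,2,-2,0,0,0,2⟩,⟨2,-2,-2,0,0,2,0,0⟩,⟨2,0,2,0,-2,0,2,-4⟩,⟨0,0,0,2,2,-4,-2,2⟩,⟨-2,0,0,0,-4,2,2,2⟩,⟨2,-2,0,-2,4,0,2,0⟩,⟨0,0,0,0,4,0,0,0⟩,⟨0,2,0,0,-2,2,-2,0⟩,⟨2,0,0,0,0,-2,2,-2⟩,⟨-2,0,0,0,0,-2,-2,2⟩],
  [⟨-2,0,-2,0,2,0,2,0⟩,⟨0,0,2,-2,0,2,-2,0⟩,⟨2,0,-2,2,0,0,0,-2⟩,⟨-2,2,2,0,0,-2,0,0⟩,⟨0,-2,2,0,0,0,2,-2⟩,⟨0,0,0,2,2,0,-2,2⟩,⟨0,2,0,0,-2,2,2,0⟩,⟨2,0,0,-2,2,-2,0,0⟩,⟨0,0,0,0,-4,0,0,0⟩,⟨0,-2,0,0,2,-2,2,0⟩,⟨-2,0,0,0,0,2,-2,2⟩,⟨2,0,0,0,0,2,2,-2⟩],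
  [⟨2,0,-2,0,-2,0,2,0⟩,⟨-2,0,0,-2,2,-2,0,0⟩,⟨0,-2,0,0,-2,2,-2,0⟩,⟨0,0,0,2,2,0,2,-2⟩,⟨0,0,0,0,0,0,4,0⟩,⟨0,0,0,-2,2,0,-2,2⟩,⟨0,0,-2,0,-2,2,0,-2⟩,⟨0,0,2,0,2,-2,0,-2⟩,⟨0,0,4,0,0,0,0,0⟩,⟨2,0,-2,2,0,0,0,2⟩,⟨-2,2,0,-2,0,0,2,0⟩,⟨2,-2,0,-2,0,0,-2,0⟩],
  [⟨-2,0,2,0,2,0,-2,0⟩,⟨2,0,0,2,-2,2,0,0⟩,⟨0,2,0,0,2,-2,2,0⟩,⟨0,0,0,-2,-2,0,-2,2⟩,⟨0,-2,2,0,0,0,2,-2⟩,⟨0,0,0,2,2,0,-2,2⟩,⟨0,2,0,0,-2,2,2,0⟩,⟨2,0,0,-2,2,-2,0,0⟩,⟨0,0,-4,0,0,0,0,0⟩,⟨-2,0,2,-2,0,0,0,-2⟩,⟨2,-2,0,2,0,0,-2,0⟩,⟨-2,2,0,2,0,0,2,0⟩],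
  [⟨-2,0,2,0,-2,0,2,0⟩,⟨2,-2,0,0,2,0,0,2⟩,⟨-2,2,-2,0,0,2,0,0⟩,⟨2,0,2,-2,0,0,0,-2⟩,⟨2,-2,2,2,2,-2,2,-2⟩,⟨-2,2,0,2,0,0,-2,4⟩,⟨2,0,0,-2,-2,2,4,0⟩,⟨0,0,-2,-2,4,-2,-2,0⟩,⟨0,0,0,0,0,0,-4,0⟩,⟨0,0,0,2,-2,0,2,-2⟩,⟨0,0,2,0,2,-2,0,2⟩,⟨0,0,-2,0,-2,2,0,2⟩],
  [⟨2,0,-2,0,2,0,-2,0⟩,⟨-2,2,0,0,-2,0,0,-2⟩,⟨2,-2,2,0,0,-2,0,0⟩,⟨-2,0,-2,2,0,0,0,2⟩,⟨2,-2,0,0,2,0,0,-2⟩,⟨-2,2,0,2,0,0,-2,0⟩,⟨2,0,2,0,-2,0,2,0⟩,⟨0,0,-2,0,2,-2,0,2⟩,⟨0,0,0,0,0,0,4,0⟩,⟨0,0,0,-2,2,0,-2,2⟩,⟨0,0,-2,0,-2,2,0,-2⟩,⟨0,0,2,0,2,-2,0,-2⟩],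
  [⟨0,2,2,0,0,0,-2,2⟩,⟨2,0,-2,0,-2,0,2,0⟩,⟨-2,0,0,-2,2,-2,0,0⟩,⟨0,-2,0,0,-2,2,-2,0⟩,⟨4,0,0,0,0,0,0,0⟩,⟨-2,2,-2,0,0,-2,0,0⟩,⟨0,-2,2,-2,-2,0,0,0⟩,⟨0,-2,-2,2,2,0,0,0⟩,⟨0,-2,-2,2,2,0,0,0⟩,⟨-2,2,2,0,0,2,0,0⟩,⟨4,0,0,0,0,0,0,0⟩,⟨-2,2,-2,0,0,-2,0,0⟩],
  [⟨0,-2,-2,0,0,0,2,-2⟩,⟨-2,0,2,0,2,0,-2,0⟩,⟨2,0,0,2,-2,2,0,0⟩,⟨0,2,0,0,2,-2,2,0⟩,⟨2,-2,-2,0,0,-2,0,0⟩,⟨-4,0,0,0,0,0,0,0⟩,⟨2,-2,2,0,0,2,0,0⟩,⟨0,2,-2,2,2,0,0,0⟩,⟨0,2,2,-2,-2,0,0,0⟩,⟨2,-2,-2,0,0,-2,0,0⟩,⟨-4,0,0,0,0,0,0,0⟩,⟨2,-2,2,0,0,2,0,0⟩],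
  [⟨0,0,2,-2,0,-2,2,0⟩,⟨0,-2,-2,0,0,0,-2,2⟩,⟨-2,0,0,0,0,2,2,-2⟩,⟨2,0,2,0,2,0,-2,0⟩,⟨4,0,-2,2,0,-2,2,0⟩,⟨-4,2,0,-2,0,-2,0,2⟩,⟨2,-4,0,-2,-2,2,0,0⟩,⟨-2,0,-2,2,4,0,0,-2⟩,⟨-2,2,0,2,0,0,-2,0⟩,⟨2,0,2,0,-2,0,2,0⟩,⟨0,0,-2,0,2,-2,0,2⟩,⟨-2,0,0,-2,-2,2,0,0⟩],
  [⟨0,0,-2,2,0,2,-2,0⟩,⟨0,2,2,0,0,0,2,-2⟩,⟨2,0,0,0,0,-2,-2,2⟩,⟨-2,0,-2,0,-2,0,2,0⟩,⟨2,0,-2,2,0,0,0,-2⟩,⟨-2,2,2,0,0,-2,0,0⟩,⟨2,-2,0,0,-2,0,0,2⟩,⟨-2,0,-2,0,2,0,2,0⟩,⟨2,-2,0,-2,0,0,2,0⟩,⟨-2,0,-2,0,2,0,-2,0⟩,⟨0,0,2,0,-2,2,0,-2⟩,⟨2,0,0,2,2,-2,0,0⟩],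
  [⟨-2,2,0,0,-2,0,0,-2⟩,⟨2,-2,2,0,0,-2,0,0⟩,⟨-2,0,-2,2,0,0,0,2⟩,⟨0,0,2,-2,0,2,2,0⟩,⟨4,0,-2,0,2,-2,0,-2⟩,⟨-4,2,0,0,-2,-2,-2,0⟩,⟨2,-4,2,0,-2,0,2,0⟩,⟨-2,0,-2,2,4,0,0,2⟩,⟨2,0,0,0,0,2,-2,2⟩,⟨0,2,-2,0,0,0,2,-2⟩,⟨0,0,2,-2,0,-2,-2,0⟩,⟨0,-2,-2,2,-2,0,0,0⟩],
  [⟨2,-2,0,0,2,0,0,2⟩,⟨-2,2,-2,0,0,2,0,0⟩,⟨2,0,2,-2,0,0,0,-2⟩,⟨0,0,-2,2,0,-2,-2,0⟩,⟨4,-2,-2,2,2,0,0,0⟩,⟨-4,4,0,0,0,0,0,0⟩,⟨4,-2,2,-2,-2,0,0,0⟩,⟨-2,0,-4,2,2,-2,0,0⟩,⟨-2,0,0,0,0,-2,2,-2⟩,⟨0,-2,2,0,0,0,-2,2⟩,⟨0,0,-2,2,0,2,2,0⟩,⟨0,2,2,-2,2,0,0,0⟩],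
  [⟨2,0,0,-2,-2,2,0,0⟩,⟨0,0,-2,0,2,-2,0,-2⟩,⟨-2,0,2,0,-2,0,-2,0⟩,⟨2,-2,0,2,0,0,2,0⟩,⟨4,-2,-2,0,0,0,2,-2⟩,⟨-4,2,0,0,2,-2,-2,0⟩,⟨2,-2,2,0,-4,2,0,0⟩,⟨0,0,-2,2,4,-2,2,0⟩,⟨0,0,2,0,2,-2,0,2⟩,⟨0,0,-2,0,-2,2,0,2⟩,⟨0,0,0,-2,2,0,2,-2⟩,⟨0,0,0,0,0,0,-4,0⟩],
  [⟨-2,0,0,2,2,-2,0,0⟩,⟨0,0,2,0,-2,2,0,2⟩,⟨2,0,-2,0,2,0,2,0⟩,⟨-2,2,0,-2,0,0,-2,0⟩,⟨4,-2,0,2,0,-2,0,-2⟩,⟨-4,2,0,2,0,-2,0,2⟩,⟨2,-2,2,-2,-2,2,2,2⟩,⟨0,0,-4,0,4,0,0,0⟩,⟨0,0,-2,0,-2,2,0,-2⟩,⟨0,0,2,0,2,-2,0,-2⟩,⟨0,0,0,2,-2,0,-2,2⟩,⟨0,0,0,0,0,0,4,0⟩]]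

/-- Part 10 of the table of stage 2. -/
def ker2_10 : List (List Ico) := [
  [⟨2,0,0,-2,-2,2,0,0⟩,⟨0,0,-2,0,2,-2,0,-2⟩,⟨-2,0,2,0,-2,0,-2,0⟩,⟨2,-2,0,2,0,0,2,0⟩,⟨2,0,-2,0,2,0,2,0⟩,⟨-2,2,0,-2,0,0,-2,0⟩,⟨2,-2,0,0,-2,0,0,-2⟩,⟨-2,0,0,2,2,-2,0,0⟩,⟨0,0,2,0,2,-2,0,2⟩,⟨0,0,-2,0,-2,2,0,2⟩,⟨0,0,0,-2,2,0,2,-2⟩,⟨0,0,0,0,0,0,-4,0⟩],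
  [⟨-2,0,0,2,2,-2,0,0⟩,⟨0,0,2,0,-2,2,0,2⟩,⟨2,0,-2,0,2,0,2,0⟩,⟨-2,2,0,-2,0,0,-2,0⟩,⟨2,0,0,2,2,-2,0,0⟩,⟨-2,2,0,0,-2,0,0,2⟩,⟨2,-2,0,-2,0,0,2,0⟩,⟨-2,0,-2,0,2,0,-2,0⟩,⟨0,0,-2,0,-2,2,0,-2⟩,⟨0,0,2,0,2,-2,0,-2⟩,⟨0,0,0,2,-2,0,-2,2⟩,⟨0,0,0,0,0,0,4,0⟩],
  [⟨-2,2,0,0,-2,0,0,-2⟩,⟨2,-2,2,0,0,-2,0,0⟩,⟨-2,0,-2,2,0,0,0,2⟩,⟨0,0,2,-2,0,2,2,0⟩,⟨2,0,0,0,0,-2,2,-2⟩,⟨-2,0,0,0,0,-2,-2,2⟩,⟨0,-2,0,0,-2,2,2,0⟩,⟨0,0,0,0,4,0,0,0⟩,⟨2,0,0,0,0,2,-2,2⟩,⟨0,2,-2,0,0,0,2,-2⟩,⟨0,0,2,-2,0,-2,-2,0⟩,⟨0,-2,-2,2,-2,0,0,0⟩],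
  [⟨2,-2,0,0,2,0,0,2⟩,⟨-2,2,-2,0,0,2,0,0⟩,⟨2,0,2,-2,0,0,0,-2⟩,⟨0,0,-2,2,0,-2,-2,0⟩,⟨2,-2,0,2,0,0,2,0⟩,⟨-2,2,0,0,2,0,0,2⟩,⟨2,0,0,-2,-2,2,0,0⟩,⟨0,0,-2,0,2,-2,0,-2⟩,⟨-2,0,0,0,0,-2,2,-2⟩,⟨0,-2,2,0,0,0,-2,2⟩,⟨0,0,-2,2,0,2,2,0⟩,⟨0,2,2,-2,2,0,0,0⟩],
  [⟨0,0,2,-2,0,-2,2,0⟩,⟨0,-2,-2,0,0,0,-2,2⟩,⟨-2,0,0,0,0,2,2,-2⟩,⟨2,0,2,0,2,0,-2,0⟩,⟨4,-2,0,0,2,-2,2,0⟩,⟨-4,2,-2,0,0,0,-2,2⟩,⟨2,-2,2,-2,-2,2,2,-2⟩,⟨0,0,-2,2,4,-2,-2,0⟩,⟨-2,2,0,2,0,0,-2,0⟩,⟨2,0,2,0,-2,0,2,0⟩,⟨0,0,-2,0,2,-2,0,2⟩,⟨-2,0,0,-2,-2,2,0,0⟩],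
  [⟨0,0,-2,2,0,2,-2,0⟩,⟨0,2,2,0,0,0,2,-2⟩,⟨2,0,0,0,0,-2,-2,2⟩,⟨-2,0,-2,0,-2,0,2,0⟩,⟨2,-2,0,0,2,0,0,-2⟩,⟨-2,2,0,2,0,0,-2,0⟩,⟨2,0,2,0,-2,0,2,0⟩,⟨0,0,-2,0,2,-2,0,2⟩,⟨2,-2,0,-2,0,0,2,0⟩,⟨-2,0,-2,0,2,0,-2,0⟩,⟨0,0,2,0,-2,2,0,-2⟩,⟨2,0,0,2,2,-2,0,0⟩],
  [⟨0,2,2,0,0,0,-2,2⟩,⟨2,0,-2,0,-2,0,2,0⟩,⟨-2,0,0,-2,2,-2,0,0⟩,⟨0,-2,0,0,-2,2,-2,0⟩,⟨4,0,0,2,2,0,2,-2⟩,⟨-2,4,0,0,0,-2,-2,2⟩,⟨2,-2,0,-2,-4,0,2,0⟩,⟨-2,-2,-2,0,4,-2,0,0⟩,⟨0,-2,-2,2,2,0,0,0⟩,⟨-2,2,2,0,0,2,0,0⟩,⟨4,0,0,0,0,0,0,0⟩,⟨-2,2,-2,0,0,-2,0,0⟩],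
  [⟨0,-2,-2,0,0,0,2,-2⟩,⟨-2,0,2,0,2,0,-2,0⟩,⟨2,0,0,2,-2,2,0,0⟩,⟨0,2,0,0,2,-2,2,0⟩,⟨2,-2,-2,2,2,-2,2,-2⟩,⟨-4,2,2,0,0,0,-2,2⟩,⟨4,-2,0,0,-2,2,2,0⟩,⟨-2,2,-2,0,4,-2,0,0⟩,⟨0,2,2,-2,-2,0,0,0⟩,⟨2,-2,-2,0,0,-2,0,0⟩,⟨-4,0,0,0,0,0,0,0⟩,⟨2,-2,2,0,0,2,0,0⟩],
  [⟨0,0,2,0,-2,2,4,-2⟩,⟨2,0,0,0,4,-2,-2,2⟩,⟨-2,2,-2,0,-4,2,0,0⟩,⟨2,-2,2,-2,2,-2,2,-2⟩,⟨2,0,-2,2,0,0,0,-2⟩,⟨-2,2,2,0,0,-2,0,0⟩,⟨2,-2,0,0,-2,0,0,2⟩,⟨-2,0,-2,0,2,0,2,0⟩,⟨-2,0,2,-2,0,0,-4,2⟩,⟨2,-2,-2,2,-2,2,2,-2⟩,⟨-2,2,2,0,4,-2,0,0⟩,⟨2,0,0,0,-4,2,-2,2⟩],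
  [⟨0,0,-2,0,2,-2,-4,2⟩,⟨-2,0,0,0,-4,2,2,-2⟩,⟨2,-2,2,0,4,-2,0,0⟩,⟨-2,2,-2,2,-2,2,-2,2⟩,⟨2,0,-2,0,-2,0,-2,0⟩,⟨-2,0,0,0,0,-2,2,-2⟩,⟨0,-2,2,0,0,0,-2,2⟩,⟨0,0,-2,2,0,2,2,0⟩,⟨2,0,-2,2,0,0,4,-2⟩,⟨-2,2,2,-2,2,-2,-2,2⟩,⟨2,-2,-2,0,-4,2,0,0⟩,⟨-2,0,0,0,4,-2,2,-2⟩],
  [⟨0,2,2,-2,-2,0,0,0⟩,⟨2,-2,-2,0,0,-2,0,0⟩,⟨-4,0,0,0,0,0,0,0⟩,⟨2,-2,2,0,0,2,0,0⟩,⟨4,0,0,0,0,0,0,0⟩,⟨-2,2,-2,0,0,-2,0,0⟩,⟨0,-2,2,-2,-2,0,0,0⟩,⟨0,-2,-2,2,2,0,0,0⟩,⟨0,0,0,2,2,0,-2,2⟩,⟨0,2,0,0,-2,2,2,0⟩,⟨2,0,0,-2,2,-2,0,0⟩,⟨-2,0,-2,0,-2,0,-2,0⟩],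
  [⟨0,-2,-2,2,2,0,0,0⟩,⟨-2,2,2,0,0,2,0,0⟩,⟨4,0,0,0,0,0,0,0⟩,⟨-2,2,-2,0,0,-2,0,0⟩,⟨2,-2,0,2,0,0,-2,0⟩,⟨-2,2,0,2,0,0,2,0⟩,⟨2,0,2,-2,0,0,0,2⟩,⟨0,0,-4,0,0,0,0,0⟩,⟨0,0,0,-2,-2,0,2,-2⟩,⟨0,-2,0,0,2,-2,-2,0⟩,⟨-2,0,0,2,-2,2,0,0⟩,⟨2,0,2,0,2,0,2,0⟩],
  [⟨-4,2,2,-2,2,0,0,0⟩,⟨4,-2,0,0,-2,2,-2,0⟩,⟨-2,2,-2,2,2,-2,2,-2⟩,⟨0,0,4,-2,-2,0,-2,2⟩,⟨0,0,0,0,0,0,0,0⟩,⟨0,0,0,0,0,0,0,0⟩,⟨0,0,0,0,0,0,0,0⟩,⟨0,0,0,0,0,0,0,0⟩,⟨0,0,-4,2,-2,0,-2,2⟩,⟨-2,0,2,-2,0,0,4,-2⟩,⟨2,-2,0,0,2,0,-4,2⟩,⟨-2,2,-2,2,-2,2,2,-2⟩],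
  [⟨4,-2,-2,2,-2,0,0,0⟩,⟨-4,2,0,0,2,-2,2,0⟩,⟨2,-2,2,-2,-2,2,-2,2⟩,⟨0,0,-4,2,2,0,2,-2⟩,⟨0,2,-2,2,-2,0,0,0⟩,⟨0,0,2,-2,0,-2,2,0⟩,⟨0,-2,-2,0,0,0,-2,2⟩,⟨-2,0,0,0,0,2,2,-2⟩,⟨0,0,4,-2,2,0,2,-2⟩,⟨2,0,-2,2,0,0,-4,2⟩,⟨-2,2,0,0,-2,0,4,-2⟩,⟨2,-2,2,-2,2,-2,-2,2⟩],
  [⟨0,0,2,0,2,-2,0,2⟩,⟨0,0,-2,0,-2,2,0,2⟩,⟨0,0,0,-2,2,0,2,-2⟩,⟨0,0,0,0,0,0,-4,0⟩,⟨2,0,0,2,-2,2,0,0⟩,⟨0,2,0,0,2,-2,2,0⟩,⟨0,0,0,-2,-2,0,-2,2⟩,⟨0,-2,-2,0,0,0,2,-2⟩,⟨-2,0,-2,2,0,0,0,-2⟩,⟨0,0,4,0,0,0,0,0⟩,⟨2,0,-2,2,0,0,0,2⟩,⟨-2,2,0,-2,0,0,2,0⟩],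
  [⟨0,0,-2,0,-2,2,0,-2⟩,⟨0,0,2,0,2,-2,0,-2⟩,⟨0,0,0,2,-2,0,-2,2⟩,⟨0,0,0,0,0,0,4,0⟩,⟨0,0,-2,0,-2,2,0,-2⟩,⟨0,0,2,0,2,-2,0,-2⟩,⟨0,0,0,2,-2,0,-2,2⟩,⟨0,0,0,0,0,0,4,0⟩,⟨2,0,2,-2,0,0,0,2⟩,⟨0,0,-4,0,0,0,0,0⟩,⟨-2,0,2,-2,0,0,0,-2⟩,⟨2,-2,0,2,0,0,-2,0⟩],
  [⟨2,0,0,0,4,-2,2,-2⟩,⟨-2,2,0,0,-2,0,-4,2⟩,⟨2,-2,0,0,-2,0,4,-2⟩,⟨-2,0,0,0,4,-2,-2,2⟩,⟨2,0,-2,0,2,0,-2,0⟩,⟨-2,2,0,0,-2,0,0,-2⟩,⟨2,-2,2,0,0,-2,0,0⟩,⟨-2,0,-2,2,0,0,0,2⟩,⟨-4,2,0,0,-2,2,2,0⟩,⟨4,-2,2,-2,2,0,0,0⟩,⟨-2,2,-4,2,0,0,-2,0⟩,⟨0,0,4,-2,-2,0,2,-2⟩],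
  [⟨-2,0,0,0,-4,2,-2,2⟩,⟨2,-2,0,0,2,0,4,-2⟩,⟨-2,2,0,0,2,0,-4,2⟩,⟨2,0,0,0,-4,2,2,-2⟩,⟨0,0,0,0,0,0,0,0⟩,⟨0,0,0,0,0,0,0,0⟩,⟨0,0,0,0,0,0,0,0⟩,⟨0,0,0,0,0,0,0,0⟩,⟨4,-2,0,0,2,-2,-2,0⟩,⟨-4,2,-2,2,-2,0,0,0⟩,⟨2,-2,4,-2,0,0,2,0⟩,⟨0,0,-4,2,2,0,-2,2⟩],
  [⟨-2,0,0,0,0,-2,2,-2⟩,⟨0,-2,2,0,0,0,-2,2⟩,⟨0,0,-2,2,0,2,2,0⟩,⟨0,2,2,-2,2,0,0,0⟩,⟨0,0,-2,2,0,-2,-2,0⟩,⟨-2,0,2,0,-2,0,2,0⟩,⟨2,-2,0,0,2,0,0,2⟩,⟨-2,2,-2,0,0,2,0,0⟩,⟨0,2,0,0,-2,2,-2,0⟩,⟨2,0,0,0,0,-2,2,-2⟩,⟨-2,0,0,0,0,-2,-2,2⟩,⟨0,-2,0,0,-2,2,2,0⟩],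
  [⟨2,0,0,0,0,2,-2,2⟩,⟨0,2,-2,0,0,0,2,-2⟩,⟨0,0,2,-2,0,-2,-2,0⟩,⟨0,-2,-2,2,-2,0,0,0⟩,⟨0,0,-2,2,0,2,-2,0⟩,⟨0,2,2,0,0,0,2,-2⟩,⟨2,0,0,0,0,-2,-2,2⟩,⟨-2,0,-2,0,-2,0,2,0⟩,⟨0,-2,0,0,2,-2,2,0⟩,⟨-2,0,0,0,0,2,-2,2⟩,⟨2,0,0,0,0,2,2,-2⟩,⟨0,2,0,0,2,-2,-2,0⟩],
  [⟨2,-2,0,-2,0,0,2,0⟩,⟨-2,0,-2,0,2,0,-2,0⟩,⟨0,0,2,0,-2,2,0,-2⟩,⟨2,0,0,2,2,-2,0,0⟩,⟨0,0,0,0,0,0,0,0⟩,⟨0,0,0,0,0,0,0,0⟩,⟨0,0,0,0,0,0,0,0⟩,⟨0,0,0,0,0,0,0,0⟩,⟨-2,2,2,0,0,-2,0,0⟩,⟨2,-2,0,0,-2,0,0,2⟩,⟨-2,0,-2,0,2,0,2,0⟩,⟨0,0,2,-2,0,2,-2,0⟩]]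

/-- Part 11 of the table of stage 2. -/
def ker2_11 : List (List Ico) := [
  [⟨-2,2,0,2,0,0,-2,0⟩,⟨2,0,2,0,-2,0,2,0⟩,⟨0,0,-2,0,2,-2,0,2⟩,⟨-2,0,0,-2,-2,2,0,0⟩,⟨0,2,2,0,0,0,-2,-2⟩,⟨2,0,0,2,-2,-2,0,0⟩,⟨-2,0,0,0,0,-2,2,2⟩,⟨0,-2,0,-2,0,2,0,2⟩,⟨2,-2,-2,0,0,2,0,0⟩,⟨-2,2,0,0,2,0,0,-2⟩,⟨2,0,2,0,-2,0,-2,0⟩,⟨0,0,-2,2,0,-2,2,0⟩],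
  [⟨2,-2,4,-2,0,0,-2,0⟩,⟨0,0,-4,4,0,0,0,0⟩,⟨-2,2,4,-2,0,0,2,0⟩,⟨4,-2,-2,0,0,0,-2,2⟩,⟨2,-2,0,0,-2,0,0,-2⟩,⟨-2,0,0,2,2,-2,0,0⟩,⟨0,0,2,0,-2,2,0,2⟩,⟨2,0,-2,0,2,0,2,0⟩,⟨-2,2,-2,0,4,-2,0,0⟩,⟨0,0,2,-2,-4,2,-2,0⟩,⟨2,-2,-2,2,2,-2,2,-2⟩,⟨-4,2,2,0,0,0,-2,2⟩],
  [⟨-2,2,-4,2,0,0,2,0⟩,⟨0,0,4,-4,0,0,0,0⟩,⟨2,-2,-4,2,0,0,-2,0⟩,⟨-4,2,2,0,0,0,2,-2⟩,⟨0,0,0,0,0,0,0,0⟩,⟨0,0,0,0,0,0,0,0⟩,⟨0,0,0,0,0,0,0,0⟩,⟨0,0,0,0,0,0,0,0⟩,⟨2,-2,2,0,-4,2,0,0⟩,⟨0,0,-2,2,4,-2,2,0⟩,⟨-2,2,2,-2,-2,2,-2,2⟩,⟨4,-2,-2,0,0,0,2,-2⟩],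
  [⟨2,-2,4,-2,0,0,-2,0⟩,⟨0,0,-4,4,0,0,0,0⟩,⟨-2,2,4,-2,0,0,2,0⟩,⟨4,-2,-2,0,0,0,-2,2⟩,⟨2,0,-2,2,0,0,0,-2⟩,⟨-2,2,2,0,0,-2,0,0⟩,⟨2,-2,0,0,-2,0,0,2⟩,⟨-2,0,-2,0,2,0,2,0⟩,⟨-2,2,-2,0,4,-2,0,0⟩,⟨0,0,2,-2,-4,2,-2,0⟩,⟨2,-2,-2,2,2,-2,2,-2⟩,⟨-4,2,2,0,0,0,-2,2⟩],
  [⟨-2,2,-4,2,0,0,2,0⟩,⟨0,0,4,-4,0,0,0,0⟩,⟨2,-2,-4,2,0,0,-2,0⟩,⟨-4,2,2,0,0,0,2,-2⟩,⟨0,2,-2,2,2,0,0,0⟩,⟨0,2,2,-2,-2,0,0,0⟩,⟨2,-2,-2,0,0,-2,0,0⟩,⟨-4,0,0,0,0,0,0,0⟩,⟨2,-2,2,0,-4,2,0,0⟩,⟨0,0,-2,2,4,-2,2,0⟩,⟨-2,2,2,-2,-2,2,-2,2⟩,⟨4,-2,-2,0,0,0,2,-2⟩],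
  [⟨2,-2,0,-2,0,0,2,0⟩,⟨-2,0,-2,0,2,0,-2,0⟩,⟨0,0,2,0,-2,2,0,-2⟩,⟨2,0,0,2,2,-2,0,0⟩,⟨2,-2,-4,2,0,0,2,0⟩,⟨-4,2,2,-2,2,0,0,0⟩,⟨4,-2,0,0,-2,2,-2,0⟩,⟨-2,2,-2,2,2,-2,2,-2⟩,⟨-2,2,2,0,0,-2,0,0⟩,⟨2,-2,0,0,-2,0,0,2⟩,⟨-2,0,-2,0,2,0,2,0⟩,⟨0,0,2,-2,0,2,-2,0⟩],
  [⟨-2,2,0,2,0,0,-2,0⟩,⟨2,0,2,0,-2,0,2,0⟩,⟨0,0,-2,0,2,-2,0,2⟩,⟨-2,0,0,-2,-2,2,0,0⟩,⟨2,0,-2,2,0,0,0,-2⟩,⟨-2,2,2,0,0,-2,0,0⟩,⟨2,-2,0,0,-2,0,0,2⟩,⟨-2,0,-2,0,2,0,2,0⟩,⟨2,-2,-2,0,0,2,0,0⟩,⟨-2,2,0,0,2,0,0,-2⟩,⟨2,0,2,0,-2,0,-2,0⟩,⟨0,0,-2,2,0,-2,2,0⟩],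
  [⟨-2,0,0,0,0,-2,2,-2⟩,⟨0,-2,2,0,0,0,-2,2⟩,⟨0,0,-2,2,0,2,2,0⟩,⟨0,2,2,-2,2,0,0,0⟩,⟨2,0,0,0,0,-2,2,-2⟩,⟨-2,0,0,0,0,-2,-2,2⟩,⟨0,-2,0,0,-2,2,2,0⟩,⟨0,0,0,0,4,0,0,0⟩,⟨0,2,0,0,-2,2,-2,0⟩,⟨2,0,0,0,0,-2,2,-2⟩,⟨-2,0,0,0,0,-2,-2,2⟩,⟨0,-2,0,0,-2,2,2,0⟩],
  [⟨2,0,0,0,0,2,-2,2⟩,⟨0,2,-2,0,0,0,2,-2⟩,⟨0,0,2,-2,0,-2,-2,0⟩,⟨0,-2,-2,2,-2,0,0,0⟩,⟨2,0,0,0,0,2,2,-2⟩,⟨0,2,0,0,2,-2,-2,0⟩,⟨0,0,0,0,-4,0,0,0⟩,⟨0,-2,0,0,2,-2,2,0⟩,⟨0,-2,0,0,2,-2,2,0⟩,⟨-2,0,0,0,0,2,-2,2⟩,⟨2,0,0,0,0,2,2,-2⟩,⟨0,2,0,0,2,-2,-2,0⟩],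
  [⟨2,0,0,0,4,-2,2,-2⟩,⟨-2,2,0,0,-2,0,-4,2⟩,⟨2,-2,0,0,-2,0,4,-2⟩,⟨-2,0,0,0,4,-2,-2,2⟩,⟨2,0,-2,2,0,0,0,-2⟩,⟨-2,2,2,0,0,-2,0,0⟩,⟨2,-2,0,0,-2,0,0,2⟩,⟨-2,0,-2,0,2,0,2,0⟩,⟨-4,2,0,0,-2,2,2,0⟩,⟨4,-2,2,-2,2,0,0,0⟩,⟨-2,2,-4,2,0,0,-2,0⟩,⟨0,0,4,-2,-2,0,2,-2⟩],
  [⟨-2,0,0,0,-4,2,-2,2⟩,⟨2,-2,0,0,2,0,4,-2⟩,⟨-2,2,0,0,2,0,-4,2⟩,⟨2,0,0,0,-4,2,2,-2⟩,⟨0,0,0,2,-2,0,2,-2⟩,⟨0,0,2,0,2,-2,0,2⟩,⟨0,0,-2,0,-2,2,0,2⟩,⟨0,0,0,-2,2,0,2,-2⟩,⟨4,-2,0,0,2,-2,-2,0⟩,⟨-4,2,-2,2,-2,0,0,0⟩,⟨2,-2,4,-2,0,0,2,0⟩,⟨0,0,-4,2,2,0,-2,2⟩],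
  [⟨0,0,2,0,2,-2,0,2⟩,⟨0,0,-2,0,-2,2,0,2⟩,⟨0,0,0,-2,2,0,2,-2⟩,⟨0,0,0,0,0,0,-4,0⟩,⟨2,0,0,2,2,-2,0,0⟩,⟨-2,2,0,0,-2,0,0,2⟩,⟨2,-2,0,-2,0,0,2,0⟩,⟨-2,0,-2,0,2,0,-2,0⟩,⟨-2,0,-2,2,0,0,0,-2⟩,⟨0,0,4,0,0,0,0,0⟩,⟨2,0,-2,2,0,0,0,2⟩,⟨-2,2,0,-2,0,0,2,0⟩],
  [⟨0,0,-2,0,-2,2,0,-2⟩,⟨0,0,2,0,2,-2,0,-2⟩,⟨0,0,0,2,-2,0,-2,2⟩,⟨0,0,0,0,0,0,4,0⟩,⟨0,0,-2,0,2,-2,0,-2⟩,⟨-2,0,2,0,-2,0,-2,0⟩,⟨2,-2,0,2,0,0,2,0⟩,⟨-2,2,0,0,2,0,0,2⟩,⟨2,0,2,-2,0,0,0,2⟩,⟨0,0,-4,0,0,0,0,0⟩,⟨-2,0,2,-2,0,0,0,-2⟩,⟨2,-2,0,2,0,0,-2,0⟩],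
  [⟨-4,2,2,-2,2,0,0,0⟩,⟨4,-2,0,0,-2,2,-2,0⟩,⟨-2,2,-2,2,2,-2,2,-2⟩,⟨0,0,4,-2,-2,0,-2,2⟩,⟨2,-2,0,0,2,0,0,-2⟩,⟨-2,2,0,2,0,0,-2,0⟩,⟨2,0,2,0,-2,0,2,0⟩,⟨0,0,-2,0,2,-2,0,2⟩,⟨0,0,-4,2,-2,0,-2,2⟩,⟨-2,0,2,-2,0,0,4,-2⟩,⟨2,-2,0,0,2,0,-4,2⟩,⟨-2,2,-2,2,-2,2,2,-2⟩],
  [⟨4,-2,-2,2,-2,0,0,0⟩,⟨-4,2,0,0,2,-2,2,0⟩,⟨2,-2,2,-2,-2,2,-2,2⟩,⟨0,0,-4,2,2,0,2,-2⟩,⟨2,0,-2,2,0,0,0,-2⟩,⟨-2,2,2,0,0,-2,0,0⟩,⟨2,-2,0,0,-2,0,0,2⟩,⟨-2,0,-2,0,2,0,2,0⟩,⟨0,0,4,-2,2,0,2,-2⟩,⟨2,0,-2,2,0,0,-4,2⟩,⟨-2,2,0,0,-2,0,4,-2⟩,⟨2,-2,2,-2,2,-2,-2,2⟩],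
  [⟨0,2,2,-2,-2,0,0,0⟩,⟨2,-2,-2,0,0,-2,0,0⟩,⟨-4,0,0,0,0,0,0,0⟩,⟨2,-2,2,0,0,2,0,0⟩,⟨0,2,-2,0,0,0,2,-2⟩,⟨0,0,2,-2,0,-2,-2,0⟩,⟨0,-2,-2,2,-2,0,0,0⟩,⟨-2,0,2,0,2,0,2,0⟩,⟨0,0,0,2,2,0,-2,2⟩,⟨0,2,0,0,-2,2,2,0⟩,⟨2,0,0,-2,2,-2,0,0⟩,⟨-2,0,-2,0,-2,0,-2,0⟩],
  [⟨0,-2,-2,2,2,0,0,0⟩,⟨-2,2,2,0,0,2,0,0⟩,⟨4,0,0,0,0,0,0,0⟩,⟨-2,2,-2,0,0,-2,0,0⟩,⟨-2,0,-2,2,0,0,0,-2⟩,⟨0,0,4,0,0,0,0,0⟩,⟨2,0,-2,2,0,0,0,2⟩,⟨-2,2,0,-2,0,0,2,0⟩,⟨0,0,0,-2,-2,0,2,-2⟩,⟨0,-2,0,0,2,-2,-2,0⟩,⟨-2,0,0,2,-2,2,0,0⟩,⟨2,0,2,0,2,0,2,0⟩],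
  [⟨0,0,2,0,-2,2,4,-2⟩,⟨2,0,0,0,4,-2,-2,2⟩,⟨-2,2,-2,0,-4,2,0,0⟩,⟨2,-2,2,-2,2,-2,2,-2⟩,⟨0,0,0,2,2,0,2,-2⟩,⟨0,2,2,0,0,0,-2,2⟩,⟨2,0,-2,0,-2,0,2,0⟩,⟨-2,0,0,-2,2,-2,0,0⟩,⟨-2,0,2,-2,0,0,-4,2⟩,⟨2,-2,-2,2,-2,2,2,-2⟩,⟨-2,2,2,0,4,-2,0,0⟩,⟨2,0,0,0,-4,2,-2,2⟩],
  [⟨0,0,-2,0,2,-2,-4,2⟩,⟨-2,0,0,0,-4,2,2,-2⟩,⟨2,-2,2,0,4,-2,0,0⟩,⟨-2,2,-2,2,-2,2,-2,2⟩,⟨0,0,0,0,0,0,0,0⟩,⟨0,0,0,0,0,0,0,0⟩,⟨0,0,0,0,0,0,0,0⟩,⟨0,0,0,0,0,0,0,0⟩,⟨2,0,-2,2,0,0,4,-2⟩,⟨-2,2,2,-2,2,-2,-2,2⟩,⟨2,-2,-2,0,-4,2,0,0⟩,⟨-2,0,0,0,4,-2,2,-2⟩],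
  [⟨0,2,-2,0,0,0,-2,2⟩,⟨0,0,0,-2,-2,0,2,-2⟩,⟨0,-2,0,0,2,-2,-2,0⟩,⟨-2,0,0,2,-2,2,0,0⟩,⟨2,0,-2,0,2,0,2,0⟩,⟨-2,2,0,-2,0,0,-2,0⟩,⟨2,-2,0,0,-2,0,0,-2⟩,⟨-2,0,0,2,2,-2,0,0⟩,⟨2,-2,0,2,0,0,2,0⟩,⟨-2,2,0,0,2,0,0,2⟩,⟨2,0,0,-2,-2,2,0,0⟩,⟨0,0,-2,0,2,-2,0,-2⟩],
  [⟨0,-2,2,0,0,0,2,-2⟩,⟨0,0,0,2,2,0,-2,2⟩,⟨0,2,0,0,-2,2,2,0⟩,⟨2,0,0,-2,2,-2,0,0⟩,⟨2,-2,-2,2,2,-2,2,-2⟩,⟨-4,2,2,0,0,0,-2,2⟩,⟨4,-2,0,0,-2,2,2,0⟩,⟨-2,2,-2,0,4,-2,0,0⟩,⟨-2,2,0,-2,0,0,-2,0⟩,⟨2,-2,0,0,-2,0,0,-2⟩,⟨-2,0,0,2,2,-2,0,0⟩,⟨0,0,2,0,-2,2,0,2⟩]]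

/-- Part 12 of the table of stage 2. -/
def ker2_12 : List (List Ico) := [
  [⟨-2,0,0,-2,-2,2,0,0⟩,⟨2,-2,0,0,2,0,0,-2⟩,⟨-2,2,0,2,0,0,-2,0⟩,⟨2,0,2,0,-2,0,2,0⟩,⟨0,-2,-2,0,0,0,2,-2⟩,⟨-2,0,2,0,2,0,-2,0⟩,⟨2,0,0,2,-2,2,0,0⟩,⟨0,2,0,0,2,-2,2,0⟩,⟨2,0,0,0,0,-2,-2,2⟩,⟨-2,0,-2,0,-2,0,2,0⟩,⟨0,-2,2,-2,2,0,0,0⟩,⟨0,0,-2,2,0,2,-2,0⟩],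
  [⟨2,0,0,2,2,-2,0,0⟩,⟨-2,2,0,0,-2,0,0,2⟩,⟨2,-2,0,-2,0,0,2,0⟩,⟨-2,0,-2,0,2,0,-2,0⟩,⟨2,0,-2,2,0,0,0,-2⟩,⟨-2,2,2,0,0,-2,0,0⟩,⟨2,-2,0,0,-2,0,0,2⟩,⟨-2,0,-2,0,2,0,2,0⟩,⟨-2,0,0,0,0,2,2,-2⟩,⟨2,0,2,0,2,0,-2,0⟩,⟨0,2,-2,2,-2,0,0,0⟩,⟨0,0,2,-2,0,-2,2,0⟩],
  [⟨0,0,2,-2,0,-2,-2,0⟩,⟨0,-2,-2,2,-2,0,0,0⟩,⟨-2,0,2,0,2,0,2,0⟩,⟨2,0,0,0,0,2,-2,2⟩,⟨4,-2,-2,0,0,0,2,-2⟩,⟨-4,2,0,0,2,-2,-2,0⟩,⟨2,-2,2,0,-4,2,0,0⟩,⟨0,0,-2,2,4,-2,2,0⟩,⟨0,2,-2,2,2,0,0,0⟩,⟨0,2,2,-2,-2,0,0,0⟩,⟨2,-2,-2,0,0,-2,0,0⟩,⟨-4,0,0,0,0,0,0,0⟩],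
  [⟨0,0,-2,2,0,2,2,0⟩,⟨0,2,2,-2,2,0,0,0⟩,⟨2,0,-2,0,-2,0,-2,0⟩,⟨-2,0,0,0,0,-2,2,-2⟩,⟨2,-2,-2,2,2,2,2,-2⟩,⟨-2,4,2,0,2,0,-2,0⟩,⟨4,0,0,0,-4,0,0,0⟩,⟨-2,0,-2,0,2,-4,2,0⟩,⟨0,-2,2,-2,-2,0,0,0⟩,⟨0,-2,-2,2,2,0,0,0⟩,⟨-2,2,2,0,0,2,0,0⟩,⟨4,0,0,0,0,0,0,0⟩],
  [⟨2,-2,0,0,-2,0,0,2⟩,⟨-2,0,-2,0,2,0,2,0⟩,⟨0,0,2,-2,0,2,-2,0⟩,⟨2,0,-2,2,0,0,0,-2⟩,⟨2,0,-2,2,0,0,4,-2⟩,⟨-2,2,2,-2,2,-2,-2,2⟩,⟨2,-2,-2,0,-4,2,0,0⟩,⟨-2,0,0,0,4,-2,2,-2⟩,⟨0,0,2,0,2,-2,0,-2⟩,⟨0,0,0,2,-2,0,-2,2⟩,⟨0,0,0,0,0,0,4,0⟩,⟨0,0,0,-2,2,0,-2,2⟩],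
  [⟨-2,2,0,0,2,0,0,-2⟩,⟨2,0,2,0,-2,0,-2,0⟩,⟨0,0,-2,2,0,-2,2,0⟩,⟨-2,0,2,-2,0,0,0,2⟩,⟨2,0,-2,0,2,0,2,-4⟩,⟨-2,2,2,0,0,-2,-4,0⟩,⟨2,-2,0,2,-4,0,2,0⟩,⟨-2,0,0,0,4,-2,2,2⟩,⟨0,0,-2,0,-2,2,0,2⟩,⟨0,0,0,-2,2,0,2,-2⟩,⟨0,0,0,0,0,0,-4,0⟩,⟨0,0,0,2,-2,0,2,-2⟩],
  [⟨2,-2,0,0,-2,0,0,2⟩,⟨-2,0,-2,0,2,0,2,0⟩,⟨0,0,2,-2,0,2,-2,0⟩,⟨2,0,-2,2,0,0,0,-2⟩,⟨2,-2,0,2,0,0,2,0⟩,⟨-2,2,0,0,2,0,0,2⟩,⟨2,0,0,-2,-2,2,0,0⟩,⟨0,0,-2,0,2,-2,0,-2⟩,⟨0,0,2,0,2,-2,0,-2⟩,⟨0,0,0,2,-2,0,-2,2⟩,⟨0,0,0,0,0,0,4,0⟩,⟨0,0,0,-2,2,0,-2,2⟩],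
  [⟨-2,2,0,0,2,0,0,-2⟩,⟨2,0,2,0,-2,0,-2,0⟩,⟨0,0,-2,2,0,-2,2,0⟩,⟨-2,0,2,-2,0,0,0,2⟩,⟨2,-2,0,0,2,0,0,-2⟩,⟨-2,2,0,2,0,0,-2,0⟩,⟨2,0,2,0,-2,0,2,0⟩,⟨0,0,-2,0,2,-2,0,2⟩,⟨0,0,-2,0,-2,2,0,2⟩,⟨0,0,0,-2,2,0,2,-2⟩,⟨0,0,0,0,0,0,-4,0⟩,⟨0,0,0,2,-2,0,2,-2⟩],
  [⟨0,0,2,-2,0,-2,-2,0⟩,⟨0,-2,-2,2,-2,0,0,0⟩,⟨-2,0,2,0,2,0,2,0⟩,⟨2,0,0,0,0,2,-2,2⟩,⟨2,0,0,0,0,-2,2,-2⟩,⟨-2,0,0,0,0,-2,-2,2⟩,⟨0,-2,0,0,-2,2,2,0⟩,⟨0,0,0,0,4,0,0,0⟩,⟨0,2,-2,2,2,0,0,0⟩,⟨0,2,2,-2,-2,0,0,0⟩,⟨2,-2,-2,0,0,-2,0,0⟩,⟨-4,0,0,0,0,0,0,0⟩],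
  [⟨0,0,-2,2,0,2,2,0⟩,⟨0,2,2,-2,2,0,0,0⟩,⟨2,0,-2,0,-2,0,-2,0⟩,⟨-2,0,0,0,0,-2,2,-2⟩,⟨0,0,0,2,2,0,2,-2⟩,⟨0,2,2,0,0,0,-2,2⟩,⟨2,0,-2,0,-2,0,2,0⟩,⟨-2,0,0,-2,2,-2,0,0⟩,⟨0,-2,2,-2,-2,0,0,0⟩,⟨0,-2,-2,2,2,0,0,0⟩,⟨-2,2,2,0,0,2,0,0⟩,⟨4,0,0,0,0,0,0,0⟩],
  [⟨-2,0,0,-2,-2,2,0,0⟩,⟨2,-2,0,0,2,0,0,-2⟩,⟨-2,2,0,2,0,0,-2,0⟩,⟨2,0,2,0,-2,0,2,0⟩,⟨2,-2,0,0,2,0,4,-2⟩,⟨-2,2,0,0,2,0,-4,2⟩,⟨2,0,0,0,-4,2,2,-2⟩,⟨0,0,0,0,4,-4,0,0⟩,⟨2,0,0,0,0,-2,-2,2⟩,⟨-2,0,-2,0,-2,0,2,0⟩,⟨0,-2,2,-2,2,0,0,0⟩,⟨0,0,-2,2,0,2,-2,0⟩],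
  [⟨2,0,0,2,2,-2,0,0⟩,⟨-2,2,0,0,-2,0,0,2⟩,⟨2,-2,0,-2,0,0,2,0⟩,⟨-2,0,-2,0,2,0,-2,0⟩,⟨4,0,0,2,2,0,2,-2⟩,⟨-2,4,0,0,0,-2,-2,2⟩,⟨2,-2,0,-2,-4,0,2,0⟩,⟨-2,-2,-2,0,4,-2,0,0⟩,⟨-2,0,0,0,0,2,2,-2⟩,⟨2,0,2,0,2,0,-2,0⟩,⟨0,2,-2,2,-2,0,0,0⟩,⟨0,0,2,-2,0,-2,2,0⟩],
  [⟨0,2,-2,0,0,0,-2,2⟩,⟨0,0,0,-2,-2,0,2,-2⟩,⟨0,-2,0,0,2,-2,-2,0⟩,⟨-2,0,0,2,-2,2,0,0⟩,⟨2,0,0,0,0,2,2,-2⟩,⟨0,2,0,0,2,-2,-2,0⟩,⟨0,0,0,0,-4,0,0,0⟩,⟨0,-2,0,0,2,-2,2,0⟩,⟨2,-2,0,2,0,0,2,0⟩,⟨-2,2,0,0,2,0,0,2⟩,⟨2,0,0,-2,-2,2,0,0⟩,⟨0,0,-2,0,2,-2,0,-2⟩],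
  [⟨0,-2,2,0,0,0,2,-2⟩,⟨0,0,0,2,2,0,-2,2⟩,⟨0,2,0,0,-2,2,2,0⟩,⟨2,0,0,-2,2,-2,0,0⟩,⟨2,-2,0,2,0,0,2,-4⟩,⟨-2,2,2,2,2,-2,-2,2⟩,⟨2,0,0,0,-4,2,2,2⟩,⟨0,0,-2,-2,4,-2,2,0⟩,⟨-2,2,0,-2,0,0,-2,0⟩,⟨2,-2,0,0,-2,0,0,-2⟩,⟨-2,0,0,2,2,-2,0,0⟩,⟨0,0,2,0,-2,2,0,2⟩],
  [⟨-2,2,0,0,-2,0,0,2⟩,⟨2,-2,0,-2,0,0,2,0⟩,⟨-2,0,-2,0,2,0,-2,0⟩,⟨0,0,2,0,-2,2,0,-2⟩,⟨4,0,2,0,-2,2,0,2⟩,⟨0,2,-4,0,2,-2,2,0⟩,⟨-2,0,2,-4,-2,0,-2,0⟩,⟨2,-4,-2,2,0,0,0,-2⟩,⟨2,-2,0,2,0,0,-2,0⟩,⟨-2,2,0,2,0,0,2,0⟩,⟨2,0,2,-2,0,0,0,2⟩,⟨0,0,-4,0,0,0,0,0⟩],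
  [⟨2,-2,0,0,2,0,0,-2⟩,⟨-2,2,0,2,0,0,-2,0⟩,⟨2,0,2,0,-2,0,2,0⟩,⟨0,0,-2,0,2,-2,0,2⟩,⟨4,-2,0,0,-2,2,-2,0⟩,⟨-2,2,-2,2,2,-2,2,-2⟩,⟨0,0,4,-2,-2,0,-2,2⟩,⟨2,-2,-4,2,0,0,2,0⟩,⟨-2,2,0,-2,0,0,2,0⟩,⟨2,-2,0,-2,0,0,-2,0⟩,⟨-2,0,-2,2,0,0,0,-2⟩,⟨0,0,4,0,0,0,0,0⟩],
  [⟨0,0,2,-2,0,2,2,0⟩,⟨2,0,-2,0,2,0,-2,0⟩,⟨-2,2,0,0,-2,0,0,-2⟩,⟨2,-2,2,0,0,-2,0,0⟩,⟨4,-2,0,0,-2,2,2,0⟩,⟨-2,2,-2,0,4,-2,0,0⟩,⟨0,0,2,-2,-4,2,-2,0⟩,⟨2,-2,-2,2,2,-2,2,-2⟩,⟨-2,0,0,0,0,-2,-2,2⟩,⟨0,-2,0,0,-2,2,2,0⟩,⟨0,0,0,0,4,0,0,0⟩,⟨0,2,0,0,-2,2,-2,0⟩],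
  [⟨0,0,-2,2,0,-2,-2,0⟩,⟨-2,0,2,0,-2,0,2,0⟩,⟨2,-2,0,0,2,0,0,2⟩,⟨-2,2,-2,0,0,2,0,0⟩,⟨4,0,0,0,-4,0,0,0⟩,⟨-2,0,-2,0,2,-4,2,0⟩,⟨-2,-2,2,-2,-2,2,-2,2⟩,⟨2,-2,-2,2,2,2,2,-2⟩,⟨2,0,0,0,0,2,2,-2⟩,⟨0,2,0,0,2,-2,-2,0⟩,⟨0,0,0,0,-4,0,0,0⟩,⟨0,-2,0,0,2,-2,2,0⟩],
  [⟨-2,0,0,-2,2,-2,0,0⟩,⟨0,-2,0,0,-2,2,-2,0⟩,⟨0,0,0,2,2,0,2,-2⟩,⟨0,2,2,0,0,0,-2,2⟩,⟨4,-2,2,-2,-2,0,0,0⟩,⟨-2,0,-4,2,2,-2,0,0⟩,⟨-2,0,4,-2,-2,2,0,0⟩,⟨4,-2,-2,2,2,0,0,0⟩,⟨0,2,-2,2,-2,0,0,0⟩,⟨0,0,2,-2,0,-2,2,0⟩,⟨0,-2,-2,0,0,0,-2,2⟩,⟨-2,0,0,0,0,2,2,-2⟩],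
  [⟨2,0,0,2,-2,2,0,0⟩,⟨0,2,0,0,2,-2,2,0⟩,⟨0,0,0,-2,-2,0,-2,2⟩,⟨0,-2,-2,0,0,0,2,-2⟩,⟨4,0,2,0,-2,2,0,-2⟩,⟨0,2,-2,2,2,-4,0,0⟩,⟨-2,0,2,-2,-4,0,0,2⟩,⟨2,-4,-2,0,2,0,2,0⟩,⟨0,-2,2,-2,2,0,0,0⟩,⟨0,0,-2,2,0,2,-2,0⟩,⟨0,2,2,0,0,0,2,-2⟩,⟨2,0,0,0,0,-2,-2,2⟩],
  [⟨0,2,-2,0,0,0,2,-2⟩,⟨0,0,2,-2,0,-2,-2,0⟩,⟨0,-2,-2,2,-2,0,0,0⟩,⟨-2,0,2,0,2,0,2,0⟩,⟨2,0,0,-2,-2,2,0,0⟩,⟨0,0,-2,0,2,-2,0,-2⟩,⟨-2,0,2,0,-2,0,-2,0⟩,⟨2,-2,0,2,0,0,2,0⟩,⟨0,0,2,0,-2,2,0,2⟩,⟨2,0,-2,0,2,0,2,0⟩,⟨-2,2,0,-2,0,0,-2,0⟩,⟨2,-2,0,0,-2,0,0,-2⟩]]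

/-- Part 13 of the table of stage 2. -/
def ker2_13 : List (List Ico) := [
  [⟨0,-2,2,0,0,0,-2,2⟩,⟨0,0,-2,2,0,2,2,0⟩,⟨0,2,2,-2,2,0,0,0⟩,⟨2,0,-2,0,-2,0,-2,0⟩,⟨2,-2,2,0,-4,2,0,0⟩,⟨0,0,-2,2,4,-2,2,0⟩,⟨-2,2,2,-2,-2,2,-2,2⟩,⟨4,-2,-2,0,0,0,2,-2⟩,⟨0,0,-2,0,2,-2,0,-2⟩,⟨-2,0,2,0,-2,0,-2,0⟩,⟨2,-2,0,2,0,0,2,0⟩,⟨-2,2,0,0,2,0,0,2⟩],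
  [⟨0,2,-2,0,0,0,2,-2⟩,⟨0,0,2,-2,0,-2,-2,0⟩,⟨0,-2,-2,2,-2,0,0,0⟩,⟨-2,0,2,0,2,0,2,0⟩,⟨4,0,0,0,0,0,0,0⟩,⟨-2,2,-2,0,0,-2,0,0⟩,⟨0,-2,2,-2,-2,0,0,0⟩,⟨0,-2,-2,2,2,0,0,0⟩,⟨0,0,2,0,-2,2,0,2⟩,⟨2,0,-2,0,2,0,2,0⟩,⟨-2,2,0,-2,0,0,-2,0⟩,⟨2,-2,0,0,-2,0,0,-2⟩],
  [⟨0,-2,2,0,0,0,-2,2⟩,⟨0,0,-2,2,0,2,2,0⟩,⟨0,2,2,-2,2,0,0,0⟩,⟨2,0,-2,0,-2,0,-2,0⟩,⟨4,-2,2,2,-2,0,0,0⟩,⟨-2,2,-2,2,2,-2,2,2⟩,⟨0,0,2,-4,-2,2,0,2⟩,⟨2,-2,-4,0,2,0,0,-2⟩,⟨0,0,-2,0,2,-2,0,-2⟩,⟨-2,0,2,0,-2,0,-2,0⟩,⟨2,-2,0,2,0,0,2,0⟩,⟨-2,2,0,0,2,0,0,2⟩],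
  [⟨-2,0,0,-2,2,-2,0,0⟩,⟨0,-2,0,0,-2,2,-2,0⟩,⟨0,0,0,2,2,0,2,-2⟩,⟨0,2,2,0,0,0,-2,2⟩,⟨2,-2,0,0,-2,0,0,2⟩,⟨-2,0,-2,0,2,0,2,0⟩,⟨0,0,2,-2,0,2,-2,0⟩,⟨2,0,-2,2,0,0,0,-2⟩,⟨0,2,-2,2,-2,0,0,0⟩,⟨0,0,2,-2,0,-2,2,0⟩,⟨0,-2,-2,0,0,0,-2,2⟩,⟨-2,0,0,0,0,2,2,-2⟩],
  [⟨2,0,0,2,-2,2,0,0⟩,⟨0,2,0,0,2,-2,2,0⟩,⟨0,0,0,-2,-2,0,-2,2⟩,⟨0,-2,-2,0,0,0,2,-2⟩,⟨2,0,0,2,-2,2,0,0⟩,⟨0,2,0,0,2,-2,2,0⟩,⟨0,0,0,-2,-2,0,-2,2⟩,⟨0,-2,-2,0,0,0,2,-2⟩,⟨0,-2,2,-2,2,0,0,0⟩,⟨0,0,-2,2,0,2,-2,0⟩,⟨0,2,2,0,0,0,2,-2⟩,⟨2,0,0,0,0,-2,-2,2⟩],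
  [⟨0,0,2,-2,0,2,2,0⟩,⟨2,0,-2,0,2,0,-2,0⟩,⟨-2,2,0,0,-2,0,0,-2⟩,⟨2,-2,2,0,0,-2,0,0⟩,⟨2,-2,2,0,0,2,0,0⟩,⟨0,2,-2,2,2,0,0,0⟩,⟨0,2,2,-2,-2,0,0,0⟩,⟨2,-2,-2,0,0,-2,0,0⟩,⟨-2,0,0,0,0,-2,-2,2⟩,⟨0,-2,0,0,-2,2,2,0⟩,⟨0,0,0,0,4,0,0,0⟩,⟨0,2,0,0,-2,2,-2,0⟩],
  [⟨0,0,-2,2,0,-2,-2,0⟩,⟨-2,0,2,0,-2,0,2,0⟩,⟨2,-2,0,0,2,0,0,2⟩,⟨-2,2,-2,0,0,2,0,0⟩,⟨2,0,2,0,-2,0,-2,0⟩,⟨0,0,-2,2,0,-2,2,0⟩,⟨-2,0,2,-2,0,0,0,2⟩,⟨2,-2,-2,0,0,2,0,0⟩,⟨2,0,0,0,0,2,2,-2⟩,⟨0,2,0,0,2,-2,-2,0⟩,⟨0,0,0,0,-4,0,0,0⟩,⟨0,-2,0,0,2,-2,2,0⟩],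
  [⟨-2,2,0,0,-2,0,0,2⟩,⟨2,-2,0,-2,0,0,2,0⟩,⟨-2,0,-2,0,2,0,-2,0⟩,⟨0,0,2,0,-2,2,0,-2⟩,⟨2,0,2,0,-2,0,2,0⟩,⟨0,0,-2,0,2,-2,0,2⟩,⟨-2,0,0,-2,-2,2,0,0⟩,⟨2,-2,0,0,2,0,0,-2⟩,⟨2,-2,0,2,0,0,-2,0⟩,⟨-2,2,0,2,0,0,2,0⟩,⟨2,0,2,-2,0,0,0,2⟩,⟨0,0,-4,0,0,0,0,0⟩],
  [⟨2,-2,0,0,2,0,0,-2⟩,⟨-2,2,0,2,0,0,-2,0⟩,⟨2,0,2,0,-2,0,2,0⟩,⟨0,0,-2,0,2,-2,0,2⟩,⟨2,-2,0,0,-2,0,0,-2⟩,⟨-2,0,0,2,2,-2,0,0⟩,⟨0,0,2,0,-2,2,0,2⟩,⟨2,0,-2,0,2,0,2,0⟩,⟨-2,2,0,-2,0,0,2,0⟩,⟨2,-2,0,-2,0,0,-2,0⟩,⟨-2,0,-2,2,0,0,0,-2⟩,⟨0,0,4,0,0,0,0,0⟩],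
  [⟨0,2,2,0,0,0,2,-2⟩,⟨2,0,0,0,0,-2,-2,2⟩,⟨-2,0,-2,0,-2,0,2,0⟩,⟨0,-2,2,-2,2,0,0,0⟩,⟨4,0,2,0,-2,2,0,-2⟩,⟨0,2,-2,2,2,-4,0,0⟩,⟨-2,0,2,-2,-4,0,0,2⟩,⟨2,-4,-2,0,2,0,2,0⟩,⟨-2,0,0,0,0,2,-2,2⟩,⟨2,0,0,0,0,2,2,-2⟩,⟨0,2,0,0,2,-2,-2,0⟩,⟨0,0,0,0,-4,0,0,0⟩],
  [⟨0,-2,-2,0,0,0,-2,2⟩,⟨-2,0,0,0,0,2,2,-2⟩,⟨2,0,2,0,2,0,-2,0⟩,⟨0,2,-2,2,-2,0,0,0⟩,⟨2,-2,2,0,-4,2,0,0⟩,⟨0,0,-2,2,4,-2,2,0⟩,⟨-2,2,2,-2,-2,2,-2,2⟩,⟨4,-2,-2,0,0,0,2,-2⟩,⟨2,0,0,0,0,-2,2,-2⟩,⟨-2,0,0,0,0,-2,-2,2⟩,⟨0,-2,0,0,-2,2,2,0⟩,⟨0,0,0,0,4,0,0,0⟩],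
  [⟨-2,2,0,0,2,0,0,2⟩,⟨2,0,0,-2,-2,2,0,0⟩,⟨0,0,-2,0,2,-2,0,-2⟩,⟨-2,0,2,0,-2,0,-2,0⟩,⟨2,0,2,0,-2,4,2,0⟩,⟨2,2,-2,0,4,-2,0,0⟩,⟨-2,2,0,-2,-4,0,-2,0⟩,⟨2,-4,0,0,0,-2,2,-2⟩,⟨0,-2,-2,2,-2,0,0,0⟩,⟨-2,0,2,0,2,0,2,0⟩,⟨2,0,0,0,0,2,-2,2⟩,⟨0,2,-2,0,0,0,2,-2⟩],
  [⟨2,-2,0,0,-2,0,0,-2⟩,⟨-2,0,0,2,2,-2,0,0⟩,⟨0,0,2,0,-2,2,0,2⟩,⟨2,0,-2,0,2,0,2,0⟩,⟨2,0,0,0,-4,2,2,-2⟩,⟨0,0,0,0,4,-4,0,0⟩,⟨-2,0,0,0,-4,2,-2,2⟩,⟨2,-2,0,0,2,0,4,-2⟩,⟨0,2,2,-2,2,0,0,0⟩,⟨2,0,-2,0,-2,0,-2,0⟩,⟨-2,0,0,0,0,-2,2,-2⟩,⟨0,-2,2,0,0,0,-2,2⟩],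
  [⟨2,0,0,-2,2,-2,0,0⟩,⟨-2,0,-2,0,-2,0,-2,0⟩,⟨0,-2,2,0,0,0,2,-2⟩,⟨0,0,0,2,2,0,-2,2⟩,⟨2,0,0,-2,-2,2,0,0⟩,⟨0,0,-2,0,2,-2,0,-2⟩,⟨-2,0,2,0,-2,0,-2,0⟩,⟨2,-2,0,2,0,0,2,0⟩,⟨-2,2,0,2,0,0,2,0⟩,⟨2,0,2,-2,0,0,0,2⟩,⟨0,0,-4,0,0,0,0,0⟩,⟨-2,0,2,-2,0,0,0,-2⟩],
  [⟨-2,0,0,2,-2,2,0,0⟩,⟨2,0,2,0,2,0,2,0⟩,⟨0,2,-2,0,0,0,-2,2⟩,⟨0,0,0,-2,-2,0,2,-2⟩,⟨0,0,2,0,-2,2,0,-2⟩,⟨2,0,0,2,2,-2,0,0⟩,⟨-2,2,0,0,-2,0,0,2⟩,⟨2,-2,0,-2,0,0,2,0⟩,⟨2,-2,0,-2,0,0,-2,0⟩,⟨-2,0,-2,2,0,0,0,-2⟩,⟨0,0,4,0,0,0,0,0⟩,⟨2,0,-2,2,0,0,0,2⟩],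
  [⟨0,0,-2,2,0,-2,2,0⟩,⟨-2,0,2,-2,0,0,0,2⟩,⟨2,-2,-2,0,0,2,0,0⟩,⟨-2,2,0,0,2,0,0,-2⟩,⟨2,0,2,0,-2,0,2,0⟩,⟨0,0,-2,0,2,-2,0,2⟩,⟨-2,0,0,-2,-2,2,0,0⟩,⟨2,-2,0,0,2,0,0,-2⟩,⟨0,0,2,0,-2,2,0,-2⟩,⟨2,0,0,2,2,-2,0,0⟩,⟨-2,2,0,0,-2,0,0,2⟩,⟨2,-2,0,-2,0,0,2,0⟩],
  [⟨0,0,2,-2,0,2,-2,0⟩,⟨2,0,-2,2,0,0,0,-2⟩,⟨-2,2,2,0,0,-2,0,0⟩,⟨2,-2,0,0,-2,0,0,2⟩,⟨2,-2,2,-2,-2,2,2,-2⟩,⟨0,0,-2,2,4,-2,-2,0⟩,⟨-2,2,2,0,-4,2,0,0⟩,⟨4,-2,0,0,2,-2,2,0⟩,⟨0,0,-2,0,2,-2,0,2⟩,⟨-2,0,0,-2,-2,2,0,0⟩,⟨2,-2,0,0,2,0,0,-2⟩,⟨-2,2,0,2,0,0,-2,0⟩],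
  [⟨0,0,-2,2,0,-2,2,0⟩,⟨-2,0,2,-2,0,0,0,2⟩,⟨2,-2,-2,0,0,2,0,0⟩,⟨-2,2,0,0,2,0,0,-2⟩,⟨2,0,0,2,-2,2,0,0⟩,⟨0,2,0,0,2,-2,2,0⟩,⟨0,0,0,-2,-2,0,-2,2⟩,⟨0,-2,-2,0,0,0,2,-2⟩,⟨0,0,2,0,-2,2,0,-2⟩,⟨2,0,0,2,2,-2,0,0⟩,⟨-2,2,0,0,-2,0,0,2⟩,⟨2,-2,0,-2,0,0,2,0⟩],
  [⟨0,0,2,-2,0,2,-2,0⟩,⟨2,0,-2,2,0,0,0,-2⟩,⟨-2,2,2,0,0,-2,0,0⟩,⟨2,-2,0,0,-2,0,0,2⟩,⟨2,-2,0,0,-2,4,0,-2⟩,⟨0,2,0,2,4,-2,0,-2⟩,⟨0,2,2,0,-4,0,-2,2⟩,⟨2,-2,-2,0,0,-2,4,0⟩,⟨0,0,-2,0,2,-2,0,2⟩,⟨-2,0,0,-2,-2,2,0,0⟩,⟨2,-2,0,0,2,0,0,-2⟩,⟨-2,2,0,2,0,0,-2,0⟩],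
  [⟨2,0,0,-2,2,-2,0,0⟩,⟨-2,0,-2,0,-2,0,-2,0⟩,⟨0,-2,2,0,0,0,2,-2⟩,⟨0,0,0,2,2,0,-2,2⟩,⟨4,-2,0,0,-2,2,2,0⟩,⟨-2,2,-2,0,4,-2,0,0⟩,⟨0,0,2,-2,-4,2,-2,0⟩,⟨2,-2,-2,2,2,-2,2,-2⟩,⟨-2,2,0,2,0,0,2,0⟩,⟨2,0,2,-2,0,0,0,2⟩,⟨0,0,-4,0,0,0,0,0⟩,⟨-2,0,2,-2,0,0,0,-2⟩],
  [⟨-2,0,0,2,-2,2,0,0⟩,⟨2,0,2,0,2,0,2,0⟩,⟨0,2,-2,0,0,0,-2,2⟩,⟨0,0,0,-2,-2,0,2,-2⟩,⟨2,-2,2,2,-2,2,2,-2⟩,⟨0,2,0,2,4,-2,0,2⟩,⟨0,2,0,-2,-4,2,0,2⟩,⟨2,-2,-2,-2,2,-2,2,-2⟩,⟨2,-2,0,-2,0,0,-2,0⟩,⟨-2,0,-2,2,0,0,0,-2⟩,⟨0,0,4,0,0,0,0,0⟩,⟨2,0,-2,2,0,0,0,2⟩]]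

/-- Part 14 of the table of stage 2. -/
def ker2_14 : List (List Ico) := [
  [⟨-2,2,0,0,2,0,0,2⟩,⟨2,0,0,-2,-2,2,0,0⟩,⟨0,0,-2,0,2,-2,0,-2⟩,⟨-2,0,2,0,-2,0,-2,0⟩,⟨2,-2,2,0,0,2,0,0⟩,⟨0,2,-2,2,2,0,0,0⟩,⟨0,2,2,-2,-2,0,0,0⟩,⟨2,-2,-2,0,0,-2,0,0⟩,⟨0,-2,-2,2,-2,0,0,0⟩,⟨-2,0,2,0,2,0,2,0⟩,⟨2,0,0,0,0,2,-2,2⟩,⟨0,2,-2,0,0,0,2,-2⟩],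
  [⟨2,-2,0,0,-2,0,0,-2⟩,⟨-2,0,0,2,2,-2,0,0⟩,⟨0,0,2,0,-2,2,0,2⟩,⟨2,0,-2,0,2,0,2,0⟩,⟨2,-2,0,0,-2,0,0,-2⟩,⟨-2,0,0,2,2,-2,0,0⟩,⟨0,0,2,0,-2,2,0,2⟩,⟨2,0,-2,0,2,0,2,0⟩,⟨0,2,2,-2,2,0,0,0⟩,⟨2,0,-2,0,-2,0,-2,0⟩,⟨-2,0,0,0,0,-2,2,-2⟩,⟨0,-2,2,0,0,0,-2,2⟩],
  [⟨0,2,2,0,0,0,2,-2⟩,⟨2,0,0,0,0,-2,-2,2⟩,⟨-2,0,-2,0,-2,0,2,0⟩,⟨0,-2,2,-2,2,0,0,0⟩,⟨2,0,0,0,0,2,2,-2⟩,⟨0,2,0,0,2,-2,-2,0⟩,⟨0,0,0,0,-4,0,0,0⟩,⟨0,-2,0,0,2,-2,2,0⟩,⟨-2,0,0,0,0,2,-2,2⟩,⟨2,0,0,0,0,2,2,-2⟩,⟨0,2,0,0,2,-2,-2,0⟩,⟨0,0,0,0,-4,0,0,0⟩],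
  [⟨0,-2,-2,0,0,0,-2,2⟩,⟨-2,0,0,0,0,2,2,-2⟩,⟨2,0,2,0,2,0,-2,0⟩,⟨0,2,-2,2,-2,0,0,0⟩,⟨0,-2,0,0,-2,2,2,0⟩,⟨0,0,0,0,4,0,0,0⟩,⟨0,2,0,0,-2,2,-2,0⟩,⟨2,0,0,0,0,-2,2,-2⟩,⟨2,0,0,0,0,-2,2,-2⟩,⟨-2,0,0,0,0,-2,-2,2⟩,⟨0,-2,0,0,-2,2,2,0⟩,⟨0,0,0,0,4,0,0,0⟩],
  [⟨0,0,0,0,0,0,0,0⟩,⟨0,0,0,0,0,0,0,0⟩,⟨0,0,0,0,0,0,0,0⟩,⟨0,0,0,0,0,0,0,0⟩,⟨4,0,0,0,0,0,0,0⟩,⟨-2,2,-2,0,0,-2,0,0⟩,⟨0,-2,2,-2,-2,0,0,0⟩,⟨0,-2,-2,2,2,0,0,0⟩,⟨0,0,0,0,0,0,0,0⟩,⟨0,0,0,0,0,0,0,0⟩,⟨0,0,0,0,0,0,0,0⟩,⟨0,0,0,0,0,0,0,0⟩],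
  [⟨0,0,0,0,0,0,0,0⟩,⟨0,0,0,0,0,0,0,0⟩,⟨0,0,0,0,0,0,0,0⟩,⟨0,0,0,0,0,0,0,0⟩,⟨4,-2,-2,2,-2,0,0,0⟩,⟨-4,2,0,0,2,-2,2,0⟩,⟨2,-2,2,-2,-2,2,-2,2⟩,⟨0,0,-4,2,2,0,2,-2⟩,⟨0,0,0,0,0,0,0,0⟩,⟨0,0,0,0,0,0,0,0⟩,⟨0,0,0,0,0,0,0,0⟩,⟨0,0,0,0,0,0,0,0⟩],
  [⟨0,0,0,0,0,0,0,0⟩,⟨0,0,0,0,0,0,0,0⟩,⟨0,0,0,0,0,0,0,0⟩,⟨0,0,0,0,0,0,0,0⟩,⟨4,-2,0,0,-2,2,2,0⟩,⟨-2,2,-2,0,4,-2,0,0⟩,⟨0,0,2,-2,-4,2,-2,0⟩,⟨2,-2,-2,2,2,-2,2,-2⟩,⟨0,0,0,0,0,0,0,0⟩,⟨0,0,0,0,0,0,0,0⟩,⟨0,0,0,0,0,0,0,0⟩,⟨0,0,0,0,0,0,0,0⟩],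
  [⟨0,0,0,0,0,0,0,0⟩,⟨0,0,0,0,0,0,0,0⟩,⟨0,0,0,0,0,0,0,0⟩,⟨0,0,0,0,0,0,0,0⟩,⟨2,0,0,2,-2,2,0,0⟩,⟨0,2,0,0,2,-2,2,0⟩,⟨0,0,0,-2,-2,0,-2,2⟩,⟨0,-2,-2,0,0,0,2,-2⟩,⟨0,0,0,0,0,0,0,0⟩,⟨0,0,0,0,0,0,0,0⟩,⟨0,0,0,0,0,0,0,0⟩,⟨0,0,0,0,0,0,0,0⟩],
  [⟨4,0,0,0,0,0,4,0⟩,⟨-2,2,-2,-2,2,-2,-2,2⟩,⟨0,-2,0,-2,-4,2,0,-2⟩,⟨0,-2,0,2,4,-2,0,-2⟩,⟨4,0,-2,2,0,2,2,0⟩,⟨-2,4,0,-2,2,-2,0,0⟩,⟨2,-2,0,-2,-4,0,-2,0⟩,⟨-2,-2,-2,2,2,-2,2,-2⟩,⟨-4,0,4,0,0,0,0,0⟩,⟨4,-2,0,2,0,2,0,2⟩,⟨-2,4,-2,0,2,0,2,0⟩,⟨2,0,2,-4,-2,0,-2,0⟩],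
  [⟨0,0,4,0,-4,0,0,0⟩,⟨2,-2,-2,2,2,-2,2,2⟩,⟨-4,2,0,-2,0,2,0,2⟩,⟨4,-2,0,-2,0,2,0,-2⟩,⟨4,0,0,2,-2,0,2,-2⟩,⟨-2,2,0,0,2,-4,0,2⟩,⟨0,-2,0,-2,-4,2,0,2⟩,⟨0,-2,-2,0,4,0,2,-2⟩,⟨0,0,0,0,4,0,-4,0⟩,⟨0,2,0,2,-4,2,0,-2⟩,⟨2,0,2,0,2,-4,2,0⟩,⟨-2,0,-2,0,-2,0,-2,4⟩],
  [⟨-4,0,0,0,0,0,4,0⟩,⟨2,-2,2,-2,2,2,-2,2⟩,⟨0,2,-4,2,0,2,0,-2⟩,⟨0,2,4,-2,0,-2,0,-2⟩,⟨2,-2,0,2,0,0,2,0⟩,⟨-2,2,0,0,2,0,0,2⟩,⟨2,0,0,-2,-2,2,0,0⟩,⟨0,0,-2,0,2,-2,0,-2⟩,⟨0,0,0,0,-4,0,-4,0⟩,⟨0,-2,0,2,0,-2,4,-2⟩,⟨-2,0,2,0,2,0,-2,4⟩,⟨2,0,-2,0,-2,4,2,0⟩],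
  [⟨0,0,4,0,4,0,0,0⟩,⟨2,2,-2,2,-2,2,-2,2⟩,⟨0,2,0,-2,0,-2,4,-2⟩,⟨0,-2,0,-2,0,-2,-4,2⟩,⟨4,-2,0,2,0,2,0,-2⟩,⟨-2,4,0,2,2,-2,0,0⟩,⟨2,0,2,-2,-4,0,0,2⟩,⟨0,-2,-4,0,2,-2,2,0⟩,⟨-4,0,-4,0,0,0,0,0⟩,⟨0,-2,4,-2,0,2,0,-2⟩,⟨2,0,-2,4,2,0,-2,0⟩,⟨-2,4,2,0,-2,0,2,0⟩],
  [⟨0,0,-4,0,-4,0,0,0⟩,⟨-2,-2,2,-2,2,-2,2,-2⟩,⟨0,-2,0,2,0,2,-4,2⟩,⟨0,2,0,2,0,2,4,-2⟩,⟨2,0,-2,0,-2,0,2,0⟩,⟨-2,0,0,-2,2,-2,0,0⟩,⟨0,-2,0,0,-2,2,-2,0⟩,⟨0,0,0,2,2,0,2,-2⟩,⟨4,0,4,0,0,0,0,0⟩,⟨0,2,-4,2,0,-2,0,2⟩,⟨-2,0,2,-4,-2,0,2,0⟩,⟨2,-4,-2,0,2,0,-2,0⟩],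
  [⟨4,0,0,0,0,0,-4,0⟩,⟨-2,2,-2,2,-2,-2,2,-2⟩,⟨0,-2,4,-2,0,-2,0,2⟩,⟨0,-2,-4,2,0,2,0,2⟩,⟨4,0,-2,0,-2,2,0,-2⟩,⟨-2,2,0,0,2,-4,0,-2⟩,⟨0,-2,2,0,-4,0,-2,2⟩,⟨0,-2,-2,2,2,0,4,0⟩,⟨0,0,0,0,4,0,4,0⟩,⟨0,2,0,-2,0,2,-4,2⟩,⟨2,0,-2,0,-2,0,2,-4⟩,⟨-2,0,2,0,2,-4,-2,0⟩],
  [⟨0,0,-4,0,4,0,0,0⟩,⟨-2,2,2,-2,-2,2,-2,-2⟩,⟨4,-2,0,2,0,-2,0,-2⟩,⟨-4,2,0,2,0,-2,0,2⟩,⟨2,-2,-2,0,0,2,0,0⟩,⟨-2,2,0,0,2,0,0,-2⟩,⟨2,0,2,0,-2,0,-2,0⟩,⟨0,0,-2,2,0,-2,2,0⟩,⟨0,0,0,0,-4,0,4,0⟩,⟨0,-2,0,-2,4,-2,0,2⟩,⟨-2,0,-2,0,-2,4,-2,0⟩,⟨2,0,2,0,2,0,2,-4⟩],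
  [⟨-4,0,0,0,0,0,-4,0⟩,⟨2,-2,2,2,-2,2,2,-2⟩,⟨0,2,0,2,4,-2,0,2⟩,⟨0,2,0,-2,-4,2,0,2⟩,⟨2,-2,0,0,-2,0,0,-2⟩,⟨-2,0,0,2,2,-2,0,0⟩,⟨0,0,2,0,-2,2,0,2⟩,⟨2,0,-2,0,2,0,2,0⟩,⟨4,0,-4,0,0,0,0,0⟩,⟨-4,2,0,-2,0,-2,0,-2⟩,⟨2,-4,2,0,-2,0,-2,0⟩,⟨-2,0,-2,4,2,0,2,0⟩],
  [⟨0,0,0,0,0,0,0,0⟩,⟨0,0,0,0,0,0,0,0⟩,⟨0,0,0,0,0,0,0,0⟩,⟨0,0,0,0,0,0,0,0⟩,⟨4,-2,-2,0,0,0,2,-2⟩,⟨-4,2,0,0,2,-2,-2,0⟩,⟨2,-2,2,0,-4,2,0,0⟩,⟨0,0,-2,2,4,-2,2,0⟩,⟨0,0,0,0,0,0,0,0⟩,⟨0,0,0,0,0,0,0,0⟩,⟨0,0,0,0,0,0,0,0⟩,⟨0,0,0,0,0,0,0,0⟩],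
  [⟨0,0,0,0,0,0,0,0⟩,⟨0,0,0,0,0,0,0,0⟩,⟨0,0,0,0,0,0,0,0⟩,⟨0,0,0,0,0,0,0,0⟩,⟨2,0,-2,2,0,0,0,-2⟩,⟨-2,2,2,0,0,-2,0,0⟩,⟨2,-2,0,0,-2,0,0,2⟩,⟨-2,0,-2,0,2,0,2,0⟩,⟨0,0,0,0,0,0,0,0⟩,⟨0,0,0,0,0,0,0,0⟩,⟨0,0,0,0,0,0,0,0⟩,⟨0,0,0,0,0,0,0,0⟩],
  [⟨0,0,0,0,0,0,0,0⟩,⟨0,0,0,0,0,0,0,0⟩,⟨0,0,0,0,0,0,0,0⟩,⟨0,0,0,0,0,0,0,0⟩,⟨2,0,0,0,0,2,2,-2⟩,⟨0,2,0,0,2,-2,-2,0⟩,⟨0,0,0,0,-4,0,0,0⟩,⟨0,-2,0,0,2,-2,2,0⟩,⟨0,0,0,0,0,0,0,0⟩,⟨0,0,0,0,0,0,0,0⟩,⟨0,0,0,0,0,0,0,0⟩,⟨0,0,0,0,0,0,0,0⟩],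
  [⟨0,0,0,0,0,0,0,0⟩,⟨0,0,0,0,0,0,0,0⟩,⟨0,0,0,0,0,0,0,0⟩,⟨0,0,0,0,0,0,0,0⟩,⟨2,-2,-2,2,-2,2,2,-2⟩,⟨-2,2,2,0,4,-2,0,0⟩,⟨2,0,0,0,-4,2,-2,2⟩,⟨0,0,-2,0,2,-2,4,-2⟩,⟨0,0,0,0,0,0,0,0⟩,⟨0,0,0,0,0,0,0,0⟩,⟨0,0,0,0,0,0,0,0⟩,⟨0,0,0,0,0,0,0,0⟩],
  [⟨0,0,0,0,0,0,0,0⟩,⟨0,0,0,0,0,0,0,0⟩,⟨0,0,0,0,0,0,0,0⟩,⟨0,0,0,0,0,0,0,0⟩,⟨4,-2,2,0,0,0,2,-2⟩,⟨-2,2,-2,2,2,-2,-2,2⟩,⟨0,0,2,-2,-4,2,2,0⟩,⟨2,-2,-2,0,4,-2,0,0⟩,⟨0,0,0,0,0,0,0,0⟩,⟨0,0,0,0,0,0,0,0⟩,⟨0,0,0,0,0,0,0,0⟩,⟨0,0,0,0,0,0,0,0⟩]]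

/-- The table of stage 2. -/
def kerTab2 : List (List Ico) := ker2_0 ++ ker2_1 ++ ker2_2 ++ ker2_3 ++ ker2_4 ++ ker2_5 ++ ker2_6 ++ ker2_7 ++ ker2_8 ++ ker2_9 ++ ker2_10 ++ ker2_11 ++ ker2_12 ++ ker2_13 ++ ker2_14

/-- Labels of base vector 3. -/
def tgt3 : List ℤ := [8,-4,0,0,0,0,4,-4,-8,8,-4,4]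

/-- Candidates for base vector 3. -/
def cand3 : List (ℕ × ℕ) := [(1,0)]

/-- Labels of base vector 4. -/
def tgt4 : List ℤ := [-8,4,4,-4,0,-4,4,0,0,-4,0,0]

/-- Candidates for base vector 4. -/
def cand4 : List (ℕ × ℕ) := [(1,2)]

/-- Labels of base vector 5. -/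
def tgt5 : List ℤ := [-4,0,4,-4,-4,4,0,0,4,-4,0,0]

/-- Candidates for base vector 5. -/
def cand5 : List (ℕ × ℕ) := [(10,10)]

end CfsgHJL
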