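/-
Doubled coordinates of the icosian lattice: the trace form is their scalar product.
-/
import Cfsg.Agent.Lib.HallJanko.Refl
import Cfsg.Agent.Lib.HallJanko.ActCheck
import Cfsg.Agent.Lib.HallJankoLeech.Data

set_option autoImplicit false

namespace CfsgHJL

open Quaternion Cfsg.Spor CfsgHJ CfsgHJ.Ico
open Matrix

/-- The doubled real coordinates of an icosian, again as a record. -/
def ddI (n : Ico) : Ico := ⟨n.d0, n.d1, n.d2, n.d3, n.d4, n.d5, n.d6, n.d7⟩

/-- Scalar product of eight coordinates. -/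
def dot8 (x y : Ico) : ℤ :=
  x.c0 * y.c0 + x.c1 * y.c1 + x.c2 * y.c2 + x.c3 * y.c3 + x.c4 * y.c4 + x.c5 * y.c5 + x.c6 * y.c6 + x.c7 * y.c7

theorem dot8_dd (n m : Ico) : dot8 (ddI n) (ddI m) = 2 * (mul n (conj m)).d0 := by
  simp only [dot8, ddI, Ico.mul, conj, d0, d1, d2, d3, d4, d5, d6, d7]; ring

theorem d0_add (a b : Ico) : (Ico.add a b).d0 = a.d0 + b.d0 := by simp only [Ico.add, d0]; ring

theorem conj_conj' (n : Ico) : conj (conj n) = n := phi_inj (by rw [phi_conj, phi_conj, star_star])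

theorem conj_mul (a b : Ico) : conj (mul a b) = mul (conj b) (conj a) :=
  phi_inj (by simp only [phi_conj, phi_mul, star_mul])

/-- The trace form. -/
def Bd (v w : Vec) : ℤ :=
  dot8 (ddI v.1) (ddI w.1) + dot8 (ddI v.2.1) (ddI w.2.1) + dot8 (ddI v.2.2) (ddI w.2.2)

theorem Bd_ipV (v w : Vec) : Bd v w = 2 * (ipV v w).d0 := by
  simp only [Bd, dot8_dd, ipV, d0_add]; ring

theorem Bd_smul_left (a : Ico) (v w : Vec) : Bd (smulV a v) w = dot8 (ddI a) (ddI (conj (ipV v w))) := by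
  rw [Bd_ipV, ipV_smul, dot8_dd, conj_conj']

/-- The 24 doubled coordinates. -/
def flat (v : Vec) : Fin 24 → ℤ :=
  ![v.1.d0, v.1.d1, v.1.d2, v.1.d3, v.1.d4, v.1.d5, v.1.d6, v.1.d7,
    v.2.1.d0, v.2.1.d1, v.2.1.d2, v.2.1.d3, v.2.1.d4, v.2.1.d5, v.2.1.d6, v.2.1.d7,
    v.2.2.d0, v.2.2.d1, v.2.2.d2, v.2.2.d3, v.2.2.d4, v.2.2.d5, v.2.2.d6, v.2.2.d7]

theorem flat_dot (v w : Vec) : flat v ⬝ᵥ flat w = Bd v w := by
  simp only [dotProduct, flat, Bd, dot8, ddI, Fin.sum_univ_succ, Fin.sum_univ_zero, Matrix.cons_val_zero,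
    Matrix.cons_val_succ]
  ring

theorem flat_add (v w : Vec) : flat (addV v w) = flat v + flat w := by
  funext i
  fin_cases i <;> simp [flat, addV, Ico.add, d0, d1, d2, d3, d4, d5, d6, d7] <;> ring

theorem flat_neg (v : Vec) : flat (negV v) = -flat v := by
  funext i
  fin_cases i <;> simp [flat, negV, Ico.neg, d0, d1, d2, d3, d4, d5, d6, d7] <;> ring

theorem flat_zero : flat zeroV = 0 := by decide +kernel

theorem flat_inj : Function.Injective flat := by
  intro v w h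
  have h' : ∀ i, flat v i = flat w i := congrFun h
  obtain ⟨x, y, z⟩ := v
  obtain ⟨x', y', z'⟩ := w
  have ex : x.dd = x'.dd := by
    simp only [Ico.dd, Prod.mk.injEq]
    exact ⟨h' 0, h' 1, h' 2, h' 3, h' 4, h' 5, h' 6, h' 7⟩
  have ey : y.dd = y'.dd := by
    simp only [Ico.dd, Prod.mk.injEq]
    exact ⟨h' 8, h' 9, h' 10, h' 11, h' 12, h' 13, h' 14, h' 15⟩
  have ez : z.dd = z'.dd := by
    simp only [Ico.dd, Prod.mk.injEq]
    exact ⟨h' 16, h' 17, h' 18, h' 19, h' 20, h' 21, h' 22, h' 23⟩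
  rw [← back_dd x, ← back_dd y, ← back_dd z, ex, ey, ez, back_dd, back_dd, back_dd]

/-! ### Powers of the scalar and the base vectors -/

/-- Powers of the scalar of order five. -/
def uPow : ℕ → Ico
  | 0 => one
  | i + 1 => mul uFive (uPow i)

/-- The vector with a given line and unit. -/
def candVec (c : ℕ × ℕ) : Vec := smulV (uAt c.2) (lineAt c.1)

/-- A base vector. -/
def baseAt (j : ℕ) : Vec := candVec (baseIdx.getD j (0, 0))

/-- A power of the scalar times a base vector. -/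
def sVec (j i : ℕ) : Vec := smulV (uPow i) (baseAt j)

/-- The basis of the lattice. -/
def rowVec (k : Fin 24) : Vec := sVec ((k : ℕ) / 4) ((k : ℕ) % 4)

/-- The basis in coordinates. -/
def Vmat : Matrix (Fin 24) (Fin 24) ℤ := fun k => flat (rowVec k)

/-- A table as a matrix. -/
def toMat (L : List (List ℤ)) : Matrix (Fin 24) (Fin 24) ℤ := fun i j => (L.getD i []).getD j 0

theorem unit_five : mul uFive (conj uFive) = one ∧ mul (conj uFive) uFive = one := by decide +kernel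

theorem base_ok : ((List.range 6).all fun j => inLam (baseAt j) && (ipV (baseAt j) (baseAt j)).beq four) = true := by
  decide +kernel

theorem isMin_baseAt {j : ℕ} (hj : j < 6) : CfsgHJ.IsMin (baseAt j) := by
  have h := List.all_eq_true.mp base_ok j (List.mem_range.mpr hj)
  simpa only [Bool.and_eq_true, Ico.beq_iff, CfsgHJ.IsMin] using h

theorem inLam_sVec {j : ℕ} (hj : j < 6) (i : ℕ) : inLam (sVec j i) = true :=
  inLam_smulV _ (isMin_baseAt hj).1

theorem inLam_rowVec (k : Fin 24) : inLam (rowVec k) = true := inLam_sVec (by omega) _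

/-! ### Spanning -/

/-- The eight unit coordinate icosians. -/
def ofC (c : Fin 8 → ℤ) : Ico := ⟨c 0, c 1, c 2, c 3, c 4, c 5, c 6, c 7⟩

theorem coef_check : ∀ (t : Fin 3) (m : Fin 8),
    flat (smulV (ofC (Pi.single m 1)) (![baseA, baseB, baseC] t)) =
      (fun j : Fin 24 => (coefM.getD (8 * t + m) []).getD j 0) ᵥ* Vmat := by
  decide +kernel

/-- The lattice in doubled coordinates. -/
def Lam : AddSubgroup (Fin 24 → ℤ) where
  carrier := {x | ∃ v, inLam v = true ∧ flat v = x}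
  add_mem' := by rintro _ _ ⟨v, hv, rfl⟩ ⟨w, hw, rfl⟩; exact ⟨_, inLam_addV hv hw, flat_add v w⟩
  zero_mem' := ⟨_, inLam_zeroV, flat_zero⟩
  neg_mem' := by rintro _ ⟨v, hv, rfl⟩; exact ⟨_, inLam_negV hv, flat_neg v⟩

/-- The span of the basis. -/
def rowSpan : AddSubgroup (Fin 24 → ℤ) where
  carrier := {x | ∃ n, x = n ᵥ* Vmat}
  add_mem' := by rintro _ _ ⟨n, rfl⟩ ⟨m, rfl⟩; exact ⟨n + m, (add_vecMul _ _ _).symm⟩
  zero_mem' := ⟨0, (zero_vecMul _).symm⟩
  neg_mem' := by rintro _ ⟨n, rfl⟩; exact ⟨-n, (neg_vecMul _ _).symm⟩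

theorem addV_smulV (a b : Ico) (X : Vec) : smulV (Ico.add a b) X = addV (smulV a X) (smulV b X) :=
  phi3_inj (by funext t; simp [phi3_addV, phi3_smulV, phi_add, add_mul])

theorem smul_mem_rowSpan (a : Ico) (t : Fin 3) : flat (smulV a (![baseA, baseB, baseC] t)) ∈ rowSpan := by
  set X := ![baseA, baseB, baseC] t with hX
  let f : (Fin 8 → ℤ) →+ (Fin 24 → ℤ) := AddMonoidHom.mk' (fun c => flat (smulV (ofC c) X)) fun c d => by
    show flat (smulV (ofC (c + d)) X) = _
    rw [show ofC (c + d) = Ico.add (ofC c) (ofC d) from rfl, addV_smulV, flat_add]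
  have ha : ofC ![a.c0, a.c1, a.c2, a.c3, a.c4, a.c5, a.c6, a.c7] = a := rfl
  set c : Fin 8 → ℤ := ![a.c0, a.c1, a.c2, a.c3, a.c4, a.c5, a.c6, a.c7]
  have e : c = ∑ m, c m • (Pi.single m 1 : Fin 8 → ℤ) := pi_eq_sum_univ' c
  have hm : f c ∈ rowSpan := by
    rw [e, map_sum]
    refine sum_mem fun m _ => ?_
    rw [map_zsmul]
    exact zsmul_mem (show f (Pi.single m 1) ∈ rowSpan from ⟨_, coef_check t m⟩) _
  rw [← ha]
  exact hm

/-- Every lattice vector is an integral combination of the basis. -/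
theorem exists_coords {v : Vec} (h : inLam v = true) : ∃ n, flat v = n ᵥ* Vmat := by
  obtain ⟨a, b, c, rfl⟩ := exists_combo h
  rw [combo, flat_add, flat_add]
  exact add_mem (add_mem (smul_mem_rowSpan a 0) (smul_mem_rowSpan b 1)) (smul_mem_rowSpan c 2)

theorem vecMul_mem_of_rows {S : AddSubgroup (Fin 24 → ℤ)} (h : ∀ k, flat (rowVec k) ∈ S) (n : Fin 24 → ℤ) :
    n ᵥ* Vmat ∈ S := by
  have e : n ᵥ* Vmat = ∑ k, n k • flat (rowVec k) := by
    funext j
    simp [vecMul, dotProduct, Vmat, Finset.sum_apply]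
  rw [e]
  exact sum_mem fun k _ => zsmul_mem (h k) _

theorem vecMul_mem_Lam (n : Fin 24 → ℤ) : n ᵥ* Vmat ∈ Lam :=
  vecMul_mem_of_rows (fun k => show ∃ v, inLam v = true ∧ flat v = flat (rowVec k) from ⟨_, inLam_rowVec k, rfl⟩) n

end CfsgHJL
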