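/-
An isometry from the icosian model of the lattice onto the standard one.
-/
import Cfsg.Agent.Lib.HallJankoLeech.Coords
import Cfsg.Agent.Lib.Leech.Zeta
import Cfsg.Agent.Lib.Leech.Pairs
import Cfsg.Agent.Lib.HallJanko.Blocks

set_option autoImplicit false

namespace CfsgHJL

open Cfsg CfsgLeech CfsgGolay CfsgHJ CfsgHJ.Ico Cfsg.Spor
open Matrix

attribute [local irreducible] codeL octadL dodecadL lines unitL lineAt smallL repL

/-- The points as numbers below 24. -/
def fidx (p : GolayPt) : Fin 24 := ⟨idx p, idx_lt p⟩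

theorem fidx_bij : Function.Bijective fidx := by
  rw [Fintype.bijective_iff_injective_and_card, card_univ_pt, Fintype.card_fin]
  exact ⟨fun p q h => idx_injective (congrArg Fin.val h), rfl⟩

/-- Reindexing. -/
def toPts (y : Fin 24 → ℤ) : GolayPt → ℤ := fun p => y (fidx p)

theorem dot_toPts (x y : Fin 24 → ℤ) : dotInt (toPts x) (toPts y) = x ⬝ᵥ y :=
  Fintype.sum_bijective fidx fidx_bij _ _ fun _ => rfl

theorem sqNorm_dot (x : GolayPt → ℤ) : sqNorm x = dotInt x x := by
  simp only [sqNorm, dotInt, pow_two]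

/-- The images of the basis. -/
def Wmat : Matrix (Fin 24) (Fin 24) ℤ := toMat imgW

/-- The scaled isometry. -/
def Mmat : Matrix (Fin 24) (Fin 24) ℤ := toMat mapM

theorem map_check : Vmat * Mmat = den • Wmat := by decide +kernel

theorem orth_check : Mmat * Mmatᵀ = (2 * den * den) • (1 : Matrix (Fin 24) (Fin 24) ℤ) := by decide +kernel

theorem rows_check : ∀ k : Fin 24, inLatB (toPts (Wmat k)) = true := by decide +kernel

/-- The isometry on coordinates. -/
def E (v : Vec) : GolayPt → ℤ := toPts fun j => (flat v ᵥ* Mmat) j / den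

theorem E_eq {v : Vec} {n : Fin 24 → ℤ} (h : flat v = n ᵥ* Vmat) : E v = toPts (n ᵥ* Wmat) := by
  have e : flat v ᵥ* Mmat = den • (n ᵥ* Wmat) := by
    rw [h, vecMul_vecMul, map_check, vecMul_smul]
  unfold E
  rw [e]
  congr 1
  funext j
  exact Int.mul_ediv_cancel_left _ (by decide)

theorem E_mem {v : Vec} (hv : inLam v = true) : E v ∈ leechLattice := by
  obtain ⟨n, hn⟩ := exists_coords hv
  rw [E_eq hn]
  have e : toPts (n ᵥ* Wmat) = ∑ k, n k • toPts (Wmat k) := by
    funext p
    simp [toPts, vecMul, dotProduct, Finset.sum_apply]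
  rw [e]
  exact sum_mem fun k _ => zsmul_mem (inLatB_sound (rows_check k)) _

theorem E_add {v w : Vec} (hv : inLam v = true) (hw : inLam w = true) : E (addV v w) = E v + E w := by
  obtain ⟨n, hn⟩ := exists_coords hv
  obtain ⟨m, hm⟩ := exists_coords hw
  rw [E_eq hn, E_eq hm, E_eq (n := n + m) (by rw [flat_add, hn, hm, add_vecMul]), add_vecMul]
  rfl

theorem E_dot {v w : Vec} (hv : inLam v = true) (hw : inLam w = true) : dotInt (E v) (E w) = 2 * Bd v w := by
  obtain ⟨n, hn⟩ := exists_coords hv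
  obtain ⟨m, hm⟩ := exists_coords hw
  have hd : (den * den : ℤ) ≠ 0 := by decide
  apply mul_left_cancel₀ hd
  rw [E_eq hn, E_eq hm, dot_toPts, ← flat_dot]
  have e1 : flat v ᵥ* Mmat = den • (n ᵥ* Wmat) := by rw [hn, vecMul_vecMul, map_check, vecMul_smul]
  have e2 : flat w ᵥ* Mmat = den • (m ᵥ* Wmat) := by rw [hm, vecMul_vecMul, map_check, vecMul_smul]
  have h : (flat v ᵥ* Mmat) ⬝ᵥ (flat w ᵥ* Mmat) = (2 * den * den) * (flat v ⬝ᵥ flat w) := by
    rw [← dotProduct_mulVec, ← mulVec_transpose Mmat (flat w), mulVec_mulVec, orth_check, smul_mulVec,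
      one_mulVec, dotProduct_smul, smul_eq_mul]
  rw [e1, e2, smul_dotProduct, dotProduct_smul, smul_eq_mul, smul_eq_mul] at h
  linear_combination h

theorem Bd_self_zero {v : Vec} (h : Bd v v = 0) : v = zeroV :=
  flat_inj (by rw [flat_zero]; exact dotProduct_self_eq_zero.mp (by rw [flat_dot, h]))

theorem E_inj {v w : Vec} (hv : inLam v = true) (hw : inLam w = true) (h : E v = E w) : v = w := by
  have hn := inLam_addV hv (inLam_negV hw)
  have e : E (addV v (negV w)) + E w = E v := by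
    rw [← E_add hn hw]
    congr 1
    exact flat_inj (by rw [flat_add, flat_add, flat_neg]; abel)
  have e0 : E (addV v (negV w)) = 0 := by rw [h] at e; simpa using e
  have hz := E_dot hn hn
  rw [e0] at hz
  have := congrArg flat (Bd_self_zero (v := addV v (negV w)) (by simp [dotInt] at hz; omega))
  rw [flat_add, flat_neg, flat_zero] at this
  exact flat_inj (add_neg_eq_zero.mp this)

/-- The images. -/
def imgGrp : AddSubgroup (GolayPt → ℤ) where
  carrier := {x | ∃ v, inLam v = true ∧ E v = x}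
  add_mem' := by rintro _ _ ⟨v, hv, rfl⟩ ⟨w, hw, rfl⟩; exact ⟨_, inLam_addV hv hw, E_add hv hw⟩
  zero_mem' := ⟨zeroV, inLam_zeroV, by decide +kernel⟩
  neg_mem' := by
    rintro _ ⟨v, hv, rfl⟩
    refine ⟨_, inLam_negV hv, eq_neg_of_add_eq_zero_left ?_⟩
    rw [← E_add (inLam_negV hv) hv,
      show addV (negV v) v = zeroV from flat_inj (by rw [flat_add, flat_neg, flat_zero, neg_add_cancel])]
    decide +kernel

theorem pre_check :
    toPts ((fun j : Fin 24 => (preC.getD 0 []).getD j 0) ᵥ* Wmat) = od (-1) ∅ {none} ∧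
    (∀ k : Fin 12, toPts ((fun j : Fin 24 => (preC.getD (1 + k) []).getD j 0) ᵥ* Wmat) =
      fun a => 2 * chi (toSet (sysBasis.getD k 0)) a) ∧
    (∀ k : Fin 24, toPts ((fun j : Fin 24 => (preC.getD (13 + k) []).getD j 0) ᵥ* Wmat) =
      fun a => 4 * chi {pt k} a - 4 * chi {none} a) ∧
    toPts ((fun j : Fin 24 => (preC.getD 37 []).getD j 0) ᵥ* Wmat) = (fun a => 8 * chi {none} a) := by
  decide +kernel

theorem mem_imgGrp (n : Fin 24 → ℤ) : toPts (n ᵥ* Wmat) ∈ imgGrp := by
  obtain ⟨v, hv, e⟩ := vecMul_mem_Lam n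
  exact ⟨v, hv, E_eq e⟩

theorem E_surj {x : GolayPt → ℤ} (hx : x ∈ leechLattice) : ∃ v, inLam v = true ∧ E v = x := by
  obtain ⟨h1, h2, h3, h4⟩ := pre_check
  refine leech_induction imgGrp (h1 ▸ mem_imgGrp _) (fun e he => ?_) (fun i => ?_) (h4 ▸ mem_imgGrp _) hx
  · obtain ⟨k, hk, rfl⟩ := List.getElem_of_mem he
    have hk' : k < 12 := by simpa [sysBasis] using hk
    have := h2 ⟨k, hk'⟩
    rw [List.getD_eq_getElem _ _ hk] at this
    exact this ▸ mem_imgGrp _
  · have := h3 (fidx i)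
    simp only [fidx, pt_idx] at this
    exact this ▸ mem_imgGrp _

/-- The map of lattices. -/
noncomputable def toLeech (x : icoLeech) : ↥leechLattice := ⟨E (toV x), E_mem (inLam_toV x)⟩

theorem toLeech_bij : Function.Bijective toLeech := by
  refine ⟨fun x y h => toV_inj (E_inj (inLam_toV x) (inLam_toV y) (congrArg Subtype.val h)), fun y => ?_⟩
  obtain ⟨v, hv, e⟩ := E_surj y.2
  exact ⟨ofV v hv, Subtype.ext (show E (toV (ofV v hv)) = y by rw [toV_ofV, e])⟩

/-- The bijection of lattices. -/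
noncomputable def Phi : icoLeech ≃ ↥leechLattice := Equiv.ofBijective toLeech toLeech_bij

theorem Phi_coe (x : icoLeech) : ((Phi x : ↥leechLattice) : GolayPt → ℤ) = E (toV x) := rfl

/-- An automorphism of the icosian lattice as a form lattice. -/
structure IsAut (g : Equiv.Perm icoLeech) : Prop where
  add : ∀ v w, inLam v = true → inLam w = true → act g (addV v w) = addV (act g v) (act g w)
  isom : ∀ v w, inLam v = true → inLam w = true → Bd (act g v) (act g w) = Bd v w

theorem Phi_conj_apply (g : Equiv.Perm icoLeech) (y : ↥leechLattice) :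
    Phi.permCongrHom g y = Phi (g (Phi.symm y)) := rfl

theorem Phi_symm_add (x y : ↥leechLattice) :
    toV (Phi.symm (x + y)) = addV (toV (Phi.symm x)) (toV (Phi.symm y)) := by
  apply E_inj (inLam_toV _) (inLam_addV (inLam_toV _) (inLam_toV _))
  rw [E_add (inLam_toV _) (inLam_toV _), ← Phi_coe, ← Phi_coe, ← Phi_coe]
  simp

theorem mem_Co0_of_isAut {g : Equiv.Perm icoLeech} (hg : IsAut g) : Phi.permCongrHom g ∈ Co0 := by
  refine ⟨fun x y => Subtype.ext ?_, fun x => ?_⟩
  · rw [Phi_conj_apply, Phi_conj_apply, Phi_conj_apply, AddSubgroup.coe_add, Phi_coe, Phi_coe, Phi_coe,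
      ← act_toV, ← act_toV, ← act_toV, Phi_symm_add, hg.add _ _ (inLam_toV _) (inLam_toV _),
      E_add (act_mem _ (inLam_toV _)) (act_mem _ (inLam_toV _))]
  · rw [Phi_conj_apply, sqNorm_dot, sqNorm_dot, Phi_coe, ← act_toV,
      E_dot (act_mem _ (inLam_toV _)) (act_mem _ (inLam_toV _)), hg.isom _ _ (inLam_toV _) (inLam_toV _),
      ← E_dot (inLam_toV _) (inLam_toV _), ← Phi_coe, Equiv.apply_symm_apply]

theorem isAut_of_mem_Co0 {g : Equiv.Perm icoLeech} (hg : Phi.permCongrHom g ∈ Co0) : IsAut g := by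
  set G : ↥Co0 := ⟨Phi.permCongrHom g, hg⟩
  have key : ∀ v (hv : inLam v = true),
      E (act g v) = ((G • (⟨E v, E_mem hv⟩ : ↥leechLattice) : ↥leechLattice) : GolayPt → ℤ) := by
    intro v hv
    have e : (⟨E v, E_mem hv⟩ : ↥leechLattice) = Phi (ofV v hv) :=
      Subtype.ext (by rw [Phi_coe, toV_ofV])
    rw [e]
    show E (act g v) = ((Phi.permCongrHom g (Phi (ofV v hv)) : ↥leechLattice) : GolayPt → ℤ)
    rw [Phi_conj_apply, Equiv.symm_apply_apply, Phi_coe, act, dif_pos hv]
  refine ⟨fun v w hv hw => ?_, fun v w hv hw => ?_⟩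
  · apply E_inj (act_mem _ (inLam_addV hv hw)) (inLam_addV (act_mem _ hv) (act_mem _ hw))
    rw [E_add (act_mem _ hv) (act_mem _ hw), key _ (inLam_addV hv hw), key _ hv, key _ hw,
      ← AddSubgroup.coe_add, ← aut_add]
    congr 2
    exact Subtype.ext (E_add hv hw)
  · have h := E_dot (act_mem g hv) (act_mem g hw)
    rw [key _ hv, key _ hw, aut_dot, E_dot hv hw] at h
    omega

end CfsgHJL
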