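/-
Scans of the minimal vectors by their products with powers of the scalar times base vectors.
-/
import Cfsg.Agent.Lib.HallJankoLeech.Coords

set_option autoImplicit false

namespace CfsgHJL

open CfsgHJ CfsgHJ.Ico

/-- The probes of a stage. -/
def keysOf (fixed : List ℕ) : List (ℕ × ℕ) := fixed.flatMap fun j => (List.range 4).map fun i => (j, i)

/-- The row of a line in the table of a stage. -/
def kerFun (fixed : List ℕ) (l : Vec) : List Ico :=
  (keysOf fixed).map fun k => ddI (conj (ipV l (sVec k.1 k.2)))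

/-- Comparison of the products with the target, stopping at the first difference. -/
def hitB (dw : Ico) : List Ico → List ℤ → Bool
  | K :: Ks, t :: ts => decide (dot8 dw K = t) && hitB dw Ks ts
  | _, _ => true

/-- All vectors with the target labels are candidates. -/
def scanOK (tab : List (List Ico)) (tgt : List ℤ) (cand : List (ℕ × ℕ)) : Bool :=
  (lines.zip tab).all fun p => (unitL.zip unitDd).all fun q =>
    !hitB q.2 p.2 tgt || cand.any fun c => beqV (smulV q.1 p.1) (candVec c)

theorem unitDd_eq : unitDd = unitL.map ddI := by decide +kernel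

theorem kerTab0_eq : kerTab0 = lines.map (kerFun [0]) := by decide +kernel

theorem kerTab1_eq : kerTab1 = lines.map (kerFun [1, 0]) := by decide +kernel

theorem kerTab2_eq : kerTab2 = lines.map (kerFun [2, 1, 0]) := by decide +kernel

theorem scan1 : scanOK kerTab0 tgt1 cand1 = true := by decide +kernel

theorem scan2 : scanOK kerTab1 tgt2 cand2 = true := by decide +kernel

theorem scan3 : scanOK kerTab2 tgt3 cand3 = true := by decide +kernel

theorem scan4 : scanOK kerTab2 tgt4 cand4 = true := by decide +kernel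

theorem scan5 : scanOK kerTab2 tgt5 cand5 = true := by decide +kernel

theorem tgt_eq :
    tgt1 = (keysOf [0]).map (fun k => Bd (baseAt 1) (sVec k.1 k.2)) ∧
    tgt2 = (keysOf [1, 0]).map (fun k => Bd (baseAt 2) (sVec k.1 k.2)) ∧
    tgt3 = (keysOf [2, 1, 0]).map (fun k => Bd (baseAt 3) (sVec k.1 k.2)) ∧
    tgt4 = (keysOf [2, 1, 0]).map (fun k => Bd (baseAt 4) (sVec k.1 k.2)) ∧
    tgt5 = (keysOf [2, 1, 0]).map (fun k => Bd (baseAt 5) (sVec k.1 k.2)) := by
  decide +kernel

theorem cand_len : cand1.length = 32 ∧ cand2.length = 5 ∧ cand3.length = 1 ∧ cand4.length = 1 ∧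
    cand5.length = 1 := by
  decide +kernel

attribute [local irreducible] lines unitL lineAt uFive baseIdx

theorem hitB_of_eq {dw : Ico} {L : List (ℕ × ℕ)} {f : ℕ × ℕ → Ico} {g : ℕ × ℕ → ℤ}
    (h : ∀ k ∈ L, dot8 dw (f k) = g k) : hitB dw (L.map f) (L.map g) = true := by
  induction L with
  | nil => rfl
  | cons a L ih =>
    simp only [List.map_cons, hitB, Bool.and_eq_true, decide_eq_true_eq]
    exact ⟨h a (by simp), ih fun k hk => h k (by simp [hk])⟩

/-- Soundness of a scan. -/
theorem scan_sound {fixed : List ℕ} {tab : List (List Ico)} {tgt : List ℤ} {cand : List (ℕ × ℕ)} {b : Vec}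
    (htab : tab = lines.map (kerFun fixed)) (hs : scanOK tab tgt cand = true)
    (ht : tgt = (keysOf fixed).map fun k => Bd b (sVec k.1 k.2)) {x : Vec} (hx : CfsgHJ.IsMin x)
    (hlab : ∀ k ∈ keysOf fixed, Bd x (sVec k.1 k.2) = Bd b (sVec k.1 k.2)) :
    x ∈ cand.map candVec := by
  obtain ⟨w, hw, l, hl, rfl⟩ := min_vec hx.1 hx.2
  subst htab
  have h1 : (l, kerFun fixed l) ∈ lines.zip (lines.map (kerFun fixed)) := by
    obtain ⟨i, hi, rfl⟩ := List.getElem_of_mem hl
    exact List.mem_iff_getElem.mpr ⟨i, by simpa using hi, by simp⟩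
  have h2 : (w, ddI w) ∈ unitL.zip unitDd := by
    rw [unitDd_eq]
    obtain ⟨i, hi, rfl⟩ := List.getElem_of_mem hw
    exact List.mem_iff_getElem.mpr ⟨i, by simpa using hi, by simp⟩
  have h := List.all_eq_true.mp (List.all_eq_true.mp hs _ h1) _ h2
  have hhit : hitB (ddI w) (kerFun fixed l) tgt = true := by
    rw [ht, kerFun]
    exact hitB_of_eq fun k hk => by rw [← Bd_smul_left, hlab k hk]
  rw [hhit, Bool.not_true, Bool.false_or, List.any_eq_true] at h
  obtain ⟨c, hc, e⟩ := h
  rw [beqV_iff] at e
  exact List.mem_map.mpr ⟨c, hc, e.symm⟩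

end CfsgHJL
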