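/-
At most 6048000 isometries of the lattice commute with a scalar of order five.
-/
import Cfsg.Agent.Lib.HallJankoLeech.ScanCheck
import Cfsg.Agent.Lib.HallJankoLeech.Iso

set_option autoImplicit false

namespace CfsgHJL

open CfsgHJ CfsgHJ.Ico Cfsg.Spor
open Matrix

attribute [local irreducible] lines unitL lineAt uFive baseIdx smallL repL

theorem smulV_mul (a b : Ico) (v : Vec) : smulV (mul a b) v = smulV a (smulV b v) :=
  phi3_inj (by funext t; simp [phi3_smulV, phi_mul, mul_assoc])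

theorem smulV_one (v : Vec) : smulV one v = v := phi3_inj (by funext t; simp [phi3_smulV, phi_one])

/-- Commutation with the scalar. -/
def CommFive (g : Equiv.Perm icoLeech) : Prop :=
  ∀ v, inLam v = true → act g (smulV uFive v) = smulV uFive (act g v)

theorem self_imag (n : Ico) :
    (mul n (conj n)).d2 = 0 ∧ (mul n (conj n)).d3 = 0 ∧ (mul n (conj n)).d4 = 0 ∧ (mul n (conj n)).d5 = 0 ∧
      (mul n (conj n)).d6 = 0 ∧ (mul n (conj n)).d7 = 0 := by
  simp only [Ico.mul, conj, d0, d1, d2, d3, d4, d5, d6, d7]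
  refine ⟨?_, ?_, ?_, ?_, ?_, ?_⟩ <;> ring

theorem ipV_imag (v : Vec) :
    (ipV v v).d2 = 0 ∧ (ipV v v).d3 = 0 ∧ (ipV v v).d4 = 0 ∧ (ipV v v).d5 = 0 ∧ (ipV v v).d6 = 0 ∧
      (ipV v v).d7 = 0 := by
  have hx := self_imag v.1
  have hy := self_imag v.2.1
  have hz := self_imag v.2.2
  simp only [ipV, Ico.add, d2, d3, d4, d5, d6, d7] at *
  omega

theorem d0_mul_five (K : Ico) (h2 : K.d2 = 0) (h3 : K.d3 = 0) (h4 : K.d4 = 0) (h5 : K.d5 = 0) (h6 : K.d6 = 0)
    (h7 : K.d7 = 0) : 2 * (mul K (conj uFive)).d0 = -K.d0 + K.d1 := by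
  unfold uFive
  simp only [Ico.mul, conj, d0, d1, d2, d3, d4, d5, d6, d7] at *
  omega

/-- The minimal vectors are recognised by two products. -/
theorem isMin_iff {v : Vec} (hv : inLam v = true) :
    CfsgHJ.IsMin v ↔ Bd v v = 16 ∧ Bd v (smulV uFive v) = -8 := by
  obtain ⟨h2, h3, h4, h5, h6, h7⟩ := ipV_imag v
  have hu : Bd v (smulV uFive v) = -(ipV v v).d0 + (ipV v v).d1 := by
    rw [Bd_ipV, ipV_smul_right, d0_mul_five _ h2 h3 h4 h5 h6 h7]
  rw [CfsgHJ.IsMin, hu, Bd_ipV]
  constructor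
  · rintro ⟨-, h⟩
    rw [h]
    decide +kernel
  · rintro ⟨ha, hb⟩
    have hd0 : (ipV v v).d0 = 8 := by omega
    have hd1 : (ipV v v).d1 = 0 := by omega
    refine ⟨hv, ?_⟩
    rw [← back_dd (ipV v v), ← back_dd four]
    congr 1
    simp only [Ico.dd, Prod.mk.injEq]
    exact ⟨hd0.trans (by decide), hd1.trans (by decide), h2.trans (by decide), h3.trans (by decide),
      h4.trans (by decide), h5.trans (by decide), h6.trans (by decide), h7.trans (by decide)⟩

theorem isAut_one : IsAut 1 := ⟨fun v w _ _ => by simp [act_one], fun v w _ _ => by simp [act_one]⟩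

theorem isAut_mul {g h : Equiv.Perm icoLeech} (hg : IsAut g) (hh : IsAut h) : IsAut (g * h) :=
  isAut_of_mem_Co0 (by rw [map_mul]; exact mul_mem (mem_Co0_of_isAut hg) (mem_Co0_of_isAut hh))

theorem isAut_inv {g : Equiv.Perm icoLeech} (hg : IsAut g) : IsAut g⁻¹ :=
  isAut_of_mem_Co0 (by rw [map_inv]; exact inv_mem (mem_Co0_of_isAut hg))

theorem act_inv_act (g : Equiv.Perm icoLeech) {v : Vec} (hv : inLam v = true) : act g⁻¹ (act g v) = v := by
  rw [← act_mul g⁻¹ g hv, inv_mul_cancel, act_one]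

theorem act_act_inv (g : Equiv.Perm icoLeech) {v : Vec} (hv : inLam v = true) : act g (act g⁻¹ v) = v := by
  rw [← act_mul g g⁻¹ hv, mul_inv_cancel, act_one]

/-- The isometries commuting with the scalar. -/
def cent5 : Subgroup (Equiv.Perm icoLeech) where
  carrier := {g | IsAut g ∧ CommFive g}
  one_mem' := ⟨isAut_one, fun v _ => by simp [act_one]⟩
  mul_mem' := by
    rintro g h ⟨hg, hg'⟩ ⟨hh, hh'⟩
    refine ⟨isAut_mul hg hh, fun v hv => ?_⟩
    rw [act_mul g h (inLam_smulV _ hv), hh' v hv, hg' _ (act_mem h hv), act_mul g h hv]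
  inv_mem' := by
    rintro g ⟨hg, hg'⟩
    refine ⟨isAut_inv hg, fun v hv => ?_⟩
    have e := hg' _ (act_mem g⁻¹ hv)
    rw [act_act_inv g hv] at e
    rw [← e, act_inv_act g (inLam_smulV _ (act_mem _ hv))]

theorem cent5_isMin {g : Equiv.Perm icoLeech} (hg : g ∈ cent5) {v : Vec} (hv : CfsgHJ.IsMin v) : CfsgHJ.IsMin (act g v) := by
  have hm := act_mem g hv.1
  obtain ⟨h1, h2⟩ := (isMin_iff hv.1).mp hv
  rw [isMin_iff hm, ← hg.2 v hv.1, hg.1.isom v v hv.1 hv.1, hg.1.isom v _ hv.1 (inLam_smulV _ hv.1)]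
  exact ⟨h1, h2⟩

theorem act_uPow {g : Equiv.Perm icoLeech} (hg : g ∈ cent5) {v : Vec} (hv : inLam v = true) (i : ℕ) :
    act g (smulV (uPow i) v) = smulV (uPow i) (act g v) := by
  induction i with
  | zero => simp only [uPow, smulV_one]
  | succ i ih => simp only [uPow, smulV_mul]; rw [hg.2 _ (inLam_smulV _ hv), ih]

/-- The point of a vector. -/
noncomputable def ptOf (j : ℕ) (hj : j < 6) : icoLeech := ofV (baseAt j) (isMin_baseAt hj).1

/-- The subgroup fixing the first base vectors. -/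
noncomputable def stabs : ℕ → Subgroup (Equiv.Perm icoLeech)
  | 0 => cent5
  | n + 1 => if h : n < 6 then stabs n ⊓ MulAction.stabilizer (Equiv.Perm icoLeech) (ptOf n h) else stabs n

theorem stabs_le : ∀ n, stabs n ≤ cent5
  | 0 => le_rfl
  | n + 1 => by
    simp only [stabs]
    split
    · exact inf_le_left.trans (stabs_le n)
    · exact stabs_le n

theorem stabs_fix : ∀ {n : ℕ}, n ≤ 6 → ∀ {g : Equiv.Perm icoLeech}, g ∈ stabs n → ∀ j, j < n →
    act g (baseAt j) = baseAt j
  | 0, _, _, _, j, hj => absurd hj (Nat.not_lt_zero j)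
  | n + 1, hn, g, hg, j, hj => by
    rw [stabs, dif_pos (by omega : n < 6)] at hg
    rcases Nat.lt_succ_iff_lt_or_eq.mp hj with h | rfl
    · exact stabs_fix (by omega) hg.1 j h
    · have e : g (ptOf j (by omega)) = ptOf j (by omega) := hg.2
      have hb := (isMin_baseAt (j := j) (by omega)).1
      rw [act, dif_pos hb]
      exact (congrArg toV e).trans (toV_ofV hb)

theorem label_eq {n : ℕ} (hn : n ≤ 6) {g : Equiv.Perm icoLeech} (hg : g ∈ stabs n) {j : ℕ} (hj : j < n) (i : ℕ)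
    {x : Vec} (hx : inLam x = true) : Bd (act g x) (sVec j i) = Bd x (sVec j i) := by
  have hb := (isMin_baseAt (j := j) (by omega)).1
  conv_lhs => rw [sVec, ← stabs_fix hn hg j hj, ← act_uPow (stabs_le n hg) hb]
  exact (stabs_le n hg).1.isom _ _ hx (inLam_smulV _ hb)

theorem bound_step {K : Subgroup (Equiv.Perm icoLeech)} {x : icoLeech} {s : Finset icoLeech} {a N : ℕ}
    (hs : s.card ≤ a) (hx : ∀ g ∈ K, g x ∈ s)
    (h : Nat.card ↥(K ⊓ MulAction.stabilizer (Equiv.Perm icoLeech) x) ≤ N ∧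
      0 < Nat.card ↥(K ⊓ MulAction.stabilizer (Equiv.Perm icoLeech) x)) :
    Nat.card ↥K ≤ a * N ∧ 0 < Nat.card ↥K := by
  have hsub : MulAction.orbit ↥K x ⊆ (s : Set icoLeech) := by
    rintro _ ⟨g, rfl⟩
    exact hx g.1 g.2
  have hfin := s.finite_toSet.subset hsub
  have h1 : (MulAction.stabilizer ↥K x).index ≤ a := by
    rw [MulAction.index_stabilizer]
    exact ((Set.ncard_le_ncard hsub s.finite_toSet).trans (Set.ncard_coe_finset s).le).trans hs
  have h0 : 0 < (MulAction.stabilizer ↥K x).index := by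
    rw [MulAction.index_stabilizer]
    exact (Set.ncard_pos hfin).mpr ⟨x, MulAction.mem_orbit_self x⟩
  have e : Nat.card ↥(MulAction.stabilizer ↥K x) =
      Nat.card ↥(K ⊓ MulAction.stabilizer (Equiv.Perm icoLeech) x) :=
    Nat.card_congr
      { toFun := fun g => ⟨g.1.1, g.1.2, g.2⟩
        invFun := fun g => ⟨⟨g.1, g.2.1⟩, g.2.2⟩
        left_inv := fun _ => rfl
        right_inv := fun _ => rfl }
  rw [← (MulAction.stabilizer ↥K x).index_mul_card, e]
  exact ⟨Nat.mul_le_mul h1 h.1, Nat.mul_pos h0 h.2⟩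

theorem final_trivial {g : Equiv.Perm icoLeech} (hg : g ∈ stabs 6) : g = 1 := by
  have hc := stabs_le 6 hg
  have hz : act g zeroV = zeroV := by
    have h := hc.1.isom zeroV zeroV inLam_zeroV inLam_zeroV
    exact Bd_self_zero (h.trans (by decide +kernel))
  let S : AddSubgroup (Fin 24 → ℤ) :=
    { carrier := {x | ∃ v, inLam v = true ∧ act g v = v ∧ flat v = x}
      add_mem' := by
        rintro _ _ ⟨v, hv, ev, rfl⟩ ⟨w, hw, ew, rfl⟩
        exact ⟨_, inLam_addV hv hw, by rw [hc.1.add v w hv hw, ev, ew], flat_add v w⟩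
      zero_mem' := ⟨_, inLam_zeroV, hz, flat_zero⟩
      neg_mem' := by
        rintro _ ⟨v, hv, ev, rfl⟩
        refine ⟨_, inLam_negV hv, ?_, flat_neg v⟩
        have h := congrArg flat (hc.1.add v (negV v) hv (inLam_negV hv))
        rw [flat_add, ev, show addV v (negV v) = zeroV from
          flat_inj (by rw [flat_add, flat_neg, flat_zero, add_neg_cancel]), hz, flat_zero] at h
        exact flat_inj (by rw [flat_neg]; exact eq_neg_of_add_eq_zero_right h.symm) }
  have hrow : ∀ k, flat (rowVec k) ∈ S := fun k => by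
    refine ⟨_, inLam_rowVec k, ?_, rfl⟩
    rw [rowVec, sVec, act_uPow hc (isMin_baseAt (by omega)).1, stabs_fix le_rfl hg _ (by omega)]
  refine Equiv.ext fun y => toV_inj ?_
  obtain ⟨n, hn⟩ := exists_coords (inLam_toV y)
  obtain ⟨v, -, ev, e⟩ : flat (toV y) ∈ S := hn ▸ vecMul_mem_of_rows hrow n
  rw [← act_toV, ← flat_inj e, ev]
  exact flat_inj e

theorem stab_step {n : ℕ} (hn : n < 6) {a N : ℕ} {cand : List (ℕ × ℕ)} (hlen : cand.length ≤ a)
    (hc : ∀ g ∈ stabs n, act g (baseAt n) ∈ cand.map candVec)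
    (h : Nat.card ↥(stabs (n + 1)) ≤ N ∧ 0 < Nat.card ↥(stabs (n + 1))) :
    Nat.card ↥(stabs n) ≤ a * N ∧ 0 < Nat.card ↥(stabs n) := by
  classical
  rw [stabs, dif_pos hn] at h
  refine bound_step (s := ((cand.map candVec).filterMap fun v =>
    if hv : inLam v = true then some (ofV v hv) else none).toFinset) ?_ (fun g hg => ?_) h
  · refine (List.toFinset_card_le _).trans ((List.length_filterMap_le _ _).trans ?_)
    simpa using hlen
  · rw [List.mem_toFinset, List.mem_filterMap]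
    have hb := (isMin_baseAt hn).1
    refine ⟨_, hc g hg, ?_⟩
    rw [dif_pos (act_mem g hb)]
    congr 1
    rw [ptOf]
    exact toV_inj (by rw [toV_ofV, act, dif_pos hb])

theorem keys_lt {fixed : List ℕ} {n : ℕ} (h : ∀ j ∈ fixed, j < n) {k : ℕ × ℕ} (hk : k ∈ keysOf fixed) : k.1 < n := by
  simp only [keysOf, List.mem_flatMap, List.mem_map] at hk
  obtain ⟨j, hj, i, -, rfl⟩ := hk
  exact h j hj

theorem cand_step {n : ℕ} (hn : n < 6) {fixed : List ℕ} {tab : List (List Ico)} {tgt : List ℤ}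
    {cand : List (ℕ × ℕ)} (hf : ∀ j ∈ fixed, j < n)
    (htab : tab = lines.map (kerFun fixed)) (hs : scanOK tab tgt cand = true)
    (ht : tgt = (keysOf fixed).map fun k => Bd (baseAt n) (sVec k.1 k.2)) :
    ∀ g ∈ stabs n, act g (baseAt n) ∈ cand.map candVec := fun g hg =>
  scan_sound htab hs ht (cent5_isMin (stabs_le n hg) (isMin_baseAt hn))
    fun k hk => label_eq hn.le hg (keys_lt hf hk) k.2 (isMin_baseAt hn).1

set_option maxRecDepth 20000 in
theorem card_cent5 : Nat.card ↥cent5 ≤ 6048000 ∧ 0 < Nat.card ↥cent5 := by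
  classical
  obtain ⟨t1, t2, t3, t4, t5⟩ := tgt_eq
  obtain ⟨l1, l2, l3, l4, l5⟩ := cand_len
  have h6 : Nat.card ↥(stabs 6) ≤ 1 ∧ 0 < Nat.card ↥(stabs 6) := by
    have e : stabs 6 = ⊥ := (Subgroup.eq_bot_iff_forall _).mpr fun g hg => final_trivial hg
    rw [e, Subgroup.card_bot]
    exact ⟨le_rfl, Nat.one_pos⟩
  have h5 := stab_step (n := 5) (by norm_num) l5.le
    (cand_step (by norm_num) (fun j hj => by simp at hj; omega) kerTab2_eq scan5 t5) h6
  have h4 := stab_step (n := 4) (by norm_num) l4.le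
    (cand_step (by norm_num) (fun j hj => by simp at hj; omega) kerTab2_eq scan4 t4) h5
  have h3 := stab_step (n := 3) (by norm_num) l3.le
    (cand_step (by norm_num) (fun j hj => by simp at hj; omega) kerTab2_eq scan3 t3) h4
  have h2 := stab_step (n := 2) (by norm_num) l2.le
    (cand_step (by norm_num) (fun j hj => by simp at hj; omega) kerTab1_eq scan2 t2) h3
  have h1 := stab_step (n := 1) (by norm_num) l1.le
    (cand_step (by norm_num) (fun j hj => by simp at hj; omega) kerTab0_eq scan1 t1) h2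
  rw [stabs, dif_pos (by norm_num : 0 < 6)] at h1
  let pts : Fin 315 × Fin 120 → icoLeech := fun p =>
    if hv : inLam (candVec (p.1, p.2)) = true then ofV _ hv else ptOf 0 (by norm_num)
  have h0 := bound_step (K := stabs 0) (s := Finset.univ.image pts) (a := 37800)
    (Finset.card_image_le.trans (by simp)) (fun g hg => ?_) h1
  · exact ⟨h0.1.trans (by norm_num), h0.2⟩
  · have hb := (isMin_baseAt (j := 0) (by norm_num)).1
    have hm := cent5_isMin hg (isMin_baseAt (j := 0) (by norm_num))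
    have hex := exists_line hm
    obtain ⟨i, w, hw, e⟩ := hex
    obtain ⟨k, hk, rfl⟩ := List.getElem_of_mem hw
    refine Finset.mem_image.mpr ⟨(i, ⟨k, by rwa [units_check.2.1] at hk⟩), Finset.mem_univ _, ?_⟩
    have ec : candVec ((i : ℕ), k) = act g (baseAt 0) := by
      rw [e, candVec, uAt, List.getD_eq_getElem _ _ hk]
    simp only [pts]
    rw [dif_pos (by rw [ec]; exact hm.1)]
    apply toV_inj
    rw [toV_ofV, ec, ptOf, act, dif_pos hb]

end CfsgHJL
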