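/-
The centraliser of an element of order five in the automorphism group of the lattice.
-/
import Cfsg.Agent.Lib.HallJankoLeech.Bound
import Cfsg.Agent.Lib.Leech.CrossStab
import Cfsg.Agent.Lib.HallJanko.Simple

set_option autoImplicit false

namespace CfsgHJL

open Cfsg CfsgLeech CfsgGolay CfsgHJ CfsgHJ.Ico Cfsg.Spor

attribute [local irreducible] lines unitL lineAt uFive baseIdx smallL repL codeL octadL dodecadL

theorem uPow_five : uPow 5 = one := by decide +kernel

theorem smulV_addV (a : Ico) (v w : Vec) : smulV a (addV v w) = addV (smulV a v) (smulV a w) :=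
  phi3_inj (by funext t; simp [phi3_addV, phi3_smulV, mul_add])

theorem d0_conj_five (X : Ico) : (mul uFive (mul X (conj uFive))).d0 = X.d0 := by
  unfold uFive
  simp only [Ico.mul, conj, d0, d1, d2, d3, d4, d5, d6, d7]
  ring

/-- Multiplication by the scalar of order five. -/
noncomputable def fiveP : Equiv.Perm icoLeech where
  toFun x := ofV (smulV uFive (toV x)) (inLam_smulV _ (inLam_toV x))
  invFun x := ofV (smulV (conj uFive) (toV x)) (inLam_smulV _ (inLam_toV x))
  left_inv x := toV_inj (by rw [toV_ofV, toV_ofV, ← smulV_mul, unit_five.2, smulV_one])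
  right_inv x := toV_inj (by rw [toV_ofV, toV_ofV, ← smulV_mul, unit_five.1, smulV_one])

theorem act_fiveP {v : Vec} (hv : inLam v = true) : act fiveP v = smulV uFive v := by
  rw [act, dif_pos hv]
  refine (toV_ofV (inLam_smulV uFive (inLam_toV (ofV v hv)))).trans ?_
  rw [toV_ofV]

theorem isAut_fiveP : IsAut fiveP where
  add v w hv hw := by rw [act_fiveP (inLam_addV hv hw), act_fiveP hv, act_fiveP hw, smulV_addV]
  isom v w hv hw := by
    rw [act_fiveP hv, act_fiveP hw, Bd_ipV, Bd_ipV, ipV_smul, ipV_smul_right, d0_conj_five]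

theorem act_fiveP_pow (i : ℕ) {v : Vec} (hv : inLam v = true) : act (fiveP ^ i) v = smulV (uPow i) v := by
  induction i with
  | zero => rw [pow_zero, act_one, uPow, smulV_one]
  | succ i ih =>
    rw [pow_succ', act_mul _ _ hv, ih, act_fiveP (inLam_smulV _ hv), uPow, smulV_mul]

theorem fiveP_pow_five : fiveP ^ 5 = 1 := Equiv.ext fun x => toV_inj (by
  rw [← act_toV, act_fiveP_pow 5 (inLam_toV x), uPow_five, smulV_one]; rfl)

theorem fiveP_ne_one : fiveP ≠ 1 := by
  intro h
  have e := act_fiveP (isMin_baseAt (j := 0) (by norm_num)).1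
  rw [h, act_one] at e
  have : beqV (baseAt 0) (smulV uFive (baseAt 0)) = false := by decide +kernel
  rw [beqV_iff.mpr e] at this
  exact Bool.noConfusion this

/-- The element of order five. -/
noncomputable def aFive : ↥Co0 := ⟨Phi.permCongrHom fiveP, mem_Co0_of_isAut isAut_fiveP⟩

theorem orderOf_aFive : orderOf aFive = 5 := by
  haveI : Fact (Nat.Prime 5) := ⟨by norm_num⟩
  refine orderOf_eq_prime (Subtype.ext ?_) fun h => fiveP_ne_one (Phi.permCongrHom.injective ?_)
  · rw [SubmonoidClass.coe_pow]
    show Phi.permCongrHom fiveP ^ 5 = 1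
    rw [← map_pow, fiveP_pow_five, map_one]
  · rw [map_one]
    exact congrArg Subtype.val h

theorem isAut_twoJ2 {g : Equiv.Perm icoLeech} (hg : g ∈ twoJ2) : IsAut g where
  add _ _ hv hw := (isLin_of_mem hg).map_addV hv hw
  isom v w hv hw := by rw [Bd_ipV, Bd_ipV, (isLin_of_mem hg).isom v w hv hw]

theorem commFive_twoJ2 {g : Equiv.Perm icoLeech} (hg : g ∈ twoJ2) : CommFive g :=
  fun _ hv => (isLin_of_mem hg).map_smul uFive hv

/-- The double cover inside the automorphism group. -/
noncomputable def iota : ↥twoJ2 →* ↥Co0 where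
  toFun g := ⟨Phi.permCongrHom g, mem_Co0_of_isAut (isAut_twoJ2 g.2)⟩
  map_one' := Subtype.ext (map_one Phi.permCongrHom)
  map_mul' g h := Subtype.ext (map_mul Phi.permCongrHom (g : Equiv.Perm icoLeech) h)

theorem iota_injective : Function.Injective iota := fun _ _ h =>
  Subtype.ext (Phi.permCongrHom.injective (congrArg Subtype.val h))

theorem commute_fiveP {g : Equiv.Perm icoLeech} (hg : CommFive g) : Commute fiveP g :=
  Equiv.ext fun x => toV_inj (by
    rw [← act_toV, ← act_toV, act_mul _ _ (inLam_toV x), act_mul _ _ (inLam_toV x),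
      act_fiveP (act_mem _ (inLam_toV x)), act_fiveP (inLam_toV x), hg _ (inLam_toV x)])

theorem iota_commute (g : ↥twoJ2) : Commute aFive (iota g) :=
  Subtype.ext ((commute_fiveP (commFive_twoJ2 g.2)).map Phi.permCongrHom).eq

/-- The group of order five. -/
noncomputable def AFive : Subgroup ↥Co0 := Subgroup.zpowers aFive

theorem card_AFive : Nat.card ↥AFive = 5 := by rw [AFive, Nat.card_zpowers, orderOf_aFive]

/-- The centraliser. -/
noncomputable def CFive : Subgroup ↥Co0 := Subgroup.centralizer (AFive : Set ↥Co0)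

theorem mem_CFive {g : ↥Co0} : g ∈ CFive ↔ g * aFive = aFive * g := by
  rw [CFive, AFive, Subgroup.zpowers_eq_closure, Subgroup.centralizer_closure,
    Subgroup.mem_centralizer_singleton_iff]

/-- Transfer to the icosian lattice. -/
noncomputable def back : ↥Co0 →* Equiv.Perm icoLeech := Phi.permCongrHom.symm.toMonoidHom.comp Co0.subtype

theorem card_CFive : Nat.card ↥CFive ≤ 6048000 ∧ Finite ↥CFive := by
  haveI : Finite ↥cent5 := Nat.finite_of_card_ne_zero card_cent5.2.ne'
  have hmem : ∀ g ∈ CFive, back g ∈ cent5 := by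
    intro g hg
    refine ⟨isAut_of_mem_Co0 ?_, fun v hv => ?_⟩
    · rw [show Phi.permCongrHom (back g) = g from Phi.permCongrHom.apply_symm_apply _]
      exact g.2
    have e := congrArg back (mem_CFive.mp hg)
    rw [map_mul, map_mul, show back aFive = fiveP from Phi.permCongrHom.symm_apply_apply fiveP] at e
    have e' : act (back g * fiveP) v = act (fiveP * back g) v := by rw [e]
    rw [act_mul _ _ hv, act_mul _ _ hv, act_fiveP hv, act_fiveP (act_mem _ hv)] at e'
    exact e'
  let f : ↥CFive → ↥cent5 := fun g => ⟨back g, hmem g g.2⟩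
  have hf : Function.Injective f := fun g h e => by
    have e' := congrArg Subtype.val e
    exact Subtype.ext (Subtype.ext (Phi.permCongrHom.symm.injective e'))
  exact ⟨(Nat.card_le_card_of_injective f hf).trans card_cent5.1, Finite.of_injective f hf⟩

theorem AFive_commute (a : ↥AFive) (g : ↥twoJ2) : Commute (a : ↥Co0) (iota g) := by
  obtain ⟨k, hk⟩ := Subgroup.mem_zpowers_iff.mp a.2
  rw [← hk]
  exact (iota_commute g).zpow_left k

/-- The product of the two factors. -/
noncomputable def pair : ↥AFive × ↥twoJ2 →* ↥Co0 :=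
  MonoidHom.noncommCoprod AFive.subtype iota AFive_commute

theorem pair_apply (p : ↥AFive × ↥twoJ2) : pair p = (p.1 : ↥Co0) * iota p.2 := rfl

theorem pair_injective : Function.Injective pair := by
  rw [injective_iff_map_eq_one]
  rintro ⟨a, g⟩ h
  rw [pair_apply] at h
  have hg : g ∈ Subgroup.center ↥twoJ2 := Subgroup.mem_center_iff.mpr fun k => iota_injective (by
    rw [map_mul, map_mul, eq_inv_of_mul_eq_one_right h]
    exact ((AFive_commute a k).inv_left).symm.eq)
  have hg2 : g * g = 1 := by
    rcases center_iff.mp hg with rfl | rfl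
    · exact one_mul _
    · apply Subtype.ext
      refine Equiv.ext fun x => Subtype.ext ?_
      show ((negP (negP x) : icoLeech) : Fin 3 → Quaternion ℝ) = x
      rw [negP_coe, negP_coe, neg_neg]
  have ha : a = 1 := by
    have h2 : a ^ 2 = 1 := Subtype.ext (by
      rw [SubmonoidClass.coe_pow, eq_inv_of_mul_eq_one_left h, inv_pow, pow_two, ← map_mul, hg2, map_one,
        inv_one, OneMemClass.coe_one])
    have h5 : a ^ 5 = 1 := card_AFive ▸ pow_card_eq_one'
    calc a = a ^ 5 * ((a ^ 2) ^ 2)⁻¹ := by group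
      _ = 1 := by rw [h5, h2, one_pow, inv_one, mul_one]
  subst ha
  have : g = 1 := iota_injective (by rw [map_one]; simpa using h)
  rw [this]
  rfl

theorem range_pair : pair.range = CFive := by
  haveI := card_CFive.2
  refine Subgroup.eq_of_le_of_card_ge ?_ ?_
  · rintro _ ⟨⟨a, g⟩, rfl⟩
    rw [mem_CFive, pair_apply]
    have h1 : Commute (a : ↥Co0) aFive := by
      obtain ⟨k, hk⟩ := Subgroup.mem_zpowers_iff.mp a.2
      rw [← hk]
      exact Commute.zpow_left (Commute.refl _) k
    exact (h1.mul_left (iota_commute g).symm).eq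
  · rw [← Nat.card_congr (MonoidHom.ofInjective pair_injective).toEquiv, Nat.card_prod, card_AFive, card_twoJ2]
    exact card_CFive.1

/-- The isomorphism onto the centraliser. -/
noncomputable def pairEquiv : ↥AFive × ↥twoJ2 ≃* ↥CFive :=
  (MonoidHom.ofInjective pair_injective).trans (MulEquiv.subgroupCongr range_pair)

/-- The map onto the simple quotient. -/
noncomputable def toJ2 : ↥CFive →* J2 :=
  ((QuotientGroup.mk' (Subgroup.center ↥twoJ2)).comp (MonoidHom.snd ↥AFive ↥twoJ2)).comp pairEquiv.symm.toMonoidHom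

theorem toJ2_surjective : Function.Surjective toJ2 :=
  ((QuotientGroup.mk'_surjective _).comp Prod.snd_surjective).comp pairEquiv.symm.surjective

theorem iota_negEl : iota negEl = negAut := by
  refine aut_ext fun y => ?_
  rw [negAut_apply]
  show E (toV (negP (Phi.symm y))) = _
  have hy : E (toV (Phi.symm y)) = (y : GolayPt → ℤ) := by rw [← Phi_coe, Equiv.apply_symm_apply]
  rw [← hy, show toV (negP (Phi.symm y)) = negV (toV (Phi.symm y)) from
    toV_ofV (inLam_negV (inLam_toV (Phi.symm y)))]
  refine eq_neg_of_add_eq_zero_left ?_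
  rw [← E_add (inLam_negV (inLam_toV _)) (inLam_toV _),
    show addV (negV (toV (Phi.symm y))) (toV (Phi.symm y)) = zeroV from
      flat_inj (by rw [flat_add, flat_neg, flat_zero, neg_add_cancel])]
  decide +kernel

theorem ker_toJ2 : toJ2.ker = (AFive ⊔ Subgroup.center ↥Co0).subgroupOf CFive := by
  ext x
  obtain ⟨⟨a, g⟩, rfl⟩ := pairEquiv.surjective x
  have hval : ∀ p, ((pairEquiv p : ↥CFive) : ↥Co0) = (p.1 : ↥Co0) * iota p.2 := fun _ => rfl
  rw [MonoidHom.mem_ker, Subgroup.mem_subgroupOf, hval]
  have e : toJ2 (pairEquiv (a, g)) = (QuotientGroup.mk g : J2) := by simp [toJ2]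
  rw [e, QuotientGroup.eq_one_iff, center_iff]
  constructor
  · intro h
    refine mul_mem (Subgroup.mem_sup_left a.2) (Subgroup.mem_sup_right ?_)
    rcases h with rfl | rfl
    · rw [map_one]; exact one_mem _
    · rw [iota_negEl]; exact negAut_central
  · intro h
    have hle : AFive ⊔ Subgroup.center ↥Co0 ≤
        ((⊤ : Subgroup ↥AFive).prod (Subgroup.center ↥twoJ2)).map pair := by
      refine sup_le (fun b hb => ⟨(⟨b, hb⟩, 1), ⟨trivial, one_mem _⟩, by simp [pair_apply]⟩) fun b hb => ?_
      rcases center_eq hb with rfl | rfl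
      · exact one_mem _
      · exact ⟨(1, negEl), ⟨trivial, center_iff.mpr (Or.inr rfl)⟩, by simp [pair_apply, iota_negEl]⟩
    obtain ⟨q, hq, eq⟩ := hle h
    have := pair_injective (eq.trans (pair_apply (a, g)).symm)
    subst this
    exact center_iff.mp hq.2

end CfsgHJL
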