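/-
The centraliser of a reflection in the Hall–Janko group has generalized Fitting subgroup
extraspecial of order 32, and the reflection is not weakly closed in it.
-/
import Cfsg.Agent.Lib.HallJanko.ReflCent
import Cfsg.Agent.Lib.Comp.Layer
import Mathlib.GroupTheory.Commutator.Basic

set_option autoImplicit false

namespace CfsgHJL

open Equiv CfsgHJ Cfsg.Spor
open scoped commutatorElement

/-- The code of the base reflection commutes with that of a line. -/
def commB (j : ℕ) : Bool :=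
  (List.range 100).all fun i => Nat.beq (ap (rCode baseLine) (ap (rCode j) i)) (ap (rCode j) (ap (rCode baseLine) i))

/-- Equal on the 100 points to a kernel element. -/
def inKer (f : ℕ → ℕ) : Bool :=
  (List.range 32).any fun k => (List.range 100).all fun i => Nat.beq (f i) (ap (kc k) i)

theorem commuting_in_kernel : ((List.range 315).all fun j => !commB j ||
    (List.range 32).all fun k => inKer fun i => ap (rCode j) (ap (kc k) i)) = true := by
  decide +kernel

theorem moved_line : ((List.range 315).any fun j => commB j && !Nat.beq j baseLine &&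
    rcGens.any fun c => ((List.range 100).any fun i => !Nat.beq (ap c (ap (rCode j) i)) (ap (rCode j) (ap c i))) &&
      (List.range 100).any fun i =>
        !Nat.beq (ap c (ap c (ap (rCode j) i))) (ap (rCode j) (ap c (ap c i)))) = true := by
  decide +kernel

attribute [local irreducible] rcFive rcGens rcKer kc rCode chainData chainRc100

/-- The reflection classes of `J2`. -/
noncomputable def refJ (j : Fin 315) : J2 := QuotientGroup.mk (reflEl j)

/-- The base reflection. -/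
noncomputable def zJ : J2 := refJ base0

theorem refJ_inj : Function.Injective refJ := fun j k h => rho_refl_inj (by
  rw [← hjEquiv_mk, ← hjEquiv_mk, show (QuotientGroup.mk (reflEl j) : J2) = QuotientGroup.mk (reflEl k) from h])

theorem refJ_conj (x : J2) (j : Fin 315) : ∃ i, x * refJ j * x⁻¹ = refJ i := by
  obtain ⟨g, rfl⟩ := QuotientGroup.mk_surjective x
  refine ⟨lineHom g j, ?_⟩
  show (QuotientGroup.mk g : J2) * QuotientGroup.mk (reflEl j) * (QuotientGroup.mk g)⁻¹ = _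
  rw [← QuotientGroup.mk_inv, ← QuotientGroup.mk_mul, ← QuotientGroup.mk_mul, conj_reflEl]
  rfl

theorem refJ_isConj (i j : Fin 315) : IsConj (refJ i) (refJ j) := by
  obtain ⟨g, hg⟩ := exists_lineHom_eq i
  obtain ⟨k, hk⟩ := exists_lineHom_eq j
  have key : ∀ (g : twoJ2), IsConj (refJ base0) (refJ (lineHom g base0)) := fun g =>
    isConj_iff.mpr ⟨QuotientGroup.mk g, by
      show (QuotientGroup.mk g : J2) * QuotientGroup.mk (reflEl base0) * (QuotientGroup.mk g)⁻¹ = _
      rw [← QuotientGroup.mk_inv, ← QuotientGroup.mk_mul, ← QuotientGroup.mk_mul, conj_reflEl]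
      rfl⟩
  exact hg ▸ hk ▸ (key g).symm.trans (key k)

theorem zJ_sq : zJ * zJ = 1 := by
  show (QuotientGroup.mk (reflEl base0) : J2) * QuotientGroup.mk (reflEl base0) = 1
  rw [← QuotientGroup.mk_mul, reflEl_sq, QuotientGroup.mk_one]

theorem zJ_ne : zJ ≠ 1 := by
  intro h
  have hall : ∀ j, refJ j = 1 := fun j => by
    obtain ⟨x, hx⟩ := isConj_iff.mp (refJ_isConj base0 j)
    rw [← hx, show refJ base0 = 1 from h, mul_one, mul_inv_cancel]
  exact absurd (refJ_inj ((hall 0).trans (hall 1).symm)) (by decide)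

theorem orderOf_zJ : orderOf zJ = 2 :=
  orderOf_eq_prime (by rw [pow_two]; exact zJ_sq) zJ_ne

/-- The permutation representation. -/
noncomputable def psiJ : J2 →* Perm (Fin 100) := hjGroup.subtype.comp hjEquiv.toMonoidHom

theorem psiJ_inj : Function.Injective psiJ := Subtype.val_injective.comp hjEquiv.injective

theorem rep_psiJ (j : Fin 315) : Rep 100 (rCode j) (psiJ (refJ j)) := by
  have e : psiJ (refJ j) = rho (reflEl j) := hjEquiv_mk _
  rw [e]
  exact rep_refl j

theorem base0_val : (base0 : ℕ) = baseLine := rfl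

theorem commB_iff (j : Fin 315) : commB j = true ↔ refJ j ∈ Subgroup.centralizer ({zJ} : Set J2) := by
  have hz : ∀ i : Fin 100, ap (rCode baseLine) i = (psiJ zJ i : ℕ) := rep_psiJ base0
  have hj := rep_psiJ j
  rw [Subgroup.mem_centralizer_singleton_iff, commB, List.all_eq_true]
  constructor
  · intro h
    refine psiJ_inj (Equiv.ext fun i => Fin.ext ?_)
    have e := Nat.eq_of_beq_eq_true (h i (List.mem_range.mpr i.2))
    rw [hj i, hz, hz i, hj] at e
    rw [map_mul, map_mul, Perm.mul_apply, Perm.mul_apply]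
    exact e.symm
  · intro h i hi
    rw [List.mem_range] at hi
    have e := congrArg (fun x => ((psiJ x) ⟨i, hi⟩ : ℕ)) h
    simp only [map_mul, Perm.mul_apply] at e
    rw [← hz, ← hj, ← hz ⟨i, hi⟩, ← hj ⟨i, hi⟩] at e
    rw [e.symm]
    exact Nat.beq_refl _

/-- Its kernel elements. -/
def InKer (x : J2) : Prop := ∃ k < 32, ∀ i : Fin 100, ap (kc k) i = (psiJ x i : ℕ)

theorem kc_zero (i : Fin 100) : ap (kc 0) i = i := by
  have h := rc_ker_struct.1
  simp only [List.all_eq_true, List.mem_range, Bool.and_eq_true] at h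
  exact Nat.eq_of_beq_eq_true (h i i.2).1

theorem InKer.pow_four {x : J2} (h : InKer x) : x ^ 4 = 1 := by
  obtain ⟨k, hk, hx⟩ := h
  have hs := rc_ker_struct.2.2
  have h1 := rc_ker_struct.1
  simp only [List.all_eq_true, List.mem_range, Bool.or_eq_true, Bool.and_eq_true] at hs h1
  have hcases : x * x = 1 ∨ x * x = zJ := by
    rcases hs k hk with h | h
    · left
      refine psiJ_inj (Equiv.ext fun i => Fin.ext ?_)
      have e := Nat.eq_of_beq_eq_true (h i i.2)
      rw [hx i, hx] at e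
      rw [map_mul, map_one, Perm.mul_apply, Perm.one_apply]
      exact e
    · right
      refine psiJ_inj (Equiv.ext fun i => Fin.ext ?_)
      have e := (Nat.eq_of_beq_eq_true (h i i.2)).trans (Nat.eq_of_beq_eq_true (h1 i i.2).2)
      rw [hx i, hx] at e
      rw [map_mul, Perm.mul_apply, e]
      exact rep_psiJ base0 i
  rw [show x ^ 4 = (x * x) * (x * x) from (pow_add x 2 2).trans (by rw [pow_two])]
  rcases hcases with e | e <;> rw [e]
  · exact one_mul 1
  · exact zJ_sq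

/-- The subgroup generated by the reflections commuting with the base one. -/
noncomputable def refGrp : Subgroup J2 :=
  Subgroup.closure {x | (∃ j, refJ j = x) ∧ x ∈ Subgroup.centralizer ({zJ} : Set J2)}

theorem refGrp_inKer {x : J2} (hx : x ∈ refGrp) : InKer x := by
  have h1 : InKer (1 : J2) := ⟨0, by norm_num, fun i => by rw [kc_zero, map_one]; rfl⟩
  have step : ∀ x ∈ {x | (∃ j, refJ j = x) ∧ x ∈ Subgroup.centralizer ({zJ} : Set J2)}, ∀ y,
      InKer y → InKer (x * y) := by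
    rintro _ ⟨⟨j, rfl⟩, hj⟩ y ⟨k, hk, hy⟩
    have h := List.all_eq_true.mp commuting_in_kernel j (List.mem_range.mpr j.2)
    rw [(commB_iff j).mpr hj, Bool.not_true, Bool.false_or, List.all_eq_true] at h
    have h' := h k (List.mem_range.mpr hk)
    simp only [inKer, List.any_eq_true, List.all_eq_true, List.mem_range] at h'
    obtain ⟨l, hl, hl'⟩ := h'
    refine ⟨l, hl, fun i => ?_⟩
    rw [← Nat.eq_of_beq_eq_true (hl' i i.2), map_mul, Perm.mul_apply, hy i, rep_psiJ j]
  induction hx using Subgroup.closure_induction_left with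
  | one => exact h1
  | mul_left x hx y _ hy => exact step x hx y hy
  | inv_mul_cancel x hx y _ hy =>
    obtain ⟨⟨j, rfl⟩, hj⟩ := hx
    have hinv : (refJ j)⁻¹ = refJ j := inv_eq_of_mul_eq_one_right (by
      show (QuotientGroup.mk (reflEl j) : J2) * QuotientGroup.mk (reflEl j) = 1
      rw [← QuotientGroup.mk_mul, reflEl_sq, QuotientGroup.mk_one])
    rw [hinv]
    exact step _ ⟨⟨j, rfl⟩, hj⟩ y hy

theorem refGrp_le : refGrp ≤ Subgroup.centralizer ({zJ} : Set J2) :=
  (Subgroup.closure_le _).mpr fun _ h => h.2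

theorem refGrp_normal : (refGrp.subgroupOf (Subgroup.centralizer ({zJ} : Set J2))).Normal := by
  rw [Subgroup.normal_subgroupOf_iff_le_normalizer refGrp_le]
  intro c hc
  have key : ∀ d ∈ Subgroup.centralizer ({zJ} : Set J2), ∀ x ∈ refGrp, d * x * d⁻¹ ∈ refGrp := by
    intro d hd x hx
    induction hx using Subgroup.closure_induction with
    | mem x hx =>
      obtain ⟨⟨j, rfl⟩, hj⟩ := hx
      obtain ⟨i, hi⟩ := refJ_conj d j
      exact Subgroup.subset_closure ⟨⟨i, hi.symm⟩, mul_mem (mul_mem hd hj) (inv_mem hd)⟩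
    | one => simp
    | mul x y _ _ ihx ihy => rw [show d * (x * y) * d⁻¹ = d * x * d⁻¹ * (d * y * d⁻¹) by group]; exact mul_mem ihx ihy
    | inv x _ ihx => rw [show d * x⁻¹ * d⁻¹ = (d * x * d⁻¹)⁻¹ by group]; exact inv_mem ihx
  rw [Subgroup.mem_normalizer_iff]
  intro x
  refine ⟨key c hc x, fun h => ?_⟩
  have := key c⁻¹ (inv_mem hc) _ h
  simpa [mul_assoc] using this

theorem exists_moved : ∃ (j : Fin 315) (c : J2), refJ j ∈ refGrp ∧ refJ j ≠ zJ ∧
    c ∈ Subgroup.centralizer ({zJ} : Set J2) ∧ c * refJ j ≠ refJ j * c ∧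
      c * c * refJ j ≠ refJ j * (c * c) := by
  have h := moved_line
  simp only [List.any_eq_true, List.mem_range, Bool.and_eq_true, Bool.not_eq_true'] at h
  obtain ⟨j, hj, ⟨hcomm, hne⟩, c, hc, ⟨i, hi, h1⟩, i', hi', h2⟩ := h
  obtain ⟨p, hp⟩ := valid_of_isPermList rc_perm c hc
  have hh := List.all_eq_true.mp rc_hundred.2.2 c hc
  simp only [Bool.and_eq_true, List.all_eq_true, List.mem_range] at hh
  have hpm := ((chain_sound (by norm_num) chain_check valid_gens).mem_iff _ _ hp).mp hh.1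
  have hψ : psiJ (hjEquiv.symm ⟨p, hpm⟩) = p := by simp [psiJ]
  have hj' := rep_psiJ ⟨j, hj⟩
  have hz : ∀ i : Fin 100, ap (rCode baseLine) i = (psiJ zJ i : ℕ) := rep_psiJ base0
  refine ⟨⟨j, hj⟩, hjEquiv.symm ⟨p, hpm⟩, Subgroup.subset_closure ⟨⟨_, rfl⟩, (commB_iff ⟨j, hj⟩).mp hcomm⟩,
    fun e => ?_, Subgroup.mem_centralizer_singleton_iff.mpr (psiJ_inj (Equiv.ext fun k => Fin.ext ?_)), ?_, ?_⟩
  · have := congrArg Fin.val (refJ_inj e)
    rw [show (baseLine : ℕ) = j from this.symm, Nat.beq_refl] at hne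
    exact Bool.noConfusion hne
  · rw [map_mul, map_mul, hψ, Perm.mul_apply, Perm.mul_apply]
    have e := Nat.eq_of_beq_eq_true (hh.2 k k.2)
    rw [hz k, hp, hp k, hz] at e
    exact e
  · intro e
    have e' := congrArg (fun x => ((psiJ x) ⟨i, hi⟩ : ℕ)) e
    simp only [map_mul, hψ, Perm.mul_apply] at e'
    rw [← hp, ← hj' ⟨i, hi⟩, ← hj', ← hp ⟨i, hi⟩] at e'
    rw [e', Nat.beq_refl] at h1
    exact Bool.noConfusion h1
  · intro e
    have e' := congrArg (fun x => ((psiJ x) ⟨i', hi'⟩ : ℕ)) e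
    simp only [map_mul, hψ, Perm.mul_apply] at e'
    rw [← hp, ← hp, ← hj' ⟨i', hi'⟩, ← hj', ← hp, ← hp ⟨i', hi'⟩] at e'
    rw [e', Nat.beq_refl] at h2
    exact Bool.noConfusion h2

theorem hypothesis : ∃ (Q : Subgroup ↥(Subgroup.centralizer ({zJ} : Set J2))) (_ : Q.Normal),
    Cfsg.generalizedFittingSubgroup ↥(Subgroup.centralizer ({zJ} : Set J2)) = Q ∧ Cfsg.IsExtraspecial 2 Q ∧
    Nat.card Q = 2 ^ 5 ∧ Nonempty (↥(Subgroup.centralizer ({zJ} : Set J2)) ⧸ Q ≃* alternatingGroup (Fin 5)) ∧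
    ∃ g : J2, (∃ hq : g * zJ * g⁻¹ ∈ Subgroup.centralizer ({zJ} : Set J2),
      (⟨g * zJ * g⁻¹, hq⟩ : ↥(Subgroup.centralizer ({zJ} : Set J2))) ∈ Q) ∧ g * zJ * g⁻¹ ≠ zJ := by
  classical
  haveI : Finite J2 := Nat.finite_of_card_ne_zero (by rw [card_J2]; norm_num)
  haveI : Fact (Nat.Prime 2) := ⟨Nat.prime_two⟩
  set C := Subgroup.centralizer ({zJ} : Set J2) with hC
  have hshape : IsExtraByA5 ↥C :=
    refl_centralizer (lineRefl base0) (isRefl_iff.mpr ⟨_, _, rfl⟩) (lineRefl_mem base0)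
  obtain ⟨Q, hQn, hcard, hex, ⟨e⟩⟩ := hshape.shape
  haveI := hQn
  have hQp : IsPGroup 2 ↥Q := IsPGroup.of_card (n := 5) (by rw [hcard]; norm_num)
  let π : ↥C →* alternatingGroup (Fin 5) := e.toMonoidHom.comp (QuotientGroup.mk' Q)
  have πs : Function.Surjective π := e.surjective.comp (QuotientGroup.mk'_surjective Q)
  have πk : π.ker = Q := by
    rw [MonoidHom.ker_comp_of_injective _ _ e.injective, QuotientGroup.ker_mk']
  haveI : IsSimpleGroup (alternatingGroup (Fin 5)) := alternatingGroup.isSimpleGroup_five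
  have hsplit : ∀ N : Subgroup ↥C, N.Normal → N ≤ Q ∨ N.map π = ⊤ := by
    intro N hN
    rcases (hN.map π πs).eq_bot_or_eq_top with h | h
    · left; rwa [Subgroup.map_eq_bot_iff, πk] at h
    · exact Or.inr h
  have htwo : ∀ N : Subgroup ↥C, N.Normal → IsPGroup 2 ↥N → N ≤ Q := by
    intro N hN hp
    refine (hsplit N hN).resolve_right fun h => ?_
    have h2 : IsPGroup 2 ↥(alternatingGroup (Fin 5)) := by
      have := hp.map π
      rw [h] at this
      exact this.of_equiv Subgroup.topEquiv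
    obtain ⟨k, hk⟩ := IsPGroup.iff_card.mp h2
    rw [nat_card_alternatingGroup, Nat.card_fin] at hk
    have h3 : 3 ∣ 2 ^ k := by rw [← hk]; decide
    exact absurd (Nat.prime_three.dvd_of_dvd_pow h3) (by norm_num)
  haveI : (Cfsg.pCore 2 ↥C).Normal := Subgroup.sSup_normal _ (fun _ h => h.1)
  have hcore : Cfsg.pCore 2 ↥C = Q :=
    le_antisymm (sSup_le fun N hN => htwo N hN.1 hN.2) (le_sSup ⟨hQn, hQp⟩)
  have hK : refGrp.subgroupOf C ≤ Q := htwo _ refGrp_normal fun x =>
    ⟨2, Subtype.ext (Subtype.ext (by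
      simpa using (refGrp_inKer (x := ((x : ↥C) : J2)) x.2).pow_four))⟩
  obtain ⟨j, c, hj, hjz, hc, hc1, hc2⟩ := exists_moved
  let x : ↥C := ⟨refJ j, refGrp_le hj⟩
  have hxQ : x ∈ Q := hK hj
  have hcen : Subgroup.centralizer (Q : Set ↥C) ≤ Q := by
    refine (hsplit _ inferInstance).resolve_right fun h => ?_
    -- the conjugates of `x` would form at most two elements
    have hdec : ∀ d : ↥C, ∃ q ∈ Q, d * x * d⁻¹ = q * x * q⁻¹ := by
      intro d
      obtain ⟨y, hy, hyd⟩ : π d ∈ (Subgroup.centralizer (Q : Set ↥C)).map π := h ▸ Subgroup.mem_top _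
      have hq : d * y⁻¹ ∈ Q := by
        rw [← πk, MonoidHom.mem_ker, map_mul, map_inv, hyd, mul_inv_cancel]
      refine ⟨_, hq, ?_⟩
      have hyx : y⁻¹ * x = x * y⁻¹ :=
        ((Commute.inv_right (Subgroup.mem_centralizer_iff.mp hy x hxQ : Commute x y))).symm.eq
      rw [mul_inv_rev, inv_inv]
      calc d * x * d⁻¹ = d * (x * y⁻¹) * y * d⁻¹ := by group
        _ = d * y⁻¹ * x * (y * d⁻¹) := by rw [← hyx]; group
    have hcl : ∀ q ∈ Q, ∀ hq' : q * x * q⁻¹ * x⁻¹ ∈ Q, (⟨_, hq'⟩ : ↥Q) ∈ Subgroup.center ↥Q := by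
      intro q hq hq'
      rw [← hex.1.2.2]
      rw [show (⟨q * x * q⁻¹ * x⁻¹, hq'⟩ : ↥Q) = ⁅(⟨q, hq⟩ : ↥Q), (⟨x, hxQ⟩ : ↥Q)⁆ from
        Subtype.ext (by simp [commutatorElement_def]), commutator_def]
      exact Subgroup.commutator_mem_commutator (Subgroup.mem_top _) (Subgroup.mem_top _)
    obtain ⟨q1, hq1, e1⟩ := hdec ⟨c, hc⟩
    obtain ⟨q2, hq2, e2⟩ := hdec (⟨c, hc⟩ * ⟨c, hc⟩)
    have m : ∀ q ∈ Q, q * x * q⁻¹ * x⁻¹ ∈ Q := fun q hq =>
      mul_mem (mul_mem (mul_mem hq hxQ) (inv_mem hq)) (inv_mem hxQ)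
    haveI : Fintype (Subgroup.center ↥Q) := Fintype.ofFinite _
    let f : Fin 3 → Subgroup.center ↥Q := ![1, ⟨_, hcl q1 hq1 (m q1 hq1)⟩, ⟨_, hcl q2 hq2 (m q2 hq2)⟩]
    have hd : ∀ d : ↥C, d * x * d⁻¹ * x⁻¹ = 1 → (d : J2) * refJ j = refJ j * d := fun d h => by
      have := congrArg Subtype.val (mul_inv_eq_iff_eq_mul.mp (mul_inv_eq_one.mp h))
      exact this
    have n1 : q1 * x * q1⁻¹ * x⁻¹ ≠ 1 := fun h => hc1 (hd ⟨c, hc⟩ (by rw [e1]; exact h))
    have n2 : q2 * x * q2⁻¹ * x⁻¹ ≠ 1 := fun h => hc2 (hd (⟨c, hc⟩ * ⟨c, hc⟩) (by rw [e2]; exact h))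
    have n12 : q1 * x * q1⁻¹ * x⁻¹ ≠ q2 * x * q2⁻¹ * x⁻¹ := fun h => by
      have h' := mul_right_cancel h
      rw [← e1, ← e2] at h'
      refine hc1 (hd ⟨c, hc⟩ ?_)
      have : (⟨c, hc⟩ : ↥C) * x * (⟨c, hc⟩ : ↥C)⁻¹ = x := by
        calc _ = (⟨c, hc⟩ : ↥C)⁻¹ * ((⟨c, hc⟩ * ⟨c, hc⟩) * x * (⟨c, hc⟩ * ⟨c, hc⟩)⁻¹) * ⟨c, hc⟩ := by group
          _ = (⟨c, hc⟩ : ↥C)⁻¹ * (⟨c, hc⟩ * x * (⟨c, hc⟩ : ↥C)⁻¹) * ⟨c, hc⟩ := by rw [← h']
          _ = x := by group
      rw [this, mul_inv_cancel]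
    have finj : Function.Injective f := by
      intro a b hab
      have h' := congrArg (fun t : Subgroup.center ↥Q => ((t : ↥Q) : ↥C)) hab
      fin_cases a <;> fin_cases b <;>
        first | rfl | exact absurd h' n12 | exact absurd h'.symm n12 | exact absurd h' n1 |
          exact absurd h'.symm n1 | exact absurd h' n2 | exact absurd h'.symm n2
    have := Fintype.card_le_of_injective f finj
    rw [Fintype.card_fin, ← Nat.card_eq_fintype_card, hex.2] at this
    omega
  refine ⟨Q, hQn, ?_, hex, by rw [hcard]; norm_num, ⟨e⟩, ?_⟩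
  · rw [(CfsgLib.Comp.gfit_eq_pCore_iff 2).mpr (by rw [hcore]; exact hcen), hcore]
  · obtain ⟨g, hg⟩ := isConj_iff.mp (refJ_isConj base0 j)
    refine ⟨g, ⟨hg ▸ refGrp_le hj, ?_⟩, by rw [show g * zJ * g⁻¹ = refJ j from hg]; exact hjz⟩
    have : (⟨g * zJ * g⁻¹, hg ▸ refGrp_le hj⟩ : ↥C) = x := Subtype.ext hg
    exact this ▸ hxQ

end CfsgHJL
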